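import Cfsg.Agent.OddCyclic.EmpLine.BcK

/-!
# The exits: (red*) if `C(z)` is of type `bc`

`Pre.red_bc`: `Y ≤ ws V z` normal in `C(z)`, `C(z)` of type `BcW` on `Y`: then `L*` centralises `Y`.
-/

set_option autoImplicit false

namespace Cfsg.Agent.OddCyclic.EmpLine

open Subgroup Cfsg Cfsg.Agent.ZN
open Cfsg.Agent.MinSimple.Geo (ws)
open Cfsg.Agent.OddCyclic.EN.BbDefs (IsStar)

universe u

variable {G : Type u} [Group G] [Finite G] {S V : Subgroup G} {z : G}

/-- **(red\*), type `bc`** -/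
theorem Pre.red_bc (h : Pre S V z) {Y Lb L : Subgroup G} (hY : Y ≤ ws V z)
    (hn : centralizer ({z} : Set G) ≤ normalizer (Y : Set G))
    (hb : EmpTI.BcW (centralizer ({z} : Set G)) S Y Lb) (hs : IsStar L) (hL : L ≤ centralizer ({z} : Set G))
    (hLn : centralizer ({z} : Set G) ≤ normalizer (L : Set G)) (hmv : ¬ L ≤ centralizer (V : Set G)) :
    L ≤ centralizer (Y : Set G) := by
  by_contra hLY
  have c : Cx S V z L := { toPre := h, star := hs, L_le := hL, L_nor := hLn, L_mv := hmv }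
  obtain ⟨Y', m⟩ := c.exists_md hn hY hb hLY
  exact m.false

end Cfsg.Agent.OddCyclic.EmpLine
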