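import Mathlib
import Cfsg.Agent.OddCyclic.EmpFrame
import Cfsg.Agent.OddCyclic.GeoC

/-!
# The `S₃`-line of (Empty): `J(S) ≤ C(V)`, `|Ω₁Z(S)| = 2`

`SLine S V z`: the output of part (III) of (Empty).  Consequences:

* `SLine.zl_le` : `⟨z^X⟩ ≤ vv S` for every 2-local `X ≥ S`;
* `SLine.tri` (tri*) : a 2-local `X ≥ S` is contained in `C(z)`, or `V ≤ V_X = ⟨z^X⟩` and `X ∩ C(z)` acts on `V_X` as a
  `{2,3}`-group;
* `SLine.uniq4` : `V` is the only four-group `W` normalised, not centralised by `S` with `N(W)` transitive on `W#`;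
* `SLine.geoC` : `GeoC S V z`;
* `SLine.emp_le` : `J` centralises the 2-reduced normal subgroups `Y ≤ Ω₁Z(O₂(X))` of 2-locals `X ≥ S`.
-/

set_option autoImplicit false
set_option linter.unusedSectionVars false

namespace Cfsg.Agent.OddCyclic.EmpLine

open Subgroup Cfsg Cfsg.Agent.ZN Cfsg.Agent.ZN.ChoiceBase Cfsg.Agent.ZN.ChoiceSit
open Cfsg.Agent.MinSimple Cfsg.Agent.MinSimple.EmptyTI Cfsg.Agent.MinSimple.EmptySix
open Cfsg.Agent.MinSimple.EmptyE.Closed (LL CC vv_comm vv_sq vv_mul_self vv_inv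
  isPGroup_vv vv_le_jj vv_le jj_le_centralizer_vv conj_mem_vv cj_vv)
open Cfsg.Agent.OddCyclic.EmpFrame
open Cfsg.Agent.OddCyclic.GeoC (GeoC)

universe u

variable {G : Type u} [Group G] [Finite G]

/-- The `S₃`-line of (Empty). -/
structure SLine (S : Sylow 2 G) (V : Subgroup G) (z : G) : Prop where
  ens : ENS S
  z_ne : z ≠ 1
  /-- `Ω₁Z(S) = ⟨z⟩` -/
  zc_eq : zc (S : Subgroup G) = zpowers z
  card_V : Nat.card V = 4
  V_le : V ≤ vv (S : Subgroup G)
  z_mem : z ∈ V
  S_norm : (S : Subgroup G) ≤ normalizer (V : Set G)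
  trans : ∀ v ∈ V, v ≠ 1 → ∃ g ∈ normalizer (V : Set G), g * z * g⁻¹ = v
  /-- `C_L(z)` acts on `V_J = vv S` as a `{2,3}`-group -/
  two_three : ∀ c ∈ LL (S : Subgroup G), c * z = z * c →
    ∃ i j : ℕ, c ^ (2 ^ i * 3 ^ j) ∈ centralizer (vv (S : Subgroup G) : Set G)
  /-- the `S`-invariant subgroups of `vv S` outside `⟨z⟩` contain `V` -/
  uni : ∀ U ≤ vv (S : Subgroup G), (S : Subgroup G) ≤ normalizer (U : Set G) → U ≤ zpowers z ∨ V ≤ U
  core : ∀ U : Subgroup G, IsPGroup 2 U → normalizer (V : Set G) ≤ normalizer (U : Set G) →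
    centralizer ({z} : Set G) ≤ normalizer (U : Set G) → U = ⊥

namespace SLine

variable {S : Sylow 2 G} {V : Subgroup G} {z : G}

theorem z_zc (h : SLine S V z) : z ∈ zc (S : Subgroup G) := by rw [h.zc_eq]; exact mem_zpowers z

theorem zz (h : SLine S V z) : z * z = 1 := vv_mul_self (h.V_le h.z_mem)

theorem S_le (h : SLine S V z) : (S : Subgroup G) ≤ centralizer ({z} : Set G) := by
  intro s hs
  rw [mem_centralizer_singleton_iff]
  exact (ChoiceBase.mem_zc.1 h.z_zc).2.2 s hs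

/-- `⟨z^X⟩ ≤ vv S` for a 2-local `X ≥ S` -/
theorem zl_le (h : SLine S V z) {X : Subgroup G} (hX : IsTwoLocal X) (hSX : (S : Subgroup G) ≤ X) :
    zl (S : Subgroup G) X ≤ vv (S : Subgroup G) := by
  refine iSup_le fun x => ?_
  have h1 := frattini_jcl S ((ChoiceBase.jj_le _).trans hSX) x.2
  have h2 : (X ⊓ normalizer (jj (S : Subgroup G) : Set G) : Subgroup G) ≤
      normalizer ((jcl (jj (S : Subgroup G)) X : Subgroup G) : Set G) :=
    inf_le_left.trans (le_normalizer_jcl _ _)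
  rw [← SetLike.mem_coe, coe_mul_of_right_le_normalizer_left _ _ h2] at h1
  obtain ⟨k, hk, n, hn, hkn⟩ := h1
  rintro _ ⟨y, hy, rfl⟩
  change (x : G) * y * (x : G)⁻¹ ∈ vv (S : Subgroup G)
  have h3 : n * y * n⁻¹ ∈ vv (S : Subgroup G) := by
    have h4 := VModule.le_normalizer_zl (S : Subgroup G) (normalizer (jj (S : Subgroup G) : Set G)) hn.2
    exact (mem_normalizer_iff.1 h4 y).1 (VModule.zc_le_zl _ _ hy)
  have h5 : n * y * n⁻¹ ∈ zl (S : Subgroup G) X := by
    have h4 := VModule.le_normalizer_zl (S : Subgroup G) X hn.1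
    exact (mem_normalizer_iff.1 h4 y).1 (VModule.zc_le_zl _ _ hy)
  have h6 := mem_centralizer_iff.1 (h.ens.jcl_le_centralizer hX hSX hk) _ h5
  have h7 : (x : G) * y * (x : G)⁻¹ = n * y * n⁻¹ := by
    rw [← hkn]
    change k * n * y * (k * n)⁻¹ = n * y * n⁻¹
    calc k * n * y * (k * n)⁻¹ = k * (n * y * n⁻¹) * k⁻¹ := by group
      _ = n * y * n⁻¹ * k * k⁻¹ := by rw [h6]
      _ = n * y * n⁻¹ := by group
  rw [h7]; exact h3

/-- (tri*) -/
theorem tri (h : SLine S V z) {X : Subgroup G} (hX : IsTwoLocal X) (hSX : (S : Subgroup G) ≤ X) :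
    X ≤ centralizer ({z} : Set G) ∨ (V ≤ zl (S : Subgroup G) X ∧
      ∀ c ∈ X, c * z = z * c → ∃ i j : ℕ, c ^ (2 ^ i * 3 ^ j) ∈ centralizer (zl (S : Subgroup G) X : Set G)) := by
  rcases h.uni _ (h.zl_le hX hSX) (hSX.trans (VModule.le_normalizer_zl _ _)) with h1 | h1
  · left
    intro x hx
    rw [mem_centralizer_singleton_iff]
    have h2 : x * z * x⁻¹ ∈ zl (S : Subgroup G) X :=
      (mem_normalizer_iff.1 (VModule.le_normalizer_zl (S : Subgroup G) X hx) z).1 (VModule.zc_le_zl _ _ h.z_zc)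
    rcases (Geo.mem_zpowers_iff_of_mul_self h.zz).1 (h1 h2) with h3 | h3
    · exact absurd (by
        have : z = x⁻¹ * (x * z * x⁻¹) * x := by group
        rw [this, h3]; group : z = 1) h.z_ne
    · calc x * z = (x * z * x⁻¹) * x := by group
        _ = z * x := by rw [h3]
  · right
    refine ⟨h1, fun c hc hcz => ?_⟩
    have h3 := frattini_jcl S ((ChoiceBase.jj_le _).trans hSX) hc
    have h2 : (X ⊓ normalizer (jj (S : Subgroup G) : Set G) : Subgroup G) ≤
        normalizer ((jcl (jj (S : Subgroup G)) X : Subgroup G) : Set G) :=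
      inf_le_left.trans (le_normalizer_jcl _ _)
    rw [← SetLike.mem_coe, coe_mul_of_right_le_normalizer_left _ _ h2] at h3
    obtain ⟨k, hk, n, hn, hkn⟩ := h3
    change k * n = c at hkn
    have hkC := h.ens.jcl_le_centralizer hX hSX hk
    have hkz : k * z = z * k := (mem_centralizer_iff.1 hkC z (VModule.zc_le_zl _ _ h.z_zc)).symm
    have hnz : n * z = z * n := by
      have : n = k⁻¹ * c := by rw [← hkn]; group
      rw [this]
      calc k⁻¹ * c * z = k⁻¹ * (c * z) := by group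
        _ = k⁻¹ * z * c := by rw [hcz]; group
        _ = k⁻¹ * (z * k) * (k⁻¹ * c) := by group
        _ = k⁻¹ * (k * z) * (k⁻¹ * c) := by rw [hkz]
        _ = z * (k⁻¹ * c) := by group
    obtain ⟨i, j, hij⟩ := h.two_three n (h.ens.normalizer_le_LL hn.2) hnz
    refine ⟨i, j, ?_⟩
    -- modulo the normal subgroup `C_X(V_X)`
    have hnX : ∀ x ∈ X, ∀ y ∈ centralizer (zl (S : Subgroup G) X : Set G),
        x * y * x⁻¹ ∈ centralizer (zl (S : Subgroup G) X : Set G) := by
      intro x hx y hy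
      have h1 : x ∈ normalizer ((centralizer (zl (S : Subgroup G) X : Set G) : Subgroup G) : Set G) := by
        rw [mem_normalizer_iff_cj, cj_centralizer,
          cj_eq_of_mem_normalizer (VModule.le_normalizer_zl (S : Subgroup G) X hx)]
      exact (mem_normalizer_iff.1 h1 y).1 hy
    have h5 : ∀ m : ℕ, (k * n) ^ m * (n ^ m)⁻¹ ∈ centralizer (zl (S : Subgroup G) X : Set G) := by
      intro m
      induction m with
      | zero => simp
      | succ m ih =>
        have e : (k * n) ^ (m + 1) * (n ^ (m + 1))⁻¹ =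
            (k * n) ^ m * (n ^ m)⁻¹ * (n ^ m * k * (n ^ m)⁻¹) := by
          rw [pow_succ, pow_succ]; group
        rw [e]
        exact mul_mem ih (hnX _ (pow_mem hn.1 m) k hkC)
    have h6 := h5 (2 ^ i * 3 ^ j)
    have h7 : n ^ (2 ^ i * 3 ^ j) ∈ centralizer (zl (S : Subgroup G) X : Set G) :=
      centralizer_le (h.zl_le hX hSX) hij
    have h8 := mul_mem h6 h7
    rw [inv_mul_cancel_right, hkn] at h8
    exact h8

/-- `V` is the only four-group `W` with `S ≤ N(W)` and `N(W)` transitive on `W#` -/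
theorem uniq4 (h : SLine S V z) {W : Subgroup G} (hW : Nat.card W = 4)
    (hS : (S : Subgroup G) ≤ normalizer (W : Set G)) (hWS : IsPGroup 2 W)
    (htr : ∀ w ∈ W, w ≠ 1 → ∃ g ∈ normalizer (W : Set G), g * z * g⁻¹ = w) : W = V := by
  have hne : W ≠ ⊥ := by
    intro h0
    rw [h0, Nat.card_unique] at hW
    omega
  have hX : IsTwoLocal (normalizer (W : Set G)) := ⟨W, hWS, hne, rfl⟩
  have h1 : W ≤ zl (S : Subgroup G) (normalizer (W : Set G)) := by
    intro w hw
    by_cases hw1 : w = 1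
    · rw [hw1]; exact one_mem _
    · obtain ⟨g, hg, rfl⟩ := htr w hw hw1
      exact (mem_normalizer_iff.1 (VModule.le_normalizer_zl (S : Subgroup G) _ hg) z).1
        (VModule.zc_le_zl _ _ h.z_zc)
  have h2 : W ≤ vv (S : Subgroup G) := h1.trans (h.zl_le hX hS)
  rcases h.uni W h2 hS with h3 | h3
  · exfalso
    have h4 : Nat.card W ≤ Nat.card (zpowers z) := Nat.card_le_card_of_injective _ (inclusion_injective h3)
    rw [hW, Nat.card_zpowers] at h4
    have h5 : orderOf z ≤ 2 := orderOf_le_of_pow_eq_one (by norm_num) (by rw [pow_two]; exact h.zz)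
    omega
  · exact (eq_of_le_of_card_ge h3 (by rw [hW, h.card_V])).symm

theorem V_isPGroup (h : SLine S V z) : IsPGroup 2 V := isPGroup_vv.to_le h.V_le

/-- the geometry `GeoC S V z` -/
theorem geoC (h : SLine S V z) : GeoC (S : Subgroup G) V z where
  charTwo := h.ens.hyp.char2
  cyc := h.ens.hyp.cyc
  two := S.isPGroup'
  T_le := h.S_le
  T_syl := by
    have h1 := syl_not_dvd (syl_of_le h.S_le)
    exact h1
  V_le := h.V_le.trans vv_le
  T_norm := h.S_norm
  T_syl' := syl_not_dvd (syl_of_le h.S_norm)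
  card_V := h.card_V
  sq := fun v hv => vv_mul_self (h.V_le hv)
  z_mem := h.z_mem
  z_ne := h.z_ne
  trans := h.trans
  soc := by
    intro t ht htt htc
    have h1 : t ∈ zc (S : Subgroup G) := ChoiceBase.mem_zc.2 ⟨ht, by rw [pow_two]; exact htt, htc⟩
    rw [h.zc_eq] at h1
    exact (Geo.mem_zpowers_iff_of_mul_self h.zz).1 h1
  core := h.core
  uniq := by
    intro g hg hgz
    have hgz' : g⁻¹ * z * g = z := by
      calc g⁻¹ * z * g = g⁻¹ * (z * g) := by group
        _ = g⁻¹ * (g * z) := by rw [hgz]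
        _ = z := by group
    have hW : cj g V = V := by
      refine h.uniq4 (by rw [card_cj]; exact h.card_V) ?_ (h.V_isPGroup.map _) ?_
      · intro s hs
        have h1 : g⁻¹ * s * g ∈ (S : Subgroup G) := by
          have := (mem_normalizer_iff.1 (inv_mem hg) s).1 hs
          rwa [inv_inv] at this
        rw [← cj_normalizer, mem_cj]
        exact h.S_norm h1
      · intro w hw hw1
        rw [mem_cj] at hw
        obtain ⟨k, hk, hkw⟩ := h.trans _ hw (fun e => hw1 (by
          have : w = g * (g⁻¹ * w * g) * g⁻¹ := by group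
          rw [this, e]; group))
        refine ⟨g * k * g⁻¹, ?_, ?_⟩
        · rw [← cj_normalizer, mem_cj]
          have e : g⁻¹ * (g * k * g⁻¹) * g = k := by group
          rw [e]; exact hk
        · calc g * k * g⁻¹ * z * (g * k * g⁻¹)⁻¹ = g * (k * (g⁻¹ * z * g) * k⁻¹) * g⁻¹ := by group
            _ = w := by rw [hgz', hkw]; group
    exact mem_normalizer_iff_cj.2 hW

/-- (EMP) for `Y ≤ Ω₁Z(O₂(X))`, `X ≥ S` a 2-local -/
theorem emp_le (h : SLine S V z) {X Y : Subgroup G} (hX : IsTwoLocal X) (hSX : (S : Subgroup G) ≤ X)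
    (hY : Y ≤ zc (o2 X)) (hn : X ≤ normalizer (Y : Set G))
    (hD : ∀ D : Subgroup G, D ≤ X → X ≤ normalizer (D : Set G) →
      (∀ d ∈ D, ∃ c ∈ centralizer (Y : Set G), ∃ t ∈ (S : Subgroup G), d = c * t) →
      D ≤ centralizer (Y : Set G)) : jj (S : Subgroup G) ≤ centralizer (Y : Set G) ∨
        ∃ L : Subgroup G, EmpTI.BcW X (S : Subgroup G) (Y ⊔ zl (S : Subgroup G) X) L :=
  h.ens.empw X S Y (o2_ne_bot_of_isTwoLocal hX) (char2_of_isTwoLocal h.ens.hyp.char2 hX) hSX S.isPGroup'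
    (syl_not_dvd (syl_of_le hSX)) (ChoiceBase.bau_le _) hY hn hD

end SLine

end Cfsg.Agent.OddCyclic.EmpLine
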