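import Cfsg.Agent.OddCyclic.EN.Bb
import Cfsg.Agent.OddCyclic.EmpTI
import Cfsg.Agent.S0144

/-!
# The exits of (Empty) and [Bc]: the frame `Pre`

* `le_centralizer_of_two_three`: a perfect group acting as a `{2,3}`-group acts trivially (Burnside);
* `Pre S V z` : `GeoC`, `ws V z` abelian, (four), (tri*) of `EN.BbDefs.Bb`;
* `Pre.F2`: a 2-local `X ≥ S L`, `L` perfect, `L ≤ C(z)`, `L` moving `V`, is contained in `C(z)`.
-/

set_option autoImplicit false
set_option linter.unusedSectionVars false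

namespace Cfsg.Agent.OddCyclic.EmpLine

open Subgroup Cfsg Cfsg.Agent.ZN Cfsg.Agent.ZN.ChoiceBase
open Cfsg.Agent.MinSimple.Geo (ws lines le_ws ws_le inv_eq_self mem_zpowers_iff_of_mul_self)
open Cfsg.Agent.OddCyclic.GeoC (GeoC)
open Cfsg.Agent.OddCyclic.EN.BbDefs (IsStar vx)
open scoped commutatorElement

universe u

variable {G : Type u} [Group G] [Finite G]

/-- a perfect group acting on `W` as a `{2,3}`-group acts trivially -/
theorem le_centralizer_of_two_three {L W : Subgroup G} (hL : ⁅L, L⁆ = L) (hn : L ≤ normalizer (W : Set G))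
    (h : ∀ c ∈ L, ∃ i j : ℕ, c ^ (2 ^ i * 3 ^ j) ∈ centralizer (W : Set G)) : L ≤ centralizer (W : Set G) := by
  let K : Subgroup L := (centralizer (W : Set G)).subgroupOf L
  have hK : K.Normal := by
    refine ⟨fun n hn' g => ?_⟩
    rw [mem_subgroupOf] at hn' ⊢
    have h1 : (g : G) ∈ normalizer ((centralizer (W : Set G) : Subgroup G) : Set G) := by
      rw [mem_normalizer_iff_cj, cj_centralizer, cj_eq_of_mem_normalizer (hn g.2)]
    exact (mem_normalizer_iff.1 h1 _).1 hn'
  have hperf : commutator (L ⧸ K) = ⊤ := by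
    have h1 : commutator L = ⊤ := by
      apply Subgroup.map_injective L.subtype_injective
      rw [commutator_def, Subgroup.map_commutator, ← MonoidHom.range_eq_map, L.range_subtype]
      exact hL
    rw [commutator_def] at h1 ⊢
    have h2 : (⊤ : Subgroup (L ⧸ K)) = (⊤ : Subgroup L).map (QuotientGroup.mk' K) := by
      rw [← MonoidHom.range_eq_map, MonoidHom.range_eq_top.2 (QuotientGroup.mk'_surjective K)]
    rw [h2, ← Subgroup.map_commutator, h1]
  -- the primes
  have hpr : ∀ p : ℕ, p.Prime → p ∣ Nat.card (L ⧸ K) → p = 2 ∨ p = 3 := by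
    intro p hp hd
    have : Fact p.Prime := ⟨hp⟩
    obtain ⟨x, hx⟩ := exists_prime_orderOf_dvd_card' p hd
    obtain ⟨c, rfl⟩ := QuotientGroup.mk_surjective x
    obtain ⟨i, j, hij⟩ := h c c.2
    have h1 : ((c : L ⧸ K)) ^ (2 ^ i * 3 ^ j) = 1 := by
      rw [← QuotientGroup.mk_pow, QuotientGroup.eq_one_iff]
      exact mem_subgroupOf.2 hij
    have h2 : p ∣ 2 ^ i * 3 ^ j := by rw [← hx]; exact orderOf_dvd_of_pow_eq_one h1
    rcases (Nat.Prime.dvd_mul hp).1 h2 with h3 | h3
    · left; exact (Nat.prime_dvd_prime_iff_eq hp Nat.prime_two).1 (hp.dvd_of_dvd_pow h3)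
    · right; exact (Nat.prime_dvd_prime_iff_eq hp Nat.prime_three).1 (hp.dvd_of_dvd_pow h3)
  have hcard : ∃ a b : ℕ, Nat.card (L ⧸ K) = 2 ^ a * 3 ^ b := by
    have hne : Nat.card (L ⧸ K) ≠ 0 := Nat.card_pos.ne'
    obtain ⟨a, m, hm, he⟩ := Nat.exists_eq_pow_mul_and_not_dvd hne 2 (by norm_num)
    have hm0 : m ≠ 0 := by rintro rfl; exact hm (dvd_zero _)
    obtain ⟨b, l, hl, he'⟩ := Nat.exists_eq_pow_mul_and_not_dvd hm0 3 (by norm_num)
    refine ⟨a, b, ?_⟩
    have hl1 : l = 1 := by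
      by_contra hl1
      obtain ⟨p, hp, hpl⟩ := Nat.exists_prime_and_dvd hl1
      have h1 : p ∣ m := by rw [he']; exact hpl.mul_left _
      rcases hpr p hp (by rw [he]; exact h1.mul_left _) with rfl | rfl
      · exact hm h1
      · exact hl hpl
    rw [he, he', hl1, mul_one]
  obtain ⟨a, b, hab⟩ := hcard
  have hsol : Group.IsSolvable (L ⧸ K) := Cfsg.Agent.S0144.result 2 3 a b Nat.prime_two Nat.prime_three hab
  have htriv : ¬ Nontrivial (L ⧸ K) := by
    intro hnt
    exact (Group.IsSolvable.commutator_lt_top_of_nontrivial (L ⧸ K)).ne hperf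
  rw [not_nontrivial_iff_subsingleton] at htriv
  have hKtop : K = ⊤ := QuotientGroup.subsingleton_iff.1 htriv
  intro l hl
  have : (⟨l, hl⟩ : L) ∈ K := by rw [hKtop]; trivial
  exact mem_subgroupOf.1 this

/-- the frame of the exits: `EN.BbDefs.Bb` without `sec`, `nor`, `red` -/
structure Pre (S V : Subgroup G) (z : G) : Prop extends GeoC S V z where
  ab : ∀ a ∈ ws V z, ∀ b ∈ ws V z, a * b = b * a
  /-- `V` is the only four-group normalised by `S` on which `N_G` induces `S₃` -/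
  four : ∀ W : Subgroup G, Nat.card W = 4 → (∀ w ∈ W, w * w = 1) → S ≤ normalizer (W : Set G) →
    ¬ S ≤ centralizer (W : Set G) → (∃ g ∈ normalizer (W : Set G), g * z ≠ z * g) → W = V
  /-- (tri*) -/
  tri : ∀ U : Subgroup G, IsPGroup 2 U → U ≠ ⊥ → S ≤ normalizer (U : Set G) →
    normalizer (U : Set G) ≤ centralizer ({z} : Set G) ∨
    (V ≤ vx (normalizer (U : Set G)) z ∧ ∀ c ∈ normalizer (U : Set G), c ∈ centralizer ({z} : Set G) →
      ∃ i j : ℕ, c ^ (2 ^ i * 3 ^ j) ∈ centralizer ((vx (normalizer (U : Set G)) z : Subgroup G) : Set G))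

theorem le_normalizer_vx (X : Subgroup G) (z : G) : X ≤ normalizer ((vx X z : Subgroup G) : Set G) := by
  have key : ∀ g ∈ X, cj g (vx X z) ≤ vx X z := by
    intro g hg
    rw [cj_le_iff, vx, closure_le]
    rintro _ ⟨x, hx, rfl⟩
    change x * z * x⁻¹ ∈ cj g⁻¹ (closure {y | ∃ x ∈ X, y = x * z * x⁻¹})
    rw [mem_cj]
    apply Subgroup.subset_closure
    exact ⟨g * x, mul_mem hg hx, by group⟩
  intro g hg
  rw [mem_normalizer_iff_cj]
  refine le_antisymm (key g hg) ?_
  have h1 := cj_mono g (key g⁻¹ (inv_mem hg))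
  rwa [cj_cj, mul_inv_cancel, cj_one] at h1

namespace Pre

variable {S V : Subgroup G} {z : G}

/-- **(F2)** -/
theorem F2 (h : Pre S V z) {L U : Subgroup G} (hperf : ⁅L, L⁆ = L) (hLz : L ≤ centralizer ({z} : Set G))
    (hLV : ¬ L ≤ centralizer (V : Set G)) (hU : IsPGroup 2 U) (hU1 : U ≠ ⊥) (hSU : S ≤ normalizer (U : Set G))
    (hLU : L ≤ normalizer (U : Set G)) : normalizer (U : Set G) ≤ centralizer ({z} : Set G) := by
  rcases h.tri U hU hU1 hSU with h1 | ⟨h1, h2⟩
  · exact h1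
  · exfalso
    apply hLV
    refine (le_centralizer_of_two_three hperf (hLU.trans (le_normalizer_vx _ _)) fun c hc => ?_).trans
      (centralizer_le h1)
    exact h2 c (hLU hc) (hLz hc)

end Pre

end Cfsg.Agent.OddCyclic.EmpLine
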