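import Mathlib
import Cfsg.Agent.OddCyclic.EmpLine.Pre
import Cfsg.Agent.OddCyclic.RedRep
import Cfsg.Agent.OddCyclic.RedTy
import Cfsg.Agent.OddCyclic.FFThree
import Cfsg.Agent.OddCyclic.COneSeven
import Cfsg.Agent.OddCyclic.CompBasic
import Cfsg.Agent.MinSimple.CaseD8
import Cfsg.Agent.Lib.CoprimeCommutator

/-!
# The exits, type (1\3) of `C(z)`: module facts

* `exists_rep'`: the group induced by `X` on an abelian `Y`;
* `three_cases`: the elements of order 3 of `N(A)`, `A` a four-group of `L₃(2)`, are in `A u^{±1}`;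
* `comm_fix`: an element `v = [f, u]` of order 2 fixed by `u` of order 3 is trivial.
-/

set_option autoImplicit false
set_option linter.unusedSectionVars false

namespace Cfsg.Agent.OddCyclic.EmpLine

open Subgroup Cfsg Cfsg.Agent.ZN Cfsg.Agent.ZN.ChoiceBase Cfsg.Agent.ZN.ChoiceSit
open Cfsg.Agent.MinSimple Cfsg.Agent.MinSimple.EmptyTI Cfsg.Agent.MinSimple.EmptySix
open Cfsg.Agent.OddCyclic.T1Module Cfsg.Agent.OddCyclic.FFBasic Cfsg.Agent.OddCyclic.FFRed
open Cfsg.Agent.OddCyclic.FFThree Cfsg.Agent.OddCyclic.RedRep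
open Cfsg.Agent.GH.L2Aut (Four)

universe u

/-! ### four-groups of `L₃(2)` -/

section L32

variable {L : Type*} [Group L] [Finite L] {A : Subgroup L} {z a : L}

/-- an element of order 3 normalising the four-group `{1, z, a, za}` -/
theorem three_cycle (h4 : Four z a) (hmem : ∀ x, x ∈ A ↔ x = 1 ∨ x = z ∨ x = a ∨ x = z * a) {w : L}
    (hw : w ∈ normalizer (A : Set L)) (hw3 : w * w * w = 1) :
    (w * z * w⁻¹ = z ∧ w * a * w⁻¹ = a) ∨ (w * z * w⁻¹ = a ∧ w * a * w⁻¹ = z * a) ∨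
      (w * z * w⁻¹ = z * a ∧ w * a * w⁻¹ = z) := by
  have hz : z ∈ A := (hmem z).2 (Or.inr (Or.inl rfl))
  have ha : a ∈ A := (hmem a).2 (Or.inr (Or.inr (Or.inl rfl)))
  have hzz := h4.aa
  have haa := h4.bb
  have hza : z * a = a * z := h4.comm
  have hz1 := h4.a1
  have ha1 := h4.b1
  have hne := h4.ne
  have c3 : ∀ x : L, w * (w * (w * x * w⁻¹) * w⁻¹) * w⁻¹ = x := fun x => by
    have : w * (w * (w * x * w⁻¹) * w⁻¹) * w⁻¹ = (w * w * w) * x * (w * w * w)⁻¹ := by group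
    rw [this, hw3]; group
  have cinj : ∀ x y : L, w * x * w⁻¹ = w * y * w⁻¹ → x = y := fun x y e => by
    have := congrArg (fun t => w⁻¹ * t * w) e
    simpa [mul_assoc] using this
  have cmul : w * (z * a) * w⁻¹ = (w * z * w⁻¹) * (w * a * w⁻¹) := by group
  have h1 := (hmem _).1 ((mem_normalizer_iff.1 hw z).1 hz)
  have h2 := (hmem _).1 ((mem_normalizer_iff.1 hw a).1 ha)
  rcases h1 with h1 | h1 | h1 | h1
  · exact absurd (cinj z 1 (by rw [h1]; group)) hz1
  · rcases h2 with h2 | h2 | h2 | h2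
    · exact absurd (cinj a 1 (by rw [h2]; group)) ha1
    · exact absurd (cinj z a (by rw [h1, h2])) hne
    · exact Or.inl ⟨h1, h2⟩
    · exfalso
      have h3 := c3 a
      have e : z * (z * a) = a := by rw [← mul_assoc, hzz, one_mul]
      rw [h2, cmul, h1, h2, e, h2] at h3
      exact hz1 (mul_eq_right.1 h3)
  · rcases h2 with h2 | h2 | h2 | h2
    · exact absurd (cinj a 1 (by rw [h2]; group)) ha1
    · exfalso
      have h3 := c3 z
      rw [h1, h2, h1] at h3
      exact hne h3.symm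
    · exact absurd (cinj z a (by rw [h1, h2])) hne
    · exact Or.inr (Or.inl ⟨h1, h2⟩)
  · rcases h2 with h2 | h2 | h2 | h2
    · exact absurd (cinj a 1 (by rw [h2]; group)) ha1
    · exact Or.inr (Or.inr ⟨h1, h2⟩)
    · exfalso
      have h3 := c3 z
      have e : z * a * a = z := by rw [mul_assoc, haa, mul_one]
      rw [h1, cmul, h1, h2, e, h1] at h3
      exact ha1 (mul_eq_left.1 h3)
    · exact absurd (cinj z a (by rw [h1, h2])) hne

/-- the elements of order 3 of `N(A)`, `A` a four-group of `L₃(2)`, lie in `A`, `A u` or `A u⁻¹` -/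
theorem three_cases (h : L32 L) (hA : IsFour A) {u v : L} (hu : u ∈ normalizer (A : Set L))
    (hv : v ∈ normalizer (A : Set L)) (hu3 : u * u * u = 1) (hv3 : v * v * v = 1) (hu1 : u ≠ 1) :
    ∃ c ∈ A, v = c ∨ v = c * u ∨ v = c * u⁻¹ := by
  obtain ⟨z, hz, a, ha, h4, hmem⟩ := hA.exists_four
  have hcent : ∀ x : L, x * z * x⁻¹ = z → x * a * x⁻¹ = a → x ∈ A := by
    intro x h1 h2
    refine (hmem x).2 (h.cent z a x h4 ?_ ?_)
    · rwa [mul_inv_eq_iff_eq_mul] at h1
    · rwa [mul_inv_eq_iff_eq_mul] at h2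
  have hu' : ¬ (u * z * u⁻¹ = z ∧ u * a * u⁻¹ = a) := by
    rintro ⟨h1, h2⟩
    have h3 := hA.sq u (hcent u h1 h2)
    rw [h3, one_mul] at hu3
    exact hu1 hu3
  have hinv : ∀ x y : L, u * x * u⁻¹ = y → u⁻¹ * y * u = x := by
    rintro x y rfl; group
  rcases three_cycle h4 hmem hu hu3 with h1 | ⟨h1, h2⟩ | ⟨h1, h2⟩
  · exact absurd h1 hu'
  · -- z → a → za → z
    have h3 : u * (z * a) * u⁻¹ = z := by
      have : u * (z * a) * u⁻¹ = (u * z * u⁻¹) * (u * a * u⁻¹) := by group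
      rw [this, h1, h2, ← mul_assoc, ← h4.comm, mul_assoc, h4.bb, mul_one]
    rcases three_cycle h4 hmem hv hv3 with ⟨h5, h6⟩ | ⟨h5, h6⟩ | ⟨h5, h6⟩
    · exact ⟨v, hcent v h5 h6, Or.inl rfl⟩
    · refine ⟨v * u⁻¹, hcent _ ?_ ?_, Or.inr (Or.inl (by group))⟩
      · have : v * u⁻¹ * z * (v * u⁻¹)⁻¹ = v * (u⁻¹ * z * u) * v⁻¹ := by group
        rw [this, hinv _ _ h3]
        have : v * (z * a) * v⁻¹ = (v * z * v⁻¹) * (v * a * v⁻¹) := by group
        rw [this, h5, h6, ← mul_assoc, ← h4.comm, mul_assoc, h4.bb, mul_one]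
      · have : v * u⁻¹ * a * (v * u⁻¹)⁻¹ = v * (u⁻¹ * a * u) * v⁻¹ := by group
        rw [this, hinv _ _ h1, h5]
    · refine ⟨v * u, hcent _ ?_ ?_, Or.inr (Or.inr (by group))⟩
      · have : v * u * z * (v * u)⁻¹ = v * (u * z * u⁻¹) * v⁻¹ := by group
        rw [this, h1, h6]
      · have : v * u * a * (v * u)⁻¹ = v * (u * a * u⁻¹) * v⁻¹ := by group
        rw [this, h2]
        have : v * (z * a) * v⁻¹ = (v * z * v⁻¹) * (v * a * v⁻¹) := by group
        rw [this, h5, h6, h4.comm, mul_assoc, h4.aa, mul_one]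
  · -- z → za → a → z
    have h3 : u * (z * a) * u⁻¹ = a := by
      have : u * (z * a) * u⁻¹ = (u * z * u⁻¹) * (u * a * u⁻¹) := by group
      rw [this, h1, h2, h4.comm, mul_assoc, h4.aa, mul_one]
    rcases three_cycle h4 hmem hv hv3 with ⟨h5, h6⟩ | ⟨h5, h6⟩ | ⟨h5, h6⟩
    · exact ⟨v, hcent v h5 h6, Or.inl rfl⟩
    · refine ⟨v * u, hcent _ ?_ ?_, Or.inr (Or.inr (by group))⟩
      · have : v * u * z * (v * u)⁻¹ = v * (u * z * u⁻¹) * v⁻¹ := by group
        rw [this, h1]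
        have : v * (z * a) * v⁻¹ = (v * z * v⁻¹) * (v * a * v⁻¹) := by group
        rw [this, h5, h6, ← mul_assoc, ← h4.comm, mul_assoc, h4.bb, mul_one]
      · have : v * u * a * (v * u)⁻¹ = v * (u * a * u⁻¹) * v⁻¹ := by group
        rw [this, h2, h5]
    · refine ⟨v * u⁻¹, hcent _ ?_ ?_, Or.inr (Or.inl (by group))⟩
      · have : v * u⁻¹ * z * (v * u⁻¹)⁻¹ = v * (u⁻¹ * z * u) * v⁻¹ := by group
        rw [this, hinv _ _ h2, h6]
      · have : v * u⁻¹ * a * (v * u⁻¹)⁻¹ = v * (u⁻¹ * a * u) * v⁻¹ := by group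
        rw [this, hinv _ _ h3]
        have : v * (z * a) * v⁻¹ = (v * z * v⁻¹) * (v * a * v⁻¹) := by group
        rw [this, h5, h6, h4.comm, mul_assoc, h4.aa, mul_one]

end L32

/-! ### the group induced on an abelian normal subgroup -/

variable {G : Type u} [Group G]

theorem exists_rep' [Finite G] {X Y : Subgroup G} (hn : X ≤ normalizer (Y : Set G))
    (hc : ∀ a ∈ Y, ∀ b ∈ Y, a * b = b * a) :
    ∃ (H V : Type u) (_ : Group H) (_ : CommGroup V) (_ : Finite H) (_ : Finite V) (r : X →* H)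
      (ρ : H →* MulAut V) (ι : V →* G), Rep X Y r ρ ι := by
  let _ : CommGroup Y := { (inferInstance : Group Y) with mul_comm := fun a b => Subtype.ext (hc a a.2 b b.2) }
  let ρ0 : X →* MulAut Y := Y.normalizerMonoidHom.comp (inclusion hn)
  refine ⟨ρ0.range, Y, inferInstance, inferInstance, inferInstance, inferInstance, ρ0.rangeRestrict,
    ρ0.range.subtype, Y.subtype, ?_⟩
  refine ⟨ρ0.rangeRestrict_surjective, Subtype.val_injective, Subtype.val_injective, Y.range_subtype, ?_⟩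
  intro x v
  rfl

end Cfsg.Agent.OddCyclic.EmpLine
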