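import Mathlib
import Cfsg.Agent.OddCyclic.EmpLine.BcA
import Cfsg.Agent.OddCyclic.RedSevenX

/-!
# The exits, type (1\3) of `C(z)`: `|Y : C_Y(L)| = 8`

* `Cx S V z L`: the frame `Pre S V z`, `L = L*`;
* `Cx.z_mem_of`: a nontrivial `S`-invariant 2-subgroup contains `z`;
* `Cx.index_eight`: if `C(z)` is of type `BcW` on `Y ≤ ws V z` then `|Y : C_Y(L)| = 8` and `L/C_L(Y)` is simple of
  order 168.
-/

set_option autoImplicit false
set_option linter.unusedSectionVars false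

namespace Cfsg.Agent.OddCyclic.EmpLine

open Subgroup Cfsg Cfsg.Agent.ZN Cfsg.Agent.ZN.ChoiceBase Cfsg.Agent.ZN.ChoiceSit
open Cfsg.Agent.MinSimple Cfsg.Agent.MinSimple.EmptyTI Cfsg.Agent.MinSimple.EmptySix
open Cfsg.Agent.MinSimple.Geo (ws lines le_ws ws_le inv_eq_self mem_zpowers_iff_of_mul_self)
open Cfsg.Agent.OddCyclic.GeoC (GeoC)
open Cfsg.Agent.OddCyclic.T1Module Cfsg.Agent.OddCyclic.FFBasic Cfsg.Agent.OddCyclic.FFRed
open Cfsg.Agent.OddCyclic.FFThree Cfsg.Agent.OddCyclic.RedRep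
open Cfsg.Agent.OddCyclic.RedTy
open Cfsg.Agent.OddCyclic.RedSevenX (img mem_img cent_kk cent_jj relIndex_cent cent_iff)
open Cfsg.Agent.GH.L2Aut (Four)
open Cfsg.Agent.OddCyclic.EN.BbDefs (IsStar)
open scoped commutatorElement

universe u

variable {G : Type u} [Group G] [Finite G]

/-- the frame of the exits, `L = L*` -/
structure Cx (S V : Subgroup G) (z : G) (L : Subgroup G) : Prop extends Pre S V z where
  star : IsStar L
  L_le : L ≤ centralizer ({z} : Set G)
  L_nor : centralizer ({z} : Set G) ≤ normalizer (L : Set G)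
  L_mv : ¬ L ≤ centralizer (V : Set G)

/-- `L / C_L(Y)` is simple of order 168 -/
def Q168 (L Y : Subgroup G) : Prop :=
  ∃ (Q : Type u) (_ : Group Q) (f : L →* Q), Function.Surjective f ∧ f.ker = (centralizer (Y : Set G)).subgroupOf L ∧
    IsSimpleGroup Q ∧ Nat.card Q = 168

namespace Cx

variable {S V : Subgroup G} {z : G} {L : Subgroup G}

theorem geo (c : Cx S V z L) : GeoC (S : Subgroup G) V z := c.toGeoC

theorem zz (c : Cx S V z L) : z * z = 1 := c.geo.zz

theorem ws_sq (c : Cx S V z L) {w : G} (hw : w ∈ ws V z) : w * w = 1 := by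
  let A : Subgroup G :=
    { carrier := {w | w ∈ ws V z ∧ w * w = 1}
      mul_mem' := by
        rintro a b ⟨ha, ha1⟩ ⟨hb, hb1⟩
        refine ⟨mul_mem ha hb, ?_⟩
        calc a * b * (a * b) = a * (b * a) * b := by group
          _ = (a * a) * (b * b) := by rw [c.ab b hb a ha]; group
          _ = 1 := by rw [ha1, hb1, one_mul]
      one_mem' := ⟨one_mem _, one_mul 1⟩
      inv_mem' := by
        rintro a ⟨ha, ha1⟩
        refine ⟨inv_mem ha, ?_⟩
        have : a⁻¹ * a⁻¹ = (a * a)⁻¹ := by group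
        rw [this, ha1, inv_one] }
  refine (ws_le (U := A) (fun M hM x hx => ⟨le_ws hM hx, ?_⟩) hw).2
  obtain ⟨d, -, rfl⟩ := c.geo.exists_of_mem_lines hM
  rw [mem_cj] at hx
  have := c.geo.sq _ hx
  have e : x * x = d * (d⁻¹ * x * d * (d⁻¹ * x * d)) * d⁻¹ := by group
  rw [e, this]; group

theorem ws_le_S (c : Cx S V z L) : ws V z ≤ (S : Subgroup G) := c.geo.ws_le_T

/-- a nontrivial `S`-invariant subgroup of `S` contains `z` -/
theorem z_mem_of (c : Cx S V z L) {R : Subgroup G} (hR : R ≤ (S : Subgroup G))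
    (hS : (S : Subgroup G) ≤ normalizer (R : Set G)) (hR1 : R ≠ ⊥) : z ∈ R := by
  obtain ⟨u, hu, huz, hu1⟩ := CaseD8.exists_mem_zc c.two hR hS hR1
  have huz' := ChoiceBase.mem_zc.1 huz
  rcases c.soc u huz'.1 (by have := huz'.2.1; rwa [pow_two] at this) huz'.2.2 with h1 | h1
  · exact absurd h1 hu1
  · rwa [← h1]

theorem S_le (c : Cx S V z L) : (S : Subgroup G) ≤ centralizer ({z} : Set G) := c.T_le

theorem three_dvd (c : Cx S V z L) : 3 ∣ Nat.card L := c.star.three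

/-- the elements of order 3 of `C(z)` are in `L` -/
theorem mem_of_three (c : Cx S V z L) {x : G} (hx : x ∈ centralizer ({z} : Set G)) (h3 : orderOf x = 3) : x ∈ L :=
  CompBasic.mem_of_le_normalizer c.cyc c.L_le c.L_nor Nat.prime_three (by norm_num) c.three_dvd hx h3

theorem isPGroup_of (c : Cx S V z L) {D : Subgroup G} (hD : D ≤ L) (hn : L ≤ normalizer (D : Set G)) (hne : D ≠ L) :
    IsPGroup 2 D := (c.star.max D hD hn).resolve_left hne

theorem le_o2_of (c : Cx S V z L) {D : Subgroup G} (hD : D ≤ L)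
    (hn : centralizer ({z} : Set G) ≤ normalizer (D : Set G)) (hne : D ≠ L) : D ≤ o2 (centralizer ({z} : Set G)) :=
  Cfsg.Agent.ZN.le_o2 (hD.trans c.L_le) (c.isPGroup_of hD (c.L_le.trans hn) hne) hn

theorem o2_le_S (c : Cx S V z L) : o2 (centralizer ({z} : Set G)) ≤ (S : Subgroup G) := c.geo.o2_le_T

/-- `C_L(Y)` is a proper normal subgroup of `L` -/
theorem inf_norm (c : Cx S V z L) {Y : Subgroup G} (hn : centralizer ({z} : Set G) ≤ normalizer (Y : Set G)) :
    centralizer ({z} : Set G) ≤ normalizer ((L ⊓ centralizer (Y : Set G) : Subgroup G) : Set G) := by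
  intro g hg
  rw [mem_normalizer_iff_cj, cj_inf, cj_centralizer, cj_eq_of_mem_normalizer (hn hg),
    cj_eq_of_mem_normalizer (c.L_nor hg)]

theorem exists_order_three (c : Cx S V z L) : ∃ x ∈ L, orderOf x = 3 := by
  have : Fact (Nat.Prime 3) := ⟨Nat.prime_three⟩
  obtain ⟨x, hx⟩ := exists_prime_orderOf_dvd_card' (G := L) 3 c.three_dvd
  exact ⟨x, x.2, by rw [orderOf_coe]; exact hx⟩

/-- `L / C_L(Y)` is simple of order 168, and `Lb = L C(Y)` -/
theorem q168 (c : Cx S V z L) {Y Lb : Subgroup G} (hb : EmpTI.BcW (centralizer ({z} : Set G)) (S : Subgroup G) Y Lb)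
    (hLY : ¬ L ≤ centralizer (Y : Set G)) : Q168 L Y ∧ ∀ b ∈ Lb, ∃ l ∈ L, l⁻¹ * b ∈ centralizer (Y : Set G) := by
  obtain ⟨Q, iQ, π, hπ, hker, hQs, hQc⟩ := hb.simple
  have hfQ : Finite Q := Nat.finite_of_card_ne_zero (by rw [hQc]; norm_num)
  have h3 : 3 ∣ Nat.card Lb := by
    have h1 : Nat.card Q ∣ Nat.card Lb := Subgroup.card_dvd_of_surjective π hπ
    rw [hQc] at h1
    exact (by norm_num : (3 : ℕ) ∣ 168).trans h1
  -- `L ≤ Lb`
  obtain ⟨x, hx, hx3⟩ := c.exists_order_three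
  have hxb : x ∈ Lb := CompBasic.mem_of_le_normalizer c.cyc hb.le hb.norm Nat.prime_three (by norm_num)
    h3 (c.L_le hx) hx3
  have hLb : L ≤ Lb := by
    have h1 : L ⊓ Lb = L := by
      by_contra hne
      have h2 := c.isPGroup_of inf_le_left (D := L ⊓ Lb) (by
        intro g hg
        rw [mem_normalizer_iff_cj, cj_inf, cj_eq_of_mem_normalizer (le_normalizer hg),
          cj_eq_of_mem_normalizer (hb.norm (c.L_le hg))]) hne
      obtain ⟨k, hk⟩ := h2 ⟨x, hx, hxb⟩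
      have hk' : x ^ 2 ^ k = 1 := congrArg Subtype.val hk
      have h4 := orderOf_dvd_of_pow_eq_one hk'
      rw [hx3] at h4
      have := Nat.Prime.dvd_of_dvd_pow Nat.prime_three h4
      omega
    rw [← h1]; exact inf_le_right
  let f : L →* Q := π.comp (inclusion hLb)
  have hfk : f.ker = (centralizer (Y : Set G)).subgroupOf L := by
    ext l
    rw [MonoidHom.mem_ker, mem_subgroupOf]
    change π (inclusion hLb l) = 1 ↔ _
    rw [← MonoidHom.mem_ker, hker, mem_subgroupOf]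
    rfl
  have hrn : f.range.Normal := by
    refine ⟨?_⟩
    rintro _ ⟨l, rfl⟩ q
    obtain ⟨b, rfl⟩ := hπ q
    have hm : (b : G) * l * (b : G)⁻¹ ∈ L := (mem_normalizer_iff.1 (c.L_nor (hb.le b.2)) _).1 l.2
    refine ⟨⟨(b : G) * l * (b : G)⁻¹, hm⟩, ?_⟩
    change π _ = π b * π (inclusion hLb l) * (π b)⁻¹
    rw [← map_mul, ← map_inv, ← map_mul]
    rfl
  have hft : f.range = ⊤ := by
    rcases hrn.eq_bot_or_eq_top with h1 | h1
    · exfalso
      apply hLY
      intro l hl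
      have h2 : f ⟨l, hl⟩ ∈ f.range := ⟨_, rfl⟩
      rw [h1, mem_bot] at h2
      have h4 : (⟨l, hl⟩ : L) ∈ f.ker := h2
      rw [hfk] at h4
      exact h4
    · exact h1
  refine ⟨⟨Q, iQ, f, MonoidHom.range_eq_top.1 hft, hfk, hQs, hQc⟩, ?_⟩
  intro b hbb
  have h1 : π ⟨b, hbb⟩ ∈ f.range := by rw [hft]; trivial
  obtain ⟨l, hl⟩ := h1
  refine ⟨l, l.2, ?_⟩
  have h2 : (⟨b, hbb⟩ : Lb) = ⟨b, hbb⟩ := rfl
  have h5 : (inclusion hLb l)⁻¹ * ⟨b, hbb⟩ ∈ π.ker := by
    rw [MonoidHom.mem_ker, map_mul, map_inv, ← hl]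
    exact inv_mul_cancel _
  rw [hker] at h5
  exact h5

end Cx

/-- the image of `L` -/
theorem Q168.hat {X Y L : Subgroup G} {H V₀ : Type u} [Group H] [CommGroup V₀] {r : X →* H} {ρ : H →* MulAut V₀}
    {ι : V₀ →* G} (hr : Rep X Y r ρ ι) (hLX : L ≤ X) (hq : Q168 L Y) :
    IsSimpleGroup (img r L) ∧ Nat.card (img r L) = 168 := by
  obtain ⟨Q, iQ, f, hf, hfk, hs, hc⟩ := hq
  let g : L →* H := r.comp (inclusion hLX)
  have hg : g.range = img r L := by
    ext h
    rw [mem_img]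
    constructor
    · rintro ⟨l, rfl⟩
      exact ⟨⟨l, hLX l.2⟩, l.2, rfl⟩
    · rintro ⟨x, hx, rfl⟩
      exact ⟨⟨x, hx⟩, rfl⟩
  have hgk : f.ker = g.ker := by
    rw [hfk]
    ext l
    rw [MonoidHom.mem_ker, mem_subgroupOf]
    exact (cent_iff hr (x := ⟨l, hLX l.2⟩)).symm
  rw [← hg]
  let e : g.range ≃* Q := (QuotientGroup.quotientKerEquivRange g).symm.trans
    ((QuotientGroup.quotientMulEquivOfEq hgk.symm).trans (QuotientGroup.quotientKerEquivOfSurjective f hf))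
  exact ⟨e.isSimpleGroup_congr.2 hs, by rw [Nat.card_congr e.toEquiv, hc]⟩

theorem img_normal {X L : Subgroup G} {H : Type u} [Group H] {r : X →* H} (hr : Function.Surjective r)
    (hn : X ≤ normalizer (L : Set G)) : (img r L).Normal := by
  refine ⟨fun h hh g => ?_⟩
  obtain ⟨x, hx, rfl⟩ := mem_img.1 hh
  obtain ⟨y, rfl⟩ := hr g
  refine mem_img.2 ⟨y * x * y⁻¹, ?_, by simp⟩
  exact (mem_normalizer_iff.1 (hn y.2) _).1 hx

end Cfsg.Agent.OddCyclic.EmpLine
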