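import Mathlib
import Cfsg.Agent.OddCyclic.EmpLine.BcB

/-!
# The exits, type (1\3) of `C(z)`: `|Y : C_Y(L)| = 8`

* `Cx.ne_two`: no element of `L` acts on `Y` as a transvection;
* `Cx.index_eight`: if `C(z)` is of type `BcW` on `Y ≤ ws V z` then `|Y : C_Y(L)| = 8`.
-/

set_option autoImplicit false
set_option linter.unusedSectionVars false

namespace Cfsg.Agent.OddCyclic.EmpLine

open Subgroup Cfsg Cfsg.Agent.ZN Cfsg.Agent.ZN.ChoiceBase Cfsg.Agent.ZN.ChoiceSit
open Cfsg.Agent.MinSimple Cfsg.Agent.MinSimple.EmptyTI Cfsg.Agent.MinSimple.EmptySix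
open Cfsg.Agent.MinSimple.Geo (ws lines le_ws ws_le inv_eq_self mem_zpowers_iff_of_mul_self)
open Cfsg.Agent.OddCyclic.GeoC (GeoC)
open Cfsg.Agent.OddCyclic.T1Module Cfsg.Agent.OddCyclic.FFBasic Cfsg.Agent.OddCyclic.FFRed
open Cfsg.Agent.OddCyclic.FFSl2 (CS_le_fx index_le_of_le)
open Cfsg.Agent.OddCyclic.FFThree Cfsg.Agent.OddCyclic.RedRep
open Cfsg.Agent.OddCyclic.RedTy
open Cfsg.Agent.OddCyclic.RedSevenX (img mem_img cent_kk cent_jj relIndex_cent cent_iff mem_norm_of)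
open Cfsg.Agent.GH.L2Aut (Four)
open Cfsg.Agent.OddCyclic.EN.BbDefs (IsStar)
open scoped commutatorElement

universe u

variable {G : Type u} [Group G]

section rep

variable {X Y : Subgroup G} {H V₀ : Type u} [Group H] [CommGroup V₀] {r : X →* H} {ρ : H →* MulAut V₀} {ι : V₀ →* G}

theorem map_CS (hr : Rep X Y r ρ ι) {A : Subgroup G} (hA : A ≤ X) :
    (CS ρ (img r A)).map ι = Y ⊓ centralizer (A : Set G) := by
  ext y
  constructor
  · rintro ⟨v, hv, rfl⟩
    refine ⟨hr.mem v, mem_centralizer_iff.2 fun a ha => ?_⟩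
    exact hr.fix (x := ⟨a, hA ha⟩) |>.1 (hv _ (mem_img.2 ⟨⟨a, hA ha⟩, ha, rfl⟩))
  · rintro ⟨hy, hyA⟩
    obtain ⟨v, rfl⟩ := hr.exists_v hy
    refine ⟨v, ?_, rfl⟩
    intro h hh
    obtain ⟨x, hx, rfl⟩ := mem_img.1 hh
    exact hr.fix.2 (mem_centralizer_iff.1 hyA x hx)

theorem card_CS (hr : Rep X Y r ρ ι) {A : Subgroup G} (hA : A ≤ X) :
    Nat.card (CS ρ (img r A)) = Nat.card (Y ⊓ centralizer (A : Set G) : Subgroup G) := by
  rw [← map_CS hr hA, Subgroup.card_map_of_injective hr.iinj]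

theorem index_CS (hr : Rep X Y r ρ ι) {A : Subgroup G} (hA : A ≤ X) :
    (CS ρ (img r A)).index = (Y ⊓ centralizer (A : Set G)).relIndex Y := by
  rw [← map_CS hr hA]
  conv_rhs => rw [← hr.range, MonoidHom.range_eq_map]
  rw [relIndex_map_map_of_injective _ _ hr.iinj, relIndex_top_right]

end rep

namespace Cx

variable [Finite G] {S V : Subgroup G} {z : G} {L : Subgroup G}

section

variable {Y : Subgroup G} {H V₀ : Type u} [Group H] [CommGroup V₀] [Finite H] [Finite V₀]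
  {r : centralizer ({z} : Set G) →* H} {ρ : H →* MulAut V₀} {ι : V₀ →* G}

theorem v_sq (c : Cx S V z L) (hY : Y ≤ ws V z) (hr : Rep (centralizer ({z} : Set G)) Y r ρ ι) (v : V₀) :
    v * v = 1 := by
  apply hr.iinj
  rw [map_mul, map_one]
  exact c.ws_sq (hY (hr.mem v))

/-- a nontrivial `S`-invariant subgroup of `V₀` contains `z` -/
theorem exists_z (c : Cx S V z L) (hY : Y ≤ ws V z) (hr : Rep (centralizer ({z} : Set G)) Y r ρ ι) {R : Subgroup V₀}
    (hS : ∀ s : centralizer ({z} : Set G), (s : G) ∈ (S : Subgroup G) → ∀ w ∈ R, ρ (r s) w ∈ R) (hR : R ≠ ⊥) :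
    ∃ w ∈ R, ι w = z := by
  have h1 : z ∈ R.map ι := by
    refine c.z_mem_of ?_ ?_ ?_
    · rintro _ ⟨w, -, rfl⟩
      exact c.ws_le_S (hY (hr.mem w))
    · intro s hs
      exact mem_norm_of hr (x := ⟨s, c.S_le hs⟩) fun p hp => hS ⟨s, c.S_le hs⟩ hs p hp
    · intro h0
      exact hR ((Subgroup.map_eq_bot_iff_of_injective R hr.iinj).1 h0)
  exact h1

theorem mod (c : Cx S V z L) (hY : Y ≤ ws V z) (hr : Rep (centralizer ({z} : Set G)) Y r ρ ι) (hq : Q168 L Y) :
    Mod (ρ.comp (img r L).subtype) := by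
  obtain ⟨hs, hc⟩ := hq.hat hr c.L_le
  refine ⟨COneSeven.l32 hs hc, c.v_sq hY hr, fun y hy => ?_⟩
  by_contra hcon
  push Not at hcon
  apply hy
  apply Subtype.ext
  apply hr.inj
  rw [OneMemClass.coe_one, map_one]
  exact MulEquiv.ext hcon

/-- no element of `L` acts as a transvection -/
theorem ne_two (c : Cx S V z L) (hY : Y ≤ ws V z) (hYn : centralizer ({z} : Set G) ≤ normalizer (Y : Set G))
    (hr : Rep (centralizer ({z} : Set G)) Y r ρ ι) (hq : Q168 L Y) {a : H} (ha : a ∈ img r L) (ha1 : a ≠ 1)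
    (haa : a * a = 1) : (fx ρ a).index ≠ 2 := by
  intro hi
  have hM := c.mod hY hr hq
  obtain ⟨hinv, htop, hsev, N, hN8, hN1, hN2, hN3⟩ := alpha_of hM (a₀ := ⟨a, ha⟩)
    (fun h0 => ha1 (congrArg Subtype.val h0)) (Subtype.ext haa) hi
  let R : Subgroup V₀ := closure {w | ∃ h ∈ img r L, ∃ v, w = ρ h v * v⁻¹}
  have hRN : R ≤ N := by
    rw [closure_le]
    rintro _ ⟨h, hh, v, rfl⟩
    exact hN1 ⟨h, hh⟩ v
  have hLn := img_normal hr.surj c.L_nor
  have hR : R ≠ ⊥ := by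
    intro h0
    obtain ⟨v, hv⟩ := hM.faith ⟨a, ha⟩ (fun h0 => ha1 (congrArg Subtype.val h0))
    apply hv
    have h1 : ρ a v * v⁻¹ ∈ R := subset_closure ⟨a, ha, v, rfl⟩
    rw [h0, mem_bot] at h1
    exact mul_inv_eq_one.1 h1
  obtain ⟨w, hw, hwz⟩ := c.exists_z hY hr (R := R) (by
    intro s _ w hw
    have hle : R ≤ R.comap (ρ (r s)).toMonoidHom := by
      rw [closure_le]
      rintro _ ⟨h, hh, v, rfl⟩
      refine subset_closure ⟨r s * h * (r s)⁻¹, hLn.conj_mem h hh _, ρ (r s) v, ?_⟩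
      change ρ (r s) (ρ h v * v⁻¹) = _
      rw [map_mul, map_inv]
      congr 1
      rw [map_mul, map_mul, MulAut.mul_apply, MulAut.mul_apply, map_inv, MulAut.inv_apply_self]
    exact hle hw) hR
  have h1 : w ∈ N ⊓ CS (ρ.comp (img r L).subtype) ⊤ := by
    refine ⟨hRN hw, ?_⟩
    rintro ⟨h, hh⟩ -
    obtain ⟨x, hx, rfl⟩ := mem_img.1 hh
    change ρ (r x) w = w
    rw [hr.fix, hwz]
    exact mem_centralizer_singleton_iff.1 x.2
  rw [hN2, mem_bot] at h1
  rw [h1, map_one] at hwz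
  exact c.z_ne hwz.symm

/-- a 3-element normalising `J` does not move `C_Y(J)` -/
theorem no_move (c : Cx S V z L) (hY : Y ≤ ws V z) (hYn : centralizer ({z} : Set G) ≤ normalizer (Y : Set G))
    (hr : Rep (centralizer ({z} : Set G)) Y r ρ ι) (hq : Q168 L Y)
    (hJ4 : IsFour ((img r (jj (S : Subgroup G))).subgroupOf (img r L)))
    (hJL : img r (jj (S : Subgroup G)) ≤ img r L) {x : centralizer ({z} : Set G)} (hx3 : (x : G) ^ 3 = 1)
    (hxJ : (x : G) ∈ normalizer (jj (S : Subgroup G) : Set G)) {w : V₀} (hw : w ∈ CS ρ (img r (jj (S : Subgroup G))))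
    (hmv : ρ (r x) w ≠ w) : False := by
  have hM := c.mod hY hr hq
  have hLn := img_normal hr.surj c.L_nor
  set Jh := img r (jj (S : Subgroup G)) with hJh
  have hJS : jj (S : Subgroup G) ≤ centralizer ({z} : Set G) := (ChoiceBase.jj_le _).trans c.S_le
  have hx1 : (x : G) ≠ 1 := by
    intro h0
    apply hmv
    have : x = 1 := Subtype.ext h0
    rw [this, map_one, map_one]; rfl
  have hxo : orderOf (x : G) = 3 := by
    have : Fact (Nat.Prime 3) := ⟨Nat.prime_three⟩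
    exact orderOf_eq_prime hx3 hx1
  have hmemL : ∀ s ∈ (S : Subgroup G), s * x * s⁻¹ ∈ L := by
    intro s hs
    refine c.mem_of_three (mul_mem (mul_mem (c.S_le hs) x.2) (inv_mem (c.S_le hs))) ?_
    rw [← hxo]
    exact orderOf_injective (MulAut.conj s).toMonoidHom (MulAut.conj s).injective (x : G)
  -- elements normalising `J`
  have hnorm : ∀ y : centralizer ({z} : Set G), (y : G) ∈ normalizer (jj (S : Subgroup G) : Set G) →
      r y ∈ normalizer (Jh : Set H) := by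
    intro y hy
    have key : ∀ y : centralizer ({z} : Set G), (y : G) ∈ normalizer (jj (S : Subgroup G) : Set G) → ∀ h ∈ Jh,
        r y * h * (r y)⁻¹ ∈ Jh := by
      intro y hy h hh
      obtain ⟨a, ha, rfl⟩ := mem_img.1 hh
      exact mem_img.2 ⟨y * a * y⁻¹, (mem_normalizer_iff.1 hy _).1 ha, by simp⟩
    rw [mem_normalizer_iff]
    intro h
    refine ⟨key y hy h, fun hh => ?_⟩
    have := key y⁻¹ (inv_mem hy) _ hh
    rw [map_inv] at this
    have e : (r y)⁻¹ * (r y * h * (r y)⁻¹) * (r y)⁻¹⁻¹ = h := by group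
    rwa [e] at this
  have hCSinv : ∀ h ∈ normalizer (Jh : Set H), ∀ v ∈ CS ρ Jh, ρ h v ∈ CS ρ Jh := by
    intro h hh v hv b hb
    have h1 := hv (h⁻¹ * b * h) (by
      have := (mem_normalizer_iff.1 (inv_mem hh) b).1 hb
      rwa [inv_inv] at this)
    have e : ρ b (ρ h v) = ρ h (ρ (h⁻¹ * b * h) v) := by
      rw [← MulAut.mul_apply, ← MulAut.mul_apply, ← map_mul, ← map_mul]
      congr 2; group
    rw [e, h1]
  have hSJ : ∀ s ∈ (S : Subgroup G), s ∈ normalizer (jj (S : Subgroup G) : Set G) := fun s hs =>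
    Basic.normalizer_le_normalizer_jj _ (le_normalizer hs)
  let R : Subgroup V₀ := (CS ρ Jh).map (cm ρ (r x))
  have hmR : ∀ v ∈ CS ρ Jh, ρ (r x) v * v⁻¹ ∈ R := fun v hv => ⟨v, hv, rfl⟩
  have hxn := hnorm x hxJ
  have hxL : r x ∈ img r L := mem_img.2 ⟨x, c.mem_of_three x.2 hxo, rfl⟩
  have hrx3 : r x * r x * r x = 1 := by
    have h1 : x ^ 3 = 1 := Subtype.ext hx3
    rw [← map_mul, ← map_mul, ← pow_three', h1, map_one]
  have hrx1 : r x ≠ 1 := by
    intro h0
    apply hmv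
    rw [h0, map_one]; rfl
  obtain ⟨w₁, hw₁, hwz⟩ := c.exists_z hY hr (R := R) (by
    intro s hs w hw
    obtain ⟨v, hv, rfl⟩ := hw
    set v' := ρ (r s) v with hv'
    have hv'' : v' ∈ CS ρ Jh := hCSinv _ (hnorm s (hSJ s hs)) v hv
    set y : H := r s * r x * (r s)⁻¹ with hy
    have h1 : ρ (r s) (cm ρ (r x) v) = ρ y v' * v'⁻¹ := by
      change ρ (r s) (ρ (r x) v * v⁻¹) = _
      rw [map_mul, map_inv]
      congr 1
      rw [hy, hv', map_mul, map_mul, MulAut.mul_apply, MulAut.mul_apply, map_inv, MulAut.inv_apply_self]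
    rw [h1]
    have hyL : y ∈ img r L := hLn.conj_mem _ hxL _
    have hyn : y ∈ normalizer (Jh : Set H) :=
      mul_mem (mul_mem (hnorm s (hSJ s hs)) hxn) (inv_mem (hnorm s (hSJ s hs)))
    have hy3 : y * y * y = 1 := by
      have : y * y * y = r s * (r x * r x * r x) * (r s)⁻¹ := by rw [hy]; group
      rw [this, hrx3]; group
    -- inside `img r L`
    have hn' : ∀ h : img r L, (h : H) ∈ normalizer (Jh : Set H) → h ∈ normalizer ((Jh.subgroupOf (img r L) : Subgroup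
        (img r L)) : Set (img r L)) := by
      intro h hh
      rw [mem_normalizer_iff]
      intro g
      rw [mem_subgroupOf, mem_subgroupOf]
      exact mem_normalizer_iff.1 hh g
    obtain ⟨b, hb, hc⟩ := three_cases hM.l32 hJ4 (u := ⟨r x, hxL⟩) (v := ⟨y, hyL⟩) (hn' _ hxn) (hn' _ hyn)
      (Subtype.ext hrx3) (Subtype.ext hy3) (fun h0 => hrx1 (congrArg Subtype.val h0))
    have hb' : (b : H) ∈ Jh := mem_subgroupOf.1 hb
    rcases hc with hc | hc | hc
    · have hc' : y = b := congrArg Subtype.val hc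
      rw [hc', hv'' _ hb', mul_inv_cancel]
      exact one_mem _
    · have hc' : y = b * r x := congrArg Subtype.val hc
      rw [hc', map_mul, MulAut.mul_apply, hCSinv _ hxn _ hv'' _ hb']
      exact hmR _ hv''
    · have hc' : y = b * (r x)⁻¹ := congrArg Subtype.val hc
      have h2 : ρ (r x)⁻¹ v' ∈ CS ρ Jh := hCSinv _ (inv_mem hxn) _ hv''
      rw [hc', map_mul, MulAut.mul_apply, h2 _ hb']
      have h3 := hmR _ (inv_mem h2)
      have e : ρ (r x) (ρ (r x)⁻¹ v')⁻¹ * (ρ (r x)⁻¹ v')⁻¹⁻¹ = ρ (r x)⁻¹ v' * v'⁻¹ := by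
        rw [map_inv (ρ (r x)), inv_inv, map_inv ρ, MulAut.apply_inv_self, mul_comm]
      rwa [e] at h3) (by
    intro h0
    apply hmv
    have h1 := hmR w hw
    rw [h0, mem_bot] at h1
    exact mul_inv_eq_one.1 h1)
  obtain ⟨v, hv, hvw⟩ := hw₁
  have hvw' : ρ (r x) v = w₁ * v := by
    rw [← hvw]
    change ρ (r x) v = ρ (r x) v * v⁻¹ * v
    rw [inv_mul_cancel_right]
  have hfix : ρ (r x) w₁ = w₁ := by
    rw [hr.fix, hwz]
    exact mem_centralizer_singleton_iff.1 x.2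
  have h3 : ρ (r x * r x * r x) v = v := by rw [hrx3, map_one]; rfl
  rw [map_mul, map_mul, MulAut.mul_apply, MulAut.mul_apply, hvw', map_mul, hfix, hvw', map_mul, map_mul, hfix, hvw',
    ← mul_assoc, ← mul_assoc, c.v_sq hY hr w₁, one_mul] at h3
  have h4 : w₁ = 1 := by
    have := mul_eq_right.1 h3
    exact this
  rw [h4, map_one] at hwz
  exact c.z_ne hwz.symm

end

/-- **`|Y : C_Y(L)| = 8`** -/
theorem index_eight (c : Cx S V z L) {Y Lb : Subgroup G} (hYn : centralizer ({z} : Set G) ≤ normalizer (Y : Set G))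
    (hY : Y ≤ ws V z) (hb : EmpTI.BcW (centralizer ({z} : Set G)) (S : Subgroup G) Y Lb)
    (hLY : ¬ L ≤ centralizer (Y : Set G)) : (Y ⊓ centralizer (L : Set G)).relIndex Y = 8 := by
  have hSX := c.S_le
  have hJS : jj (S : Subgroup G) ≤ centralizer ({z} : Set G) := (ChoiceBase.jj_le _).trans hSX
  obtain ⟨H, V₀, _, _, _, _, r, ρ, ι, hr⟩ := exists_rep' (X := centralizer ({z} : Set G)) (Y := Y) hYn
    (fun a ha b hb => c.ab a (hY ha) b (hY hb))
  obtain ⟨hq, hcov⟩ := c.q168 hb hLY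
  have hM := c.mod hY hr hq
  obtain ⟨hLs, hLc⟩ := hq.hat hr c.L_le
  have hLn := img_normal hr.surj c.L_nor
  have hcj : Nat.card (img r (jj (S : Subgroup G))) = 4 := by
    rw [← relIndex_cent hr hJS]; exact hb.four
  have hne : img r (jj (S : Subgroup G)) ≠ ⊥ := by
    intro h0
    rw [h0, Subgroup.card_bot] at hcj
    omega
  -- `J ≤ L C(Y)`
  have hJL : img r (jj (S : Subgroup G)) ≤ img r L := by
    intro h hh
    obtain ⟨x, hx, rfl⟩ := mem_img.1 hh
    obtain ⟨l, hl, hlx⟩ := hcov x (hb.jj_le hx)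
    refine mem_img.2 ⟨⟨l, c.L_le hl⟩, hl, ?_⟩
    have h1 : r ((⟨l, c.L_le hl⟩ : centralizer ({z} : Set G))⁻¹ * x) = 1 := (cent_iff hr).2 hlx
    rw [map_mul, map_inv, inv_mul_eq_one] at h1
    exact h1
  -- the image of `J` is elementary abelian
  have hJsq : ∀ a ∈ img r (jj (S : Subgroup G)), a * a = 1 := by
    have hex : ∃ A ∈ AA (S : Subgroup G), ¬ A ≤ centralizer (Y : Set G) := by
      by_contra hcon
      push Not at hcon
      apply hne
      rw [eq_bot_iff]
      intro h hh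
      obtain ⟨x, hx, rfl⟩ := mem_img.1 hh
      rw [mem_bot, cent_iff hr]
      have : jj (S : Subgroup G) ≤ centralizer (Y : Set G) := by
        rw [ChoiceBase.jj_eq]
        exact sSup_le hcon
      exact this hx
    obtain ⟨A, hA, hAY⟩ := hex
    have h1 := (hb.img A hA).resolve_left hAY
    have hAX : A ≤ centralizer ({z} : Set G) := (ChoiceBase.le_jj hA).trans hJS
    intro a ha
    obtain ⟨x, hx, rfl⟩ := mem_img.1 ha
    have h2 := h1 hx
    have hn : A ≤ normalizer ((centralizer ({z} : Set G) ⊓ centralizer (Y : Set G) : Subgroup G) : Set G) := by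
      intro g hg
      rw [mem_normalizer_iff_cj, cj_inf, cj_centralizer, cj_eq_of_mem_normalizer (hYn (hAX hg)),
        cj_eq_of_mem_normalizer (le_normalizer (hAX hg))]
    rw [← SetLike.mem_coe, coe_mul_of_left_le_normalizer_right _ _ hn] at h2
    obtain ⟨b, hb1, d, hd, hbd⟩ := h2
    have h3 : r x = r ⟨b, hAX hb1⟩ := by
      have h4 : x = ⟨b, hAX hb1⟩ * ⟨d, hd.1⟩ := Subtype.ext hbd.symm
      rw [h4, map_mul, (cent_iff hr (x := ⟨d, hd.1⟩)).2 hd.2, mul_one]
    rw [h3, ← map_mul]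
    have h5 : b * b = 1 := by
      have := hA.1.2 b hb1
      rwa [pow_two] at this
    have h6 : (⟨b, hAX hb1⟩ * ⟨b, hAX hb1⟩ : centralizer ({z} : Set G)) = 1 := Subtype.ext h5
    rw [h6, map_one]
  have hJ4 : IsFour ((img r (jj (S : Subgroup G))).subgroupOf (img r L)) := by
    refine ⟨?_, ?_⟩
    · rw [Nat.card_congr (Subgroup.subgroupOfEquivOfLe hJL).toEquiv, hcj]
    · intro a ha
      exact Subtype.ext (hJsq _ (mem_subgroupOf.1 ha))
  -- the index of `C_Y(J)`
  have hi4 : (CS ρ (img r (jj (S : Subgroup G)))).index = 4 := by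
    have h1 := hb.index
    rw [← index_CS hr hJS] at h1
    rcases h1 with h1 | h1
    · exfalso
      obtain ⟨a, ha, ha1⟩ : ∃ a ∈ img r (jj (S : Subgroup G)), a ≠ 1 := by
        by_contra hcon
        push Not at hcon
        exact hne (eq_bot_iff.2 fun a ha => mem_bot.2 (hcon a ha))
      apply c.ne_two hY hYn hr hq (hJL ha) ha1 (hJsq a ha)
      have h2 : CS ρ (img r (jj (S : Subgroup G))) ≤ fx ρ a := CS_le_fx ha
      have h3 : (fx ρ a).index ≤ 2 := by rw [← h1]; exact index_le_of_le h2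
      have h4 : 2 ≤ (fx ρ a).index := hM.two_le (a := ⟨a, hJL ha⟩) (fun h0 => ha1 (congrArg Subtype.val h0))
      omega
    · exact h1
  -- few fixed points
  have hzbau : Y ⊓ zc (bau (S : Subgroup G)) = Y ⊓ centralizer (jj (S : Subgroup G) : Set G) := by
    ext y
    constructor
    · rintro ⟨hy, hyz⟩
      refine ⟨hy, mem_centralizer_iff.2 fun a ha => ?_⟩
      exact ((ChoiceBase.mem_zc.1 hyz).2.2 a (ZN.jj_le_bau _ ha))
    · rintro ⟨hy, hyz⟩
      refine ⟨hy, ?_⟩
      rw [ChoiceBase.zc_bau]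
      exact ZN.mem_zj_of_comm (c.ws_le_S (hY hy)) (by rw [pow_two]; exact c.ws_sq (hY hy))
        fun a ha => mem_centralizer_iff.1 hyz a ha
  have hkk : Y ⊓ centralizer (kk (centralizer ({z} : Set G)) (S : Subgroup G) : Set G) =
      (CS ρ (img r L)).map ι := by
    ext y
    constructor
    · rintro ⟨hy, hyz⟩
      obtain ⟨v, rfl⟩ := hr.exists_v hy
      exact ⟨v, (cent_kk hr hSX hLn hLs hJL hne).1 hyz, rfl⟩
    · rintro ⟨v, hv, rfl⟩
      exact ⟨hr.mem v, (cent_kk hr hSX hLn hLs hJL hne).2 hv⟩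
  have hle : Nat.card (CS ρ (img r (jj (S : Subgroup G)))) ≤ 2 * Nat.card (CS ρ (img r L)) := by
    rcases hb.alt with h1 | ⟨x, hx, hx3, hxJ, y, hy, hmv⟩
    · change Nat.card (Y ⊓ zc (bau S) : Subgroup G) ≤
        2 * Nat.card (Y ⊓ centralizer (kk (centralizer ({z} : Set G)) S : Set G) : Subgroup G) at h1
      rw [hzbau, hkk, Subgroup.card_map_of_injective hr.iinj, ← card_CS hr hJS] at h1
      exact h1
    · exfalso
      rw [hzbau] at hy
      obtain ⟨w, hw⟩ := hr.exists_v hy.1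
      have h1 : w ∈ CS ρ (img r (jj (S : Subgroup G))) := by
        rw [← cent_jj hr hSX (ChoiceBase.jj_le _), hw]
        exact hy.2
      refine c.no_move hY hYn hr hq hJ4 hJL (x := ⟨x, hx⟩) (hb.three' x hx hx3) hxJ h1 ?_
      intro h0
      rw [hr.fix, hw] at h0
      exact hmv h0
  have h8 : (CS ρ (img r L)).index ≤ 8 := by
    have h1 := (CS ρ (img r (jj (S : Subgroup G)))).card_mul_index
    have h2 := (CS ρ (img r L)).card_mul_index
    rw [hi4] at h1
    have hpos : 0 < Nat.card (CS ρ (img r L)) := Nat.card_pos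
    have h3 : Nat.card (CS ρ (img r L)) * (CS ρ (img r L)).index ≤ Nat.card (CS ρ (img r L)) * 8 := by
      rw [h2, ← h1]
      calc _ ≤ 2 * Nat.card (CS ρ (img r L)) * 4 := Nat.mul_le_mul_right 4 hle
        _ = _ := by ring
    exact Nat.le_of_mul_le_mul_left h3 hpos
  have h8' : 8 ≤ (CS ρ (img r L)).index := by
    have h1 := hM.top_le
    have e : CS (ρ.comp (img r L).subtype) ⊤ = CS ρ (img r L) := by
      ext v
      exact ⟨fun hv b hb => hv ⟨b, hb⟩ (mem_top _), fun hv b _ => hv b b.2⟩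
    rwa [e] at h1
  rw [← index_CS hr c.L_le]
  omega

end Cx

end Cfsg.Agent.OddCyclic.EmpLine
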