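import Cfsg.Agent.OddCyclic.EN.BbMain

/-!
# (Empty), S3-line: the kill of type `bc` on `C(z)`, the critical pair of `W = ⟨V^L⟩ Y`

`Y ≤ ws V z` normal in `C(z)`, `|[Y,a]| ≥ 4` for `a ∈ C(z) ∖ C(Y)`. Then there is a conjugate `Y^g` of `Y` with
`Y^g ≤ C(z)`, `Y ≤ C(z^g)`, `[Y, Y^g] ≠ 1`.
-/

set_option autoImplicit false
set_option linter.unusedSectionVars false

namespace Cfsg.Agent.OddCyclic.EmpLine.BcCrit

open Subgroup Cfsg Cfsg.Agent.ZN Cfsg.Agent.MinSimple.Geo Cfsg.Agent.OddCyclic.GeoC Cfsg.Agent.OddCyclic.BTwoA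
  Cfsg.Agent.OddCyclic.EN.Line Cfsg.Agent.OddCyclic.EN.Base Cfsg.Agent.OddCyclic.EN.RepM
  Cfsg.Agent.OddCyclic.EN.BbDefs Cfsg.Agent.OddCyclic.EN.BbMain
open Cfsg.Agent.ZN.Block (conj_mem_of_normalizer conj_mem_of_normalizer' le_normalizer_of_forall
  mem_normalizer_of)

universe u

variable {G : Type u} [Group G]

/-! ### words in two subgroups -/

/-- words `a₁ n₁ a₂ n₂ ⋯ aₖ nₖ a` -/
def DD (P N : Subgroup G) : ℕ → Set G
  | 0 => (P : Set G)
  | k + 1 => {g | ∃ a ∈ P, ∃ n ∈ N, ∃ g' ∈ DD P N k, g = a * n * g'}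

theorem DD.left {P N : Subgroup G} {k : ℕ} {a g : G} (ha : a ∈ P) (hg : g ∈ DD P N k) : a * g ∈ DD P N k := by
  cases k with
  | zero => exact mul_mem (show a ∈ P from ha) hg
  | succ k =>
    obtain ⟨b, hb, n, hn, g', hg', rfl⟩ := hg
    exact ⟨a * b, mul_mem ha hb, n, hn, g', hg', by group⟩

theorem DD.mul {P N : Subgroup G} {m k : ℕ} {g h : G} (hg : g ∈ DD P N m) (hh : h ∈ DD P N k) :
    g * h ∈ DD P N (m + k) := by
  induction m generalizing g with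
  | zero => rw [Nat.zero_add]; exact DD.left hg hh
  | succ m ih =>
    obtain ⟨b, hb, n, hn, g', hg', rfl⟩ := hg
    rw [show m + 1 + k = (m + k) + 1 by omega]
    exact ⟨b, hb, n, hn, g' * h, ih hg', by group⟩

theorem DD.inv {P N : Subgroup G} {k : ℕ} {g : G} (hg : g ∈ DD P N k) : g⁻¹ ∈ DD P N k := by
  induction k generalizing g with
  | zero => exact P.inv_mem hg
  | succ k ih =>
    obtain ⟨b, hb, n, hn, g', hg', rfl⟩ := hg
    have h1 : n⁻¹ * b⁻¹ ∈ DD P N 1 := ⟨1, one_mem _, n⁻¹, inv_mem hn, b⁻¹, (P.inv_mem hb : b⁻¹ ∈ P), by group⟩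
    have h2 := DD.mul (ih hg') h1
    rwa [show (b * n * g')⁻¹ = g'⁻¹ * (n⁻¹ * b⁻¹) by group]

theorem DD.mono {P N : Subgroup G} {k m : ℕ} (hkm : k ≤ m) {g : G} (hg : g ∈ DD P N k) : g ∈ DD P N m := by
  induction hkm with
  | refl => exact hg
  | step _ ih => exact ⟨1, one_mem _, 1, one_mem _, g, ih, by group⟩

theorem exists_DD {P N : Subgroup G} {g : G} (hg : g ∈ P ⊔ N) : ∃ k, g ∈ DD P N k := by
  let K : Subgroup G :=
    { carrier := {g | ∃ k, g ∈ DD P N k}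
      mul_mem' := by
        rintro a b ⟨k, hk⟩ ⟨m, hm⟩
        exact ⟨k + m, DD.mul hk hm⟩
      one_mem' := ⟨0, (one_mem P : (1 : G) ∈ P)⟩
      inv_mem' := by
        rintro a ⟨k, hk⟩
        exact ⟨k, DD.inv hk⟩ }
  have h1 : P ⊔ N ≤ K := by
    refine sup_le (fun a ha => ⟨0, ha⟩) fun n hn => ⟨1, 1, one_mem _, n, hn, 1, (one_mem P : (1 : G) ∈ P), by group⟩
  exact h1 hg

/-! ### the input -/

structure In (T V : Subgroup G) (z : G) (L Y : Subgroup G) : Prop extends GeoC T V z, IsStar L where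
  ab : ∀ a ∈ ws V z, ∀ b ∈ ws V z, a * b = b * a
  tri : ∀ U : Subgroup G, IsPGroup 2 U → U ≠ ⊥ → T ≤ normalizer (U : Set G) →
    normalizer (U : Set G) ≤ centralizer ({z} : Set G) ∨
    (V ≤ vx (normalizer (U : Set G)) z ∧ ∀ c ∈ normalizer (U : Set G), c ∈ centralizer ({z} : Set G) →
      ∃ i j : ℕ, c ^ (2 ^ i * 3 ^ j) ∈ centralizer ((vx (normalizer (U : Set G)) z : Subgroup G) : Set G))
  L_le : L ≤ centralizer ({z} : Set G)
  L_nor : centralizer ({z} : Set G) ≤ normalizer (L : Set G)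
  L_mv : ¬ L ≤ centralizer (V : Set G)
  Y_le : Y ≤ ws V z
  Y_nor : centralizer ({z} : Set G) ≤ normalizer (Y : Set G)
  L_Y : ¬ L ≤ centralizer (Y : Set G)
  /-- `|[Y,a]| ≥ 4` -/
  big : ∀ a ∈ centralizer ({z} : Set G), a ∉ centralizer (Y : Set G) →
    ∀ c : G, ∃ y ∈ Y, a * y * a⁻¹ * y⁻¹ ≠ 1 ∧ a * y * a⁻¹ * y⁻¹ ≠ c

/-- `⟨V^L⟩ Y` -/
def ww (V L Y : Subgroup G) : Subgroup G := closure {w | ∃ l ∈ L, ∃ v ∈ V, w = l * v * l⁻¹} ⊔ Y

theorem ww_le {V L Y U : Subgroup G} (h1 : ∀ l ∈ L, ∀ v ∈ V, l * v * l⁻¹ ∈ U) (h2 : Y ≤ U) : ww V L Y ≤ U := by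
  refine sup_le ?_ h2
  rw [closure_le]
  rintro _ ⟨l, hl, v, hv, rfl⟩
  exact h1 l hl v hv

theorem V_le_ww (V L Y : Subgroup G) : V ≤ ww V L Y := fun v hv =>
  (le_sup_left : _ ≤ ww V L Y) (subset_closure ⟨1, one_mem _, v, hv, by group⟩)

theorem Y_le_ww (V L Y : Subgroup G) : Y ≤ ww V L Y := le_sup_right

theorem conj_mem_ww {V L Y : Subgroup G} {l v : G} (hl : l ∈ L) (hv : v ∈ V) : l * v * l⁻¹ ∈ ww V L Y :=
  (le_sup_left : _ ≤ ww V L Y) (subset_closure ⟨l, hl, v, hv, rfl⟩)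

theorem mem_normalizer_ww {V L Y : Subgroup G} {g : G} (h1 : g ∈ normalizer (L : Set G))
    (h2 : ∀ v ∈ V, ∃ l ∈ L, ∃ v' ∈ V, g * v * g⁻¹ = l * v' * l⁻¹)
    (h2' : ∀ v ∈ V, ∃ l ∈ L, ∃ v' ∈ V, g⁻¹ * v * g⁻¹⁻¹ = l * v' * l⁻¹)
    (h3 : g ∈ normalizer (Y : Set G)) : g ∈ normalizer ((ww V L Y : Subgroup G) : Set G) := by
  have key : ∀ g : G, g ∈ normalizer (L : Set G) → (∀ v ∈ V, ∃ l ∈ L, ∃ v' ∈ V, g * v * g⁻¹ = l * v' * l⁻¹) →
      g ∈ normalizer (Y : Set G) → ∀ w ∈ ww V L Y, g * w * g⁻¹ ∈ ww V L Y := by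
    intro g h1 h2 h3 w hw
    have h4 : ww V L Y ≤ (ww V L Y).comap (MulAut.conj g).toMonoidHom := by
      refine ww_le (fun l hl v hv => ?_) fun y hy => ?_
      · change g * (l * v * l⁻¹) * g⁻¹ ∈ ww V L Y
        obtain ⟨l', hl', v', hv', e⟩ := h2 v hv
        rw [show g * (l * v * l⁻¹) * g⁻¹ = (g * l * g⁻¹ * l') * v' * (g * l * g⁻¹ * l')⁻¹ by
          calc g * (l * v * l⁻¹) * g⁻¹ = (g * l * g⁻¹) * (g * v * g⁻¹) * (g * l * g⁻¹)⁻¹ := by group
            _ = _ := by rw [e]; group]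
        exact conj_mem_ww (mul_mem ((mem_normalizer_iff.mp h1 l).mp hl) hl') hv'
      · change g * y * g⁻¹ ∈ ww V L Y
        exact Y_le_ww V L Y ((mem_normalizer_iff.mp h3 y).mp hy)
    exact h4 hw
  refine mem_normalizer_iff.mpr fun w => ⟨key g h1 h2 h3 w, fun hw => ?_⟩
  have h5 := key g⁻¹ (inv_mem h1) h2' (inv_mem h3) _ hw
  rwa [show g⁻¹ * (g * w * g⁻¹) * g⁻¹⁻¹ = w by group] at h5

namespace In

variable [Finite G] {T V : Subgroup G} {z : G} {L Y : Subgroup G}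

theorem ww_le_ws (h : In T V z L Y) : ww V L Y ≤ ws V z :=
  ww_le (fun _ hl _ hv => (mem_normalizer_iff.mp (centralizer_le_normalizer_ws V z (h.L_le hl)) _).mp
    (h.V_le_ws hv)) h.Y_le

theorem LT_nor (h : In T V z L Y) : L ⊔ T ≤ normalizer ((ww V L Y : Subgroup G) : Set G) := by
  refine sup_le (fun l hl => ?_) fun t ht => ?_
  · refine mem_normalizer_ww (le_normalizer hl) (fun v hv => ⟨l, hl, v, hv, rfl⟩)
      (fun v hv => ⟨l⁻¹, inv_mem hl, v, hv, rfl⟩) (h.Y_nor (h.L_le hl))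
  · have ht' := h.T_norm ht
    refine mem_normalizer_ww (h.L_nor (h.T_le ht)) (fun v hv => ⟨1, one_mem _, _, (mem_normalizer_iff.mp ht' v).mp hv,
      by group⟩) (fun v hv => ⟨1, one_mem _, _, (mem_normalizer_iff.mp (inv_mem ht') v).mp hv, by group⟩)
      (h.Y_nor (h.T_le ht))

theorem LT_le (h : In T V z L Y) : L ⊔ T ≤ centralizer ({z} : Set G) := sup_le h.L_le h.T_le

/-- (F2) -/
theorem f2 (h : In T V z L Y) {U : Subgroup G} (hU : IsPGroup 2 U) (hU1 : U ≠ ⊥)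
    (hTU : T ≤ normalizer (U : Set G)) (hLU : L ≤ normalizer (U : Set G)) :
    normalizer (U : Set G) ≤ centralizer ({z} : Set G) := by
  rcases h.tri U hU hU1 hTU with h1 | ⟨h1, h2⟩
  · exact h1
  exfalso
  set W := vx (normalizer (U : Set G)) z with hW
  have hWn : normalizer (U : Set G) ≤ normalizer (W : Set G) := by
    refine le_normalizer_of_forall fun g hg y hy => ?_
    have h3 : W ≤ W.comap (MulAut.conj g).toMonoidHom := by
      rw [hW]
      conv_lhs => unfold vx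
      rw [closure_le]
      rintro _ ⟨x, hx, rfl⟩
      change g * (x * z * x⁻¹) * g⁻¹ ∈ vx _ z
      refine subset_closure ⟨g * x, mul_mem hg hx, by group⟩
    exact h3 hy
  have hD : L ⊓ centralizer (W : Set G) = L ∨ IsPGroup 2 (L ⊓ centralizer (W : Set G) : Subgroup G) :=
    h.max _ inf_le_left (le_normalizer_inf le_normalizer (le_normalizer_cent (hLU.trans hWn)))
  rcases hD with e | e
  · apply h.L_mv
    intro l hl
    rw [← e] at hl
    exact (centralizer_le (show (V : Set G) ⊆ (W : Set G) from h1)) hl.2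
  · refine false_of_two_three h.toIsStar fun l hl => ?_
    obtain ⟨i, j, hij⟩ := h2 l (hLU hl) (h.L_le hl)
    obtain ⟨k, hk⟩ := e ⟨l ^ (2 ^ i * 3 ^ j), pow_mem hl _, hij⟩
    have hk' : (l ^ (2 ^ i * 3 ^ j)) ^ 2 ^ k = 1 := congrArg Subtype.val hk
    refine ⟨i + k, j, ?_⟩
    rw [← hk', ← pow_mul]
    congr 1
    ring

/-- the element `w * w = 1` for `w ∈ ws V z` -/
theorem ws_sq (h : In T V z L Y) {w : G} (hw : w ∈ ws V z) : w * w = 1 := by
  let A : Subgroup G :=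
    { carrier := {w | w ∈ ws V z ∧ w * w = 1}
      mul_mem' := by
        rintro a b ⟨ha, ha1⟩ ⟨hb, hb1⟩
        refine ⟨mul_mem ha hb, ?_⟩
        calc a * b * (a * b) = a * (b * a) * b := by group
          _ = (a * a) * (b * b) := by rw [h.ab b hb a ha]; group
          _ = 1 := by rw [ha1, hb1, one_mul]
      one_mem' := ⟨one_mem _, one_mul 1⟩
      inv_mem' := by
        rintro a ⟨ha, ha1⟩
        refine ⟨inv_mem ha, ?_⟩
        rw [← mul_inv_rev, ha1, inv_one] }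
  have h1 : ws V z ≤ A := by
    refine ws_le fun M hM x hx => ⟨le_ws hM hx, ?_⟩
    obtain ⟨⟨g, rfl⟩, _⟩ := hM
    rw [Cfsg.Agent.MinSimple.Geo.mem_cj] at hx
    have h2 := h.sq _ hx
    have h3 : g⁻¹ * (x * x) * g = 1 := by rw [← h2]; group
    calc x * x = g * (g⁻¹ * (x * x) * g) * g⁻¹ := by group
      _ = 1 := by rw [h3]; group
  exact (h1 hw).2

/-- `[V, o2 (C z)] ≤ ⟨z⟩` -/
theorem comm_o2 (h : In T V z L Y) {v q : G} (hv : v ∈ V) (hq : q ∈ o2 (centralizer ({z} : Set G))) :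
    q * v * q⁻¹ * v⁻¹ ∈ zpowers z := by
  have h1 := h.comm_mem (h.V_le_ws hv) hq
  have e : q * v * q⁻¹ * v⁻¹ = (v * q * v⁻¹ * q⁻¹)⁻¹ := by group
  rw [e]; exact inv_mem h1

theorem LY_le_o2 (h : In T V z L Y) : L ⊓ centralizer (Y : Set G) ≤ o2 (centralizer ({z} : Set G)) := by
  have h1 : IsPGroup 2 (L ⊓ centralizer (Y : Set G) : Subgroup G) := by
    rcases h.max (L ⊓ centralizer (Y : Set G)) inf_le_left
      (le_normalizer_inf le_normalizer (le_normalizer_cent (h.L_le.trans h.Y_nor))) with e | e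
    · exact absurd (fun l hl => by rw [← e] at hl; exact hl.2) h.L_Y
    · exact e
  exact Block.le_o2 h1 (inf_le_left.trans h.L_le) (le_normalizer_inf h.L_nor (le_normalizer_cent h.Y_nor))

/-- **(A)** -/
theorem act (h : In T V z L Y) {y : G} (hy : y ∈ centralizer ({z} : Set G)) (hyY : y ∈ centralizer (Y : Set G))
    (hyV : y ∈ centralizer (V : Set G)) {w : G} (hw : w ∈ ww V L Y) : y * w * y⁻¹ * w⁻¹ ∈ zpowers z := by
  have hcz : ∀ w ∈ ws V z, ∀ c ∈ zpowers z, w * c = c * w := fun w hw c hc => by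
    rcases (mem_zpowers_iff_of_mul_self h.zz).mp hc with e | e
    · rw [e]; simp
    · rw [e]; exact h.z_comm (h.ws_le_centralizer hw)
  let A : Subgroup G :=
    { carrier := {w | w ∈ ws V z ∧ y * w * y⁻¹ * w⁻¹ ∈ zpowers z}
      mul_mem' := by
        rintro a b ⟨ha, ha1⟩ ⟨hb, hb1⟩
        refine ⟨mul_mem ha hb, ?_⟩
        have e : y * (a * b) * y⁻¹ * (a * b)⁻¹ = (y * a * y⁻¹ * a⁻¹) * (a * (y * b * y⁻¹ * b⁻¹) * a⁻¹) := by group
        rw [e, hcz a ha _ hb1, mul_inv_cancel_right]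
        exact mul_mem ha1 hb1
      one_mem' := ⟨one_mem _, by simp⟩
      inv_mem' := by
        rintro a ⟨ha, ha1⟩
        refine ⟨(show a⁻¹ ∈ ws V z from (ws V z).inv_mem ha), ?_⟩
        have e : y * a⁻¹ * y⁻¹ * a⁻¹⁻¹ = a⁻¹ * (a * (y * a⁻¹ * y⁻¹)) * a := by group
        have e2 : a * (y * a⁻¹ * y⁻¹) = (y * a * y⁻¹ * a⁻¹)⁻¹ := by group
        have ha1' := (zpowers z).inv_mem ha1
        rw [e, e2, hcz a⁻¹ ((ws V z).inv_mem ha) _ ha1', mul_assoc, inv_mul_cancel, mul_one]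
        exact ha1' }
  have h1 : ww V L Y ≤ A := by
    refine ww_le (fun l hl v hv => ⟨?_, ?_⟩) fun x hx => ⟨h.Y_le hx, ?_⟩
    · exact (mem_normalizer_iff.mp (centralizer_le_normalizer_ws V z (h.L_le hl)) _).mp (h.V_le_ws hv)
    · have hk : l⁻¹ * y * l * y⁻¹ ∈ o2 (centralizer ({z} : Set G)) := by
        refine h.LY_le_o2 ⟨?_, ?_⟩
        · have h2 : y * l * y⁻¹ ∈ L := (mem_normalizer_iff.mp (h.L_nor hy) l).mp hl
          have e : l⁻¹ * y * l * y⁻¹ = l⁻¹ * (y * l * y⁻¹) := by group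
          rw [e]; exact L.mul_mem (L.inv_mem hl) h2
        · have h2 : l⁻¹ * y * l ∈ centralizer (Y : Set G) := by
            have := (mem_normalizer_iff.mp (le_normalizer_cent h.Y_nor (inv_mem (h.L_le hl))) y).mp hyY
            simpa using this
          exact Subgroup.mul_mem _ h2 (Subgroup.inv_mem _ hyY)
      have h3 := h.comm_o2 hv hk
      -- `l⁻¹ y l = k y`, `y` centralises `v`
      have hyv : y * v * y⁻¹ = v := by
        rw [show y * v = v * y from ((mem_centralizer_iff.mp hyV) v hv).symm, mul_inv_cancel_right]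
      have e : y * (l * v * l⁻¹) * y⁻¹ * (l * v * l⁻¹)⁻¹ =
          l * ((l⁻¹ * y * l * y⁻¹) * v * (l⁻¹ * y * l * y⁻¹)⁻¹ * v⁻¹) * l⁻¹ := by
        conv_rhs => rw [show (l⁻¹ * y * l * y⁻¹) * v * (l⁻¹ * y * l * y⁻¹)⁻¹ =
          (l⁻¹ * y * l * y⁻¹) * (y * v * y⁻¹) * (l⁻¹ * y * l * y⁻¹)⁻¹ by rw [hyv]]
        group
      rw [e]
      have h4 : l * ((l⁻¹ * y * l * y⁻¹) * v * (l⁻¹ * y * l * y⁻¹)⁻¹ * v⁻¹) =
          ((l⁻¹ * y * l * y⁻¹) * v * (l⁻¹ * y * l * y⁻¹)⁻¹ * v⁻¹) * l := by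
        rcases (mem_zpowers_iff_of_mul_self h.zz).mp h3 with e | e
        · rw [e]; simp
        · rw [e]; exact h.z_comm (h.L_le hl)
      rw [h4, mul_inv_cancel_right]
      exact h3
    · rw [show y * x = x * y from ((mem_centralizer_iff.mp hyY) x hx).symm]
      simp
  exact (h1 hw).2

/-! ### the critical pair -/

theorem ww_cent (h : In T V z L Y) : ww V L Y ≤ centralizer ((ww V L Y : Subgroup G) : Set G) := fun a ha =>
  mem_centralizer_iff.mpr fun b hb => h.ab b (h.ww_le_ws hb) a (h.ww_le_ws ha)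

/-- the conjugates of `W` under `⟨L T, N(V)⟩` do not commute pairwise -/
theorem exists_not (h : In T V z L Y) : ∃ g ∈ (L ⊔ T) ⊔ normalizer (V : Set G),
    ¬ ww V L Y ≤ centralizer ((cj g (ww V L Y) : Subgroup G) : Set G) := by
  by_contra hcon
  push Not at hcon
  set W := ww V L Y with hW
  set P := (L ⊔ T) ⊔ normalizer (V : Set G) with hP
  set U : Subgroup G := closure {u | ∃ g ∈ P, ∃ w ∈ W, u = g * w * g⁻¹} with hU
  have hPU : P ≤ normalizer (U : Set G) := by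
    refine le_normalizer_of_forall fun g hg y hy => ?_
    have h3 : U ≤ U.comap (MulAut.conj g).toMonoidHom := by
      conv_lhs => rw [hU]
      rw [closure_le]
      rintro _ ⟨x, hx, w, hw, rfl⟩
      change g * (x * w * x⁻¹) * g⁻¹ ∈ U
      exact subset_closure ⟨g * x, mul_mem hg hx, w, hw, by group⟩
    exact h3 hy
  have hcom : ∀ a ∈ U, ∀ b ∈ U, a * b = b * a := by
    have hgen : ∀ a ∈ {u | ∃ g ∈ P, ∃ w ∈ W, u = g * w * g⁻¹}, ∀ b ∈ {u | ∃ g ∈ P, ∃ w ∈ W, u = g * w * g⁻¹},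
        a * b = b * a := by
      rintro _ ⟨g, hg, w, hw, rfl⟩ _ ⟨g', hg', w', hw', rfl⟩
      have h1 := hcon (g⁻¹ * g') (mul_mem (inv_mem hg) hg') hw
      have h2 := (mem_centralizer_iff.mp h1) (g⁻¹ * g' * w' * (g⁻¹ * g')⁻¹) (conj_mem_cj hw')
      have h3 : g * (g⁻¹ * g' * w' * (g⁻¹ * g')⁻¹ * w) * g⁻¹ = g * (w * (g⁻¹ * g' * w' * (g⁻¹ * g')⁻¹)) * g⁻¹ := by
        rw [h2]
      have e1 : g * (g⁻¹ * g' * w' * (g⁻¹ * g')⁻¹ * w) * g⁻¹ = (g' * w' * g'⁻¹) * (g * w * g⁻¹) := by group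
      have e2 : g * (w * (g⁻¹ * g' * w' * (g⁻¹ * g')⁻¹)) * g⁻¹ = (g * w * g⁻¹) * (g' * w' * g'⁻¹) := by group
      rw [e1, e2] at h3
      exact h3.symm
    have h1 : U ≤ centralizer ({u | ∃ g ∈ P, ∃ w ∈ W, u = g * w * g⁻¹} : Set G) := by
      rw [hU, closure_le]
      intro a ha
      exact mem_centralizer_iff.mpr fun b hb => hgen b hb a ha
    have h2 : U ≤ centralizer (U : Set G) := by
      conv_lhs => rw [hU]
      rw [closure_le]
      intro a ha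
      exact mem_centralizer_iff.mpr fun b hb => ((mem_centralizer_iff.mp (h1 hb)) a ha).symm
    exact fun a ha b hb => ((mem_centralizer_iff.mp (h2 ha)) b hb).symm
  have hsq : ∀ a ∈ U, a * a = 1 := by
    let A : Subgroup G :=
      { carrier := {w | w ∈ U ∧ w * w = 1}
        mul_mem' := by
          rintro a b ⟨ha, ha1⟩ ⟨hb, hb1⟩
          refine ⟨mul_mem ha hb, ?_⟩
          calc a * b * (a * b) = a * (b * a) * b := by group
            _ = (a * a) * (b * b) := by rw [hcom b hb a ha]; group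
            _ = 1 := by rw [ha1, hb1, one_mul]
        one_mem' := ⟨one_mem _, one_mul 1⟩
        inv_mem' := by
          rintro a ⟨ha, ha1⟩
          refine ⟨inv_mem ha, ?_⟩
          rw [← mul_inv_rev, ha1, inv_one] }
    have h1 : U ≤ A := by
      conv_lhs => rw [hU]
      rw [closure_le]
      rintro _ ⟨g, hg, w, hw, rfl⟩
      refine ⟨subset_closure ⟨g, hg, w, hw, rfl⟩, ?_⟩
      calc g * w * g⁻¹ * (g * w * g⁻¹) = g * (w * w) * g⁻¹ := by group
        _ = 1 := by rw [h.ws_sq (h.ww_le_ws hw)]; group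
    exact fun a ha => (h1 ha).2
  have hU2 : IsPGroup 2 U := by
    rintro ⟨y, hy⟩
    refine ⟨1, Subtype.ext ?_⟩
    rw [pow_one]
    change y ^ 2 = 1
    rw [pow_two, hsq y hy]
  have hVU : V ≤ U := fun v hv => subset_closure ⟨1, one_mem _, v, V_le_ww V L Y hv, by group⟩
  have hU1 : U ≠ ⊥ := fun e => h.z_ne (by
    have := hVU h.z_mem
    rw [e, mem_bot] at this
    exact this)
  have h5 := h.f2 hU2 hU1 ((le_sup_right.trans le_sup_left).trans hPU) ((le_sup_left.trans le_sup_left).trans hPU)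
  obtain ⟨y, hy, hy1, hyz⟩ := h.exists_y
  obtain ⟨g, hg, e⟩ := h.trans y hy hy1
  have h6 := h.z_comm (h5 (hPU (le_sup_right (a := L ⊔ T) hg)))
  exact hyz (by rw [← e, h6, mul_inv_cancel_right])

/-- `[W, W^g] ≠ 1`, `W^g ≤ C(V)`, `W ≤ C(V^g)` -/
theorem exists_crit (h : In T V z L Y) : ∃ g : G,
    ¬ ww V L Y ≤ centralizer ((cj g (ww V L Y) : Subgroup G) : Set G) ∧
    cj g (ww V L Y) ≤ centralizer (V : Set G) ∧ cj g⁻¹ (ww V L Y) ≤ centralizer (V : Set G) := by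
  classical
  set W := ww V L Y with hW
  obtain ⟨g0, hg0, hn0⟩ := h.exists_not
  obtain ⟨k0, hk0⟩ := exists_DD hg0
  have hex : ∃ k, ∃ g ∈ DD (L ⊔ T) (normalizer (V : Set G)) k, ¬ W ≤ centralizer ((cj g W : Subgroup G) : Set G) :=
    ⟨k0, g0, hk0, hn0⟩
  set n := Nat.find hex with hn
  obtain ⟨g, hg, hgn⟩ := Nat.find_spec hex
  rw [← hn] at hg
  have hmin : ∀ k < n, ∀ g ∈ DD (L ⊔ T) (normalizer (V : Set G)) k, W ≤ centralizer ((cj g W : Subgroup G) : Set G) := by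
    intro k hk g hg
    by_contra hcon
    exact Nat.find_min hex hk ⟨g, hg, hcon⟩
  have hfix : ∀ a ∈ L ⊔ T, cj a W = W := fun a ha => cj_eq_of_mem_normalizer (h.LT_nor ha)
  have hn1 : n ≠ 0 := by
    intro e
    rw [e] at hg
    apply hgn
    rw [hfix g hg]
    exact h.ww_cent
  obtain ⟨m, hm⟩ := Nat.exists_eq_succ_of_ne_zero hn1
  -- a word of length `m + 1` beginning with `N(V)`
  have key : ∀ g : G, (∃ n0 ∈ normalizer (V : Set G), ∃ g' ∈ DD (L ⊔ T) (normalizer (V : Set G)) m, g = n0 * g') →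
      cj g W ≤ centralizer (V : Set G) := by
    rintro _ ⟨n0, hn0, g', hg', rfl⟩
    have h1 := hmin m (by omega) g' hg'
    have h2 : cj n0 W ≤ centralizer ((cj (n0 * g') W : Subgroup G) : Set G) := by
      rintro _ ⟨w, hw, rfl⟩
      refine mem_centralizer_iff.mpr ?_
      intro y hy
      change y * (n0 * w * n0⁻¹) = n0 * w * n0⁻¹ * y
      have h3 := (mem_centralizer_iff.mp (h1 hw)) (n0⁻¹ * y * n0) (by
        rw [SetLike.mem_coe, mem_cj] at hy ⊢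
        rw [show g'⁻¹ * (n0⁻¹ * y * n0) * g' = (n0 * g')⁻¹ * y * (n0 * g') by group]
        exact hy)
      calc y * (n0 * w * n0⁻¹) = n0 * ((n0⁻¹ * y * n0) * w) * n0⁻¹ := by group
        _ = n0 * (w * (n0⁻¹ * y * n0)) * n0⁻¹ := by rw [h3]
        _ = _ := by group
    have h3 : V ≤ cj n0 W := by
      rw [← cj_eq_of_mem_normalizer hn0]
      exact cj_mono (V_le_ww V L Y)
    exact le_centralizer_iff.mp (h3.trans h2)
  rw [hm] at hg
  obtain ⟨a, ha, n0, hn0, g', hg', rfl⟩ := hg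
  set g1 := n0 * g' with hg1
  have hg1D : g1 ∈ DD (L ⊔ T) (normalizer (V : Set G)) (m + 1) := ⟨1, one_mem _, n0, hn0, g', hg', by rw [hg1]; group⟩
  obtain ⟨b, hb, m0, hm0, h', hh', e⟩ := DD.inv hg1D
  have h7 : cj (a * n0 * g') W = cj a (cj g1 W) := by
    rw [cj_cj, hg1, mul_assoc]
  have hnot1 : ¬ W ≤ centralizer ((cj g1 W : Subgroup G) : Set G) := by
    intro hle
    apply hgn
    rw [h7]
    intro w hw
    refine mem_centralizer_iff.mpr ?_
    intro y hy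
    rw [SetLike.mem_coe, mem_cj] at hy
    have hw' : a⁻¹ * w * a ∈ W := by
      have := (mem_normalizer_iff.mp (inv_mem (h.LT_nor ha)) w).mp hw
      simpa using this
    have h8 := (mem_centralizer_iff.mp (hle hw')) _ hy
    calc y * w = a * ((a⁻¹ * y * a) * (a⁻¹ * w * a)) * a⁻¹ := by group
      _ = a * ((a⁻¹ * w * a) * (a⁻¹ * y * a)) * a⁻¹ := by rw [h8]
      _ = w * y := by group
  have h9 : cj (g1 * b) W = cj g1 W := by rw [← cj_cj, hfix b hb]
  refine ⟨g1 * b, ?_, ?_, ?_⟩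
  · rw [h9]; exact hnot1
  · rw [h9]; exact key g1 ⟨n0, hn0, g', hg', rfl⟩
  · refine key _ ⟨m0, hm0, h', hh', ?_⟩
    rw [mul_inv_rev, e]; group

/-- **(3)** -/
theorem exists_pair (h : In T V z L Y) : ∃ g : G, cj g Y ≤ centralizer ({z} : Set G) ∧
    Y ≤ centralizer ({g * z * g⁻¹} : Set G) ∧ ¬ Y ≤ centralizer ((cj g Y : Subgroup G) : Set G) := by
  by_contra hcon
  push Not at hcon
  obtain ⟨g, hg1, hg2, hg3⟩ := h.exists_crit
  set W := ww V L Y with hW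
  have hYW : Y ≤ W := Y_le_ww V L Y
  have hVz : centralizer (V : Set G) ≤ centralizer ({z} : Set G) :=
    centralizer_le (by intro x hx; rw [Set.mem_singleton_iff] at hx; rw [hx]; exact h.z_mem)
  -- the two halves
  have half : ∀ g : G, cj g W ≤ centralizer (V : Set G) → cj g⁻¹ W ≤ centralizer (V : Set G) →
      cj g W ≤ centralizer (Y : Set G) ∧
        ∀ w ∈ W, ∀ y ∈ cj g W, y * w * y⁻¹ * w⁻¹ ∈ zpowers z := by
    have first : ∀ g : G, cj g W ≤ centralizer (V : Set G) → cj g⁻¹ W ≤ centralizer (V : Set G) →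
        Y ≤ centralizer ((cj g Y : Subgroup G) : Set G) := by
      intro g hg2 hg3
      refine hcon g (((cj_mono hYW).trans hg2).trans hVz) fun y hy => ?_
      have h1 : g⁻¹ * y * g ∈ centralizer (V : Set G) := hg3 (by
        rw [mem_cj]
        rw [show g⁻¹⁻¹ * (g⁻¹ * y * g) * g⁻¹ = y by group]
        exact hYW hy)
      have h2 := h.z_comm (hVz h1)
      rw [mem_centralizer_singleton_iff]
      calc y * (g * z * g⁻¹) = g * ((g⁻¹ * y * g) * z) * g⁻¹ := by group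
        _ = g * (z * (g⁻¹ * y * g)) * g⁻¹ := by rw [h2]
        _ = g * z * g⁻¹ * y := by group
    -- `[W, Y^g] ≤ ⟨z⟩`
    have second : ∀ g : G, cj g W ≤ centralizer (V : Set G) → cj g⁻¹ W ≤ centralizer (V : Set G) →
        ∀ w ∈ W, ∀ y ∈ cj g Y, y * w * y⁻¹ * w⁻¹ ∈ zpowers z := by
      intro g hg2 hg3 w hw y hy
      have h1 := first g hg2 hg3
      have h2 := hg2 (cj_mono hYW hy)
      exact h.act (hVz h2) (le_centralizer_iff.mp h1 hy) h2 hw
    intro g hg2 hg3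
    -- `[Y, W^g] ≤ ⟨z^g⟩`
    have third : ∀ w ∈ cj g W, ∀ y ∈ Y, y * w * y⁻¹ * w⁻¹ = 1 ∨ y * w * y⁻¹ * w⁻¹ = g * z * g⁻¹ := by
      intro w hw y hy
      rw [mem_cj] at hw
      have h1 := second g⁻¹ hg3 (by rwa [inv_inv]) _ hw (g⁻¹ * y * g) (by
        rw [mem_cj, show g⁻¹⁻¹ * (g⁻¹ * y * g) * g⁻¹ = y by group]
        exact hy)
      rcases (mem_zpowers_iff_of_mul_self h.zz).mp h1 with e | e
      · left
        calc y * w * y⁻¹ * w⁻¹ = g * (g⁻¹ * y * g * (g⁻¹ * w * g) * (g⁻¹ * y * g)⁻¹ * (g⁻¹ * w * g)⁻¹) * g⁻¹ := by group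
          _ = 1 := by rw [e]; group
      · right
        calc y * w * y⁻¹ * w⁻¹ = g * (g⁻¹ * y * g * (g⁻¹ * w * g) * (g⁻¹ * y * g)⁻¹ * (g⁻¹ * w * g)⁻¹) * g⁻¹ := by group
          _ = _ := by rw [e]
    have hzz' : (g * z * g⁻¹)⁻¹ = g * z * g⁻¹ := by
      rw [mul_inv_rev, mul_inv_rev, inv_inv, inv_eq_self h.zz, mul_assoc]
    have fourth : cj g W ≤ centralizer (Y : Set G) := by
      intro w hw
      by_contra hc
      obtain ⟨y, hy, hy1, hy2⟩ := h.big w (hVz (hg2 hw)) hc (g * z * g⁻¹)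
      have e0 : w * y * w⁻¹ * y⁻¹ = (y * w * y⁻¹ * w⁻¹)⁻¹ := by group
      rcases third w hw y hy with e | e
      · exact hy1 (by rw [e0, e, inv_one])
      · exact hy2 (by rw [e0, e, hzz'])
    refine ⟨fourth, fun w hw y hy => ?_⟩
    have h2 := hg2 hy
    exact h.act (hVz h2) (fourth hy) h2 hw
  obtain ⟨h1, h2⟩ := half g hg2 hg3
  obtain ⟨h3, h4⟩ := half g⁻¹ hg3 (by rwa [inv_inv])
  apply hg1
  intro w hw
  refine mem_centralizer_iff.mpr ?_
  intro y hy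
  rw [SetLike.mem_coe] at hy
  have h5 := h2 w hw y hy
  have hy' := hy
  rw [mem_cj] at hy'
  have h6 := h4 _ hy' (g⁻¹ * w * g) (by
    rw [mem_cj, show g⁻¹⁻¹ * (g⁻¹ * w * g) * g⁻¹ = w by group]
    exact hw)
  rcases (mem_zpowers_iff_of_mul_self h.zz).mp h5 with e5 | e5
  · calc y * w = (y * w * y⁻¹ * w⁻¹) * (w * y) := by group
      _ = w * y := by rw [e5, one_mul]
  rcases (mem_zpowers_iff_of_mul_self h.zz).mp h6 with e6 | e6
  · calc y * w = g * ((g⁻¹ * w * g * (g⁻¹ * y * g) * (g⁻¹ * w * g)⁻¹ * (g⁻¹ * y * g)⁻¹)⁻¹) * g⁻¹ * (w * y) := by group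
      _ = w * y := by rw [e6]; group
  -- `z^g = z`
  have e7 : g * z * g⁻¹ = z := by
    have h8 : y * w * y⁻¹ * w⁻¹ = g * ((g⁻¹ * w * g * (g⁻¹ * y * g) * (g⁻¹ * w * g)⁻¹ * (g⁻¹ * y * g)⁻¹)⁻¹) * g⁻¹ := by
      group
    rw [e6, inv_eq_self h.zz] at h8
    rw [← h8, e5]
  have hgC : g ∈ centralizer ({z} : Set G) := by
    rw [mem_centralizer_singleton_iff]
    calc g * z = (g * z * g⁻¹) * g := by group
      _ = z * g := by rw [e7]
  have h9 : y ∈ ws V z := by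
    have h10 := (mem_normalizer_iff.mp (centralizer_le_normalizer_ws V z hgC) _).mp (h.ww_le_ws hy')
    rwa [show g * (g⁻¹ * y * g) * g⁻¹ = y by group] at h10
  exact h.ab y h9 w (h.ww_le_ws hw)

end In

end Cfsg.Agent.OddCyclic.EmpLine.BcCrit
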