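import Mathlib
import Cfsg.Agent.OddCyclic.EmpLine.BcC
import Cfsg.Agent.OddCyclic.Eq.QAct
import Cfsg.Agent.Transfer.ElemAbAut

/-!
# The exits, type (1\3) of `C(z)`: `Y = 2⁴`

* `Md S V z L Y`: `Y ≤ ws V z` normal in `C(z)`, `|Y| = 16`, `C(z)` induces `L₃(2)` on `Y/⟨z⟩`, `C_Y(L) = ⟨z⟩`;
* `Cx.exists_md`.
-/

set_option autoImplicit false
set_option linter.unusedSectionVars false

namespace Cfsg.Agent.OddCyclic.EmpLine

open Subgroup Cfsg Cfsg.Agent.ZN Cfsg.Agent.ZN.ChoiceBase Cfsg.Agent.ZN.ChoiceSit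
open Cfsg.Agent.MinSimple Cfsg.Agent.MinSimple.EmptyTI Cfsg.Agent.MinSimple.EmptySix
open Cfsg.Agent.MinSimple.Geo (ws lines le_ws ws_le inv_eq_self mem_zpowers_iff_of_mul_self)
open Cfsg.Agent.OddCyclic.GeoC (GeoC)
open Cfsg.Agent.OddCyclic.T1Module Cfsg.Agent.OddCyclic.FFBasic Cfsg.Agent.OddCyclic.FFRed
open Cfsg.Agent.OddCyclic.FFSl2 (CS_le_fx index_le_of_le)
open Cfsg.Agent.OddCyclic.FFThree Cfsg.Agent.OddCyclic.RedRep
open Cfsg.Agent.OddCyclic.RedTy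
open Cfsg.Agent.OddCyclic.RedSevenX (img mem_img cent_kk cent_jj relIndex_cent cent_iff mem_norm_of)
open Cfsg.Agent.OddCyclic.EN.BbDefs (IsStar)
open scoped commutatorElement

universe u

variable {G : Type u} [Group G] [Finite G]

/-- `Y = 2⁴`, `C(z)` induces `L₃(2)` on `Y / ⟨z⟩`, nonsplit -/
structure Md (S V : Subgroup G) (z : G) (L Y : Subgroup G) : Prop extends Cx S V z L where
  Y_le : Y ≤ ws V z
  Y_nor : centralizer ({z} : Set G) ≤ normalizer (Y : Set G)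
  L_Y : ¬ L ≤ centralizer (Y : Set G)
  comm : Y ≤ ⁅Y, L⁆
  card : Nat.card Y = 16
  z_Y : z ∈ Y
  fixL : ∀ y ∈ Y, (∀ l ∈ L, l * y = y * l) → y = 1 ∨ y = z
  cov : ∀ g ∈ centralizer ({z} : Set G), ∃ l ∈ L, l⁻¹ * g ∈ centralizer (Y : Set G)
  q168 : Q168 L Y
  three : ∀ x ∈ centralizer ({z} : Set G), El3 x → x ^ 3 = 1

/-- a perfect `L` with `[Y, L, L] = 1` centralises `Y` -/
theorem le_centralizer_of_comm {L Y : Subgroup G} (hL : ⁅L, L⁆ = L) (h : L ≤ centralizer ((⁅Y, L⁆ : Subgroup G) : Set G)) :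
    L ≤ centralizer (Y : Set G) := by
  have h1 : ⁅⁅Y, L⁆, L⁆ = ⊥ := by
    rw [commutator_eq_bot_iff_le_centralizer, Subgroup.le_centralizer_iff]
    exact h
  have h2 : ⁅⁅L, Y⁆, L⁆ = ⊥ := by rw [commutator_comm L Y]; exact h1
  have h3 := commutator_commutator_eq_bot_of_rotate h2 h1
  rw [hL, commutator_eq_bot_iff_le_centralizer] at h3
  exact h3

/-- a normal subgroup of `L`, a 2-group, centralises `Y` -/
theorem Q168.le_of_two {L Y D : Subgroup G} (hq : Q168 L Y) (hDL : D ≤ L) (hn : L ≤ normalizer (D : Set G))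
    (hD : IsPGroup 2 D) : D ≤ centralizer (Y : Set G) := by
  obtain ⟨Q, iQ, f, hf, hfk, hs, hc⟩ := hq
  have hDn : (D.subgroupOf L).Normal := normal_subgroupOf_of_le_normalizer hn
  have h1 : ((D.subgroupOf L).map f).Normal := hDn.map f hf
  rcases h1.eq_bot_or_eq_top with h2 | h2
  · intro d hd
    have h3 : f ⟨d, hDL hd⟩ ∈ (D.subgroupOf L).map f := ⟨⟨d, hDL hd⟩, hd, rfl⟩
    rw [h2, mem_bot] at h3
    have h4 : (⟨d, hDL hd⟩ : L) ∈ f.ker := h3
    rw [hfk] at h4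
    exact h4
  · exfalso
    have hfQ : Finite Q := Nat.finite_of_card_ne_zero (by rw [hc]; norm_num)
    have h3 : IsPGroup 2 (D.subgroupOf L) := hD.comap_of_injective L.subtype L.subtype_injective
    have h4 : IsPGroup 2 ((D.subgroupOf L).map f) := h3.map f
    rw [h2] at h4
    have : Fact (Nat.Prime 2) := ⟨Nat.prime_two⟩
    obtain ⟨n, hn⟩ := IsPGroup.iff_card.1 h4
    rw [Subgroup.card_top, hc] at hn
    have h5 : 3 ∣ 2 ^ n := by rw [← hn]; norm_num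
    have := Nat.Prime.dvd_of_dvd_pow Nat.prime_three h5
    omega

namespace Cx

variable {S V : Subgroup G} {z : G} {L : Subgroup G}

/-- `Q168` for `Y ≤ Y₁` -/
theorem q168_mono (c : Cx S V z L) {Y Y₁ : Subgroup G} (hY : Y ≤ Y₁)
    (hn : centralizer ({z} : Set G) ≤ normalizer (Y : Set G)) (hLY : ¬ L ≤ centralizer (Y : Set G))
    (hq : Q168 L Y₁) : Q168 L Y := by
  have h1 : L ⊓ centralizer (Y : Set G) ≠ L := fun h0 => hLY (h0 ▸ inf_le_right)
  have h2 := c.isPGroup_of inf_le_left (c.L_le.trans (c.inf_norm hn)) h1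
  have h3 := hq.le_of_two inf_le_left (c.L_le.trans (c.inf_norm hn)) h2
  obtain ⟨Q, iQ, f, hf, hfk, hs, hc⟩ := hq
  refine ⟨Q, iQ, f, hf, ?_, hs, hc⟩
  rw [hfk]
  ext l
  rw [mem_subgroupOf, mem_subgroupOf]
  exact ⟨fun h => centralizer_le hY h, fun h => h3 ⟨l.2, h⟩⟩

/-- an element of `C(z)` acting trivially on `Y / C_Y(L)` and commuting with `L` modulo `C(Y)` centralises `Y` -/
theorem cent_of_triv (c : Cx S V z L) {Y : Subgroup G} (hY : Y ≤ ws V z)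
    (hn : centralizer ({z} : Set G) ≤ normalizer (Y : Set G)) (hcomm : Y ≤ ⁅Y, L⁆) {g : G}
    (hg : g ∈ centralizer ({z} : Set G))
    (h1 : ∀ y ∈ Y, ∀ l ∈ L, l * (y⁻¹ * (g * y * g⁻¹)) = (y⁻¹ * (g * y * g⁻¹)) * l)
    (h2 : ∀ l ∈ L, l⁻¹ * (g * l * g⁻¹) ∈ centralizer (Y : Set G)) : g ∈ centralizer (Y : Set G) := by
  have hcm : ∀ a ∈ Y, ∀ b ∈ Y, a * b = b * a := fun a ha b hb => c.ab a (hY ha) b (hY hb)
  have h3 : ⁅Y, L⁆ ≤ centralizer ({g} : Set G) := by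
    rw [commutator_le]
    intro y hy l hl
    rw [mem_centralizer_singleton_iff, commutatorElement_def]
    set d := y⁻¹ * (g * y * g⁻¹) with hd
    set k := l⁻¹ * (g * l * g⁻¹) with hk
    have hdY : d ∈ Y := mul_mem (inv_mem hy) ((mem_normalizer_iff.1 (hn hg) y).1 hy)
    have hdl : l * d = d * l := h1 y hy l hl
    have hlY : ∀ x ∈ Y, l * x * l⁻¹ ∈ Y := fun x hx => (mem_normalizer_iff.1 (hn (c.L_le hl)) x).1 hx
    have hk1 : ∀ x ∈ Y, k * x = x * k := fun x hx => (mem_centralizer_iff.1 (h2 l hl) x hx).symm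
    have e1 : g * y * g⁻¹ = y * d := by rw [hd]; group
    have e2 : g * l * g⁻¹ = l * k := by rw [hk]; group
    have e3 : g * (y * l * y⁻¹ * l⁻¹) * g⁻¹ = y * l * y⁻¹ * l⁻¹ := by
      calc g * (y * l * y⁻¹ * l⁻¹) * g⁻¹ = (g * y * g⁻¹) * (g * l * g⁻¹) * (g * y * g⁻¹)⁻¹ * (g * l * g⁻¹)⁻¹ := by
            group
        _ = (y * d) * l * (k * (y * d)⁻¹) * k⁻¹ * l⁻¹ := by rw [e1, e2]; group
        _ = (y * d) * l * ((y * d)⁻¹ * k) * k⁻¹ * l⁻¹ := by rw [hk1 _ (inv_mem (mul_mem hy hdY))]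
        _ = y * (d * (l * (y * d)⁻¹ * l⁻¹)) := by group
        _ = y * ((l * (y * d)⁻¹ * l⁻¹) * d) := by
            rw [hcm d hdY _ (hlY _ (inv_mem (mul_mem hy hdY)))]
        _ = y * (l * (d * y)⁻¹ * l⁻¹ * d) := by rw [hcm y hy d hdY]
        _ = y * l * y⁻¹ * (d⁻¹ * l⁻¹ * d) := by group
        _ = y * l * y⁻¹ * l⁻¹ := by
            have : d⁻¹ * l⁻¹ * d = l⁻¹ := by
              have h4 : d⁻¹ * l⁻¹ = l⁻¹ * d⁻¹ := by
                have := congrArg (fun t => t⁻¹) hdl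
                simpa using this
              rw [h4]; group
            rw [this]
    calc y * l * y⁻¹ * l⁻¹ * g = (g * (y * l * y⁻¹ * l⁻¹) * g⁻¹) * g := by rw [e3]
      _ = g * (y * l * y⁻¹ * l⁻¹) := by group
  rw [mem_centralizer_iff]
  intro y hy
  exact mem_centralizer_singleton_iff.1 (h3 (hcomm hy))

/-- **`Y = 2⁴`** -/
theorem exists_md (c : Cx S V z L) {Y₁ Lb : Subgroup G} (hYn : centralizer ({z} : Set G) ≤ normalizer (Y₁ : Set G))
    (hY₁ : Y₁ ≤ ws V z) (hb : EmpTI.BcW (centralizer ({z} : Set G)) (S : Subgroup G) Y₁ Lb)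
    (hLY₁ : ¬ L ≤ centralizer (Y₁ : Set G)) : ∃ Y, Md S V z L Y := by
  have h81 := c.index_eight hYn hY₁ hb hLY₁
  obtain ⟨Y, ⟨hY1, hn, hLY⟩, hmin⟩ := Set.exists_min_image
    {Y : Subgroup G | Y ≤ Y₁ ∧ centralizer ({z} : Set G) ≤ normalizer (Y : Set G) ∧ ¬ L ≤ centralizer (Y : Set G)}
    (fun Y => Nat.card Y) (Set.toFinite _) ⟨Y₁, le_rfl, hYn, hLY₁⟩
  have hYw : Y ≤ ws V z := hY1.trans hY₁
  have hcm : ∀ a ∈ Y, ∀ b ∈ Y, a * b = b * a := fun a ha b hb => c.ab a (hYw ha) b (hYw hb)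
  have hDle : ⁅Y, L⁆ ≤ Y := Lib.CoprimeCommutator.commutator_le_left (c.L_le.trans hn)
  have hcomm : Y ≤ ⁅Y, L⁆ := by
    have h1 : centralizer ({z} : Set G) ≤ normalizer ((⁅Y, L⁆ : Subgroup G) : Set G) := by
      intro g hg
      rw [mem_normalizer_iff_cj]
      change (⁅Y, L⁆ : Subgroup G).map (MulAut.conj g).toMonoidHom = _
      rw [Subgroup.map_commutator]
      have e1 : Y.map (MulAut.conj g).toMonoidHom = Y := cj_eq_of_mem_normalizer (hn hg)
      have e2 : L.map (MulAut.conj g).toMonoidHom = L := cj_eq_of_mem_normalizer (c.L_nor hg)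
      rw [e1, e2]
    have h2 : ¬ L ≤ centralizer ((⁅Y, L⁆ : Subgroup G) : Set G) := fun h0 =>
      hLY (le_centralizer_of_comm c.star.perf h0)
    have h3 := hmin _ ⟨hDle.trans hY1, h1, h2⟩
    exact (Subgroup.eq_of_le_of_card_ge hDle h3).ge
  have hq := c.q168_mono hY1 hn hLY (c.q168 hb hLY₁).1
  set Z : Subgroup G := Y ⊓ centralizer (L : Set G) with hZ
  have hZn : centralizer ({z} : Set G) ≤ normalizer (Z : Set G) := by
    intro g hg
    rw [mem_normalizer_iff_cj, hZ, cj_inf, cj_centralizer, cj_eq_of_mem_normalizer (hn hg),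
      cj_eq_of_mem_normalizer (c.L_nor hg)]
  -- the index
  have h8 : Z.relIndex Y = 8 := by
    have hle : Z.relIndex Y ≤ 8 := by
      rw [hZ, inf_relIndex_left, ← h81, inf_relIndex_left]
      refine relIndex_le_of_le_right hY1 ?_
      rw [← inf_relIndex_left Y₁, h81]
      norm_num
    obtain ⟨H, V₀, _, _, _, _, r, ρ, ι, hr⟩ := exists_rep' (X := centralizer ({z} : Set G)) (Y := Y) hn hcm
    have hM := c.mod hYw hr hq
    have h1 := hM.top_le
    have e : CS (ρ.comp (img r L).subtype) ⊤ = CS ρ (img r L) := by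
      ext v
      exact ⟨fun hv b hb => hv ⟨b, hb⟩ (mem_top _), fun hv b _ => hv b b.2⟩
    rw [e, index_CS hr c.L_le, ← hZ] at h1
    omega
  -- the action on `Y / Z`
  have hYX : Y ≤ centralizer ({z} : Set G) := hYw.trans (c.ws_le_S.trans c.S_le)
  obtain ⟨N, iN, ρ, p, hp, hpk, hact⟩ := Cfsg.Agent.OddCyclic.Eq.exists_qact hYX hn hZn (fun x hx y hy => by
    have : x * y * x⁻¹ * y⁻¹ = 1 := by rw [hcm x hx y hy]; group
    rw [this]; exact one_mem _)
  have hker : p.ker = Z.subgroupOf Y := by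
    ext w
    rw [MonoidHom.mem_ker, hpk, mem_subgroupOf]
  have hNc : Nat.card N = 8 := by
    have h1 : p.ker.index = Nat.card N := by
      rw [Subgroup.index_ker, MonoidHom.range_eq_top.2 hp, Subgroup.card_top]
    rw [← h1, hker]
    exact h8
  have hfN : Finite N := Nat.finite_of_card_ne_zero (by rw [hNc]; norm_num)
  have hρ : ∀ (g : centralizer ({z} : Set G)), ρ g = 1 ↔ ∀ y ∈ Y, y⁻¹ * ((g : G) * y * (g : G)⁻¹) ∈ Z := by
    intro g
    constructor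
    · intro h1 y hy
      have hy' : (g : G) * y * (g : G)⁻¹ ∈ Y := (mem_normalizer_iff.1 (hn g.2) y).1 hy
      have h2 := hact g ⟨y, hy⟩ ⟨_, hy'⟩ rfl
      rw [h1] at h2
      have h3 : p (⟨y, hy⟩⁻¹ * ⟨_, hy'⟩) = 1 := by
        rw [map_mul, map_inv, ← h2]
        exact inv_mul_cancel _
      rw [hpk] at h3
      exact h3
    · intro h1
      apply MulEquiv.ext
      intro n
      obtain ⟨⟨y, hy⟩, rfl⟩ := hp n
      have hy' : (g : G) * y * (g : G)⁻¹ ∈ Y := (mem_normalizer_iff.1 (hn g.2) y).1 hy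
      rw [hact g ⟨y, hy⟩ ⟨_, hy'⟩ rfl]
      have h3 : p (⟨y, hy⟩⁻¹ * ⟨_, hy'⟩) = 1 := (hpk _).2 (h1 y hy)
      rw [map_mul, map_inv, inv_mul_eq_one] at h3
      exact h3.symm
  -- the kernel of `L` on `Y / Z`
  let D : Subgroup G := L ⊓ (ρ.ker).map (centralizer ({z} : Set G) : Subgroup G).subtype
  have hDmem : ∀ g, g ∈ D ↔ g ∈ L ∧ ∃ hg : g ∈ centralizer ({z} : Set G), ρ ⟨g, hg⟩ = 1 := by
    intro g
    constructor
    · rintro ⟨h1, ⟨x, hx⟩, h2, rfl⟩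
      exact ⟨h1, hx, h2⟩
    · rintro ⟨h1, h2, h3⟩
      exact ⟨h1, ⟨g, h2⟩, h3, rfl⟩
  have hDn : centralizer ({z} : Set G) ≤ normalizer (D : Set G) := by
    have key : ∀ g ∈ centralizer ({z} : Set G), ∀ x ∈ D, g * x * g⁻¹ ∈ D := by
      intro g hg x hx
      obtain ⟨h1, h2, h3⟩ := (hDmem x).1 hx
      refine (hDmem _).2 ⟨(mem_normalizer_iff.1 (c.L_nor hg) x).1 h1, mul_mem (mul_mem hg h2) (inv_mem hg), ?_⟩
      have e : (⟨g * x * g⁻¹, mul_mem (mul_mem hg h2) (inv_mem hg)⟩ : centralizer ({z} : Set G)) =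
          ⟨g, hg⟩ * ⟨x, h2⟩ * ⟨g, hg⟩⁻¹ := rfl
      rw [e, map_mul, map_mul, map_inv, h3, mul_one, mul_inv_cancel]
    intro g hg
    rw [mem_normalizer_iff]
    intro x
    refine ⟨key g hg x, fun hx => ?_⟩
    have := key g⁻¹ (inv_mem hg) _ hx
    have e : g⁻¹ * (g * x * g⁻¹) * g⁻¹⁻¹ = x := by group
    rwa [e] at this
  have hDL : D ≠ L := by
    intro h0
    apply hLY
    have h1 : ⁅Y, L⁆ ≤ centralizer (L : Set G) := by
      rw [commutator_le]
      intro y hy l hl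
      rw [← h0] at hl
      obtain ⟨h1, h2, h3⟩ := (hDmem l).1 hl
      have h4 := (hρ ⟨l, h2⟩).1 h3 y⁻¹ (inv_mem hy)
      have e : ⁅y, l⁆ = (y⁻¹)⁻¹ * (l * y⁻¹ * l⁻¹) := by rw [commutatorElement_def]; group
      rw [e]
      exact h4.2
    rw [Subgroup.le_centralizer_iff]
    exact hcomm.trans h1
  have hDY : D ≤ centralizer (Y : Set G) :=
    hq.le_of_two inf_le_left (c.L_le.trans hDn) (c.isPGroup_of inf_le_left (c.L_le.trans hDn) hDL)
  -- `L` induces `Aut(Y / Z)`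
  let σ : L →* MulAut N := ρ.comp (inclusion c.L_le)
  have hσk : σ.ker = (centralizer (Y : Set G)).subgroupOf L := by
    ext l
    rw [MonoidHom.mem_ker, mem_subgroupOf]
    constructor
    · intro h1
      exact hDY ((hDmem _).2 ⟨l.2, c.L_le l.2, h1⟩)
    · intro h1
      refine (hρ ⟨l, c.L_le l.2⟩).2 fun y hy => ?_
      have h2 := mem_centralizer_iff.1 h1 y hy
      have e : y⁻¹ * ((l : G) * y * (l : G)⁻¹) = 1 := by rw [← h2]; group
      change y⁻¹ * ((l : G) * y * (l : G)⁻¹) ∈ Z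
      rw [e]; exact one_mem _
  have hNsq : ∀ n : N, n ^ 2 = 1 := by
    intro n
    obtain ⟨w, rfl⟩ := hp n
    rw [← map_pow]
    have : w ^ 2 = 1 := Subtype.ext (by
      change (w : G) ^ 2 = 1
      rw [pow_two]; exact c.ws_sq (hYw w.2))
    rw [this, map_one]
  have hAut : Nat.card (MulAut N) = 168 := by
    have hf2 : Fact (Nat.Prime 2) := ⟨Nat.prime_two⟩
    rw [Cfsg.Agent.Transfer.ElemAbAut.card_mulAut 2 3 (fun x y => mul_comm x y) hNsq (by rw [hNc]; norm_num)]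
    decide
  have hσ : Function.Surjective σ := by
    obtain ⟨Q, iQ, f, hf, hfk, hs, hc⟩ := hq
    have h1 : Nat.card σ.range = 168 := by
      rw [← Subgroup.index_ker, hσk, ← hfk, Subgroup.index_ker, MonoidHom.range_eq_top.2 hf, Subgroup.card_top, hc]
    rw [← MonoidHom.range_eq_top]
    apply Subgroup.eq_top_of_card_eq
    rw [h1, hAut]
  have hcov : ∀ g ∈ centralizer ({z} : Set G), ∃ l ∈ L, l⁻¹ * g ∈ centralizer (Y : Set G) := by
    intro g hg
    obtain ⟨l, hl⟩ := hσ (ρ ⟨g, hg⟩)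
    refine ⟨l, l.2, ?_⟩
    have hlg : (l : G)⁻¹ * g ∈ centralizer ({z} : Set G) := mul_mem (inv_mem (c.L_le l.2)) hg
    have h1 : ρ ⟨(l : G)⁻¹ * g, hlg⟩ = 1 := by
      have e : (⟨(l : G)⁻¹ * g, hlg⟩ : centralizer ({z} : Set G)) = (inclusion c.L_le l)⁻¹ * ⟨g, hg⟩ := rfl
      rw [e, map_mul, map_inv, ← hl]
      exact inv_mul_cancel _
    have h2 := (hρ _).1 h1
    refine c.cent_of_triv hYw hn hcomm hlg (fun y hy m hm => ?_) fun m hm => ?_
    · exact mem_centralizer_iff.1 (h2 y hy).2 m hm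
    · apply hDY
      have hk : m⁻¹ * ((l : G)⁻¹ * g * m * ((l : G)⁻¹ * g)⁻¹) ∈ L :=
        mul_mem (inv_mem hm) ((mem_normalizer_iff.1 (c.L_nor hlg) m).1 hm)
      refine (hDmem _).2 ⟨hk, c.L_le hk, ?_⟩
      have e : (⟨m⁻¹ * ((l : G)⁻¹ * g * m * ((l : G)⁻¹ * g)⁻¹), c.L_le hk⟩ : centralizer ({z} : Set G)) =
          (⟨m, c.L_le hm⟩)⁻¹ * (⟨(l : G)⁻¹ * g, hlg⟩ * ⟨m, c.L_le hm⟩ * (⟨(l : G)⁻¹ * g, hlg⟩)⁻¹) := rfl
      rw [e, map_mul, map_mul, map_mul, map_inv, map_inv, h1]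
      group
  -- `C_Y(L) = ⟨z⟩`
  have hYS : Y ≤ (S : Subgroup G) := hYw.trans c.ws_le_S
  have hfixL : ∀ y ∈ Y, (∀ l ∈ L, l * y = y * l) → y = 1 ∨ y = z := by
    intro y hy hyl
    refine c.geo.soc y (hYS hy) (c.ws_sq (hYw hy)) fun s hs => ?_
    obtain ⟨l, hl, hls⟩ := hcov s (c.S_le hs)
    have h1 := mem_centralizer_iff.1 hls y hy
    have e : s = l * (l⁻¹ * s) := by group
    calc s * y = l * (l⁻¹ * s * y) := by rw [e]; group
      _ = l * (y * (l⁻¹ * s)) := by rw [← h1]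
      _ = (l * y) * (l⁻¹ * s) := by group
      _ = y * s := by rw [hyl l hl]; group
  have hzY : z ∈ Y := by
    refine c.z_mem_of hYS (c.S_le.trans hn) fun h0 => hLY ?_
    rw [h0]
    intro l _
    rw [mem_centralizer_iff]
    intro y hy
    rw [SetLike.mem_coe, mem_bot] at hy
    rw [hy]; group
  have hZz : Z = zpowers z := by
    ext y
    rw [mem_zpowers_iff_of_mul_self c.zz]
    constructor
    · rintro ⟨hy, hyL⟩
      exact hfixL y hy fun l hl => mem_centralizer_iff.1 hyL l hl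
    · rintro (rfl | rfl)
      · exact one_mem _
      · exact ⟨hzY, mem_centralizer_iff.2 fun l hl => mem_centralizer_singleton_iff.1 (c.L_le hl)⟩
  have hZc : Nat.card Z = 2 := by
    rw [hZz, Nat.card_zpowers]
    exact orderOf_eq_prime (by rw [pow_two]; exact c.zz) c.z_ne
  have hcard : Nat.card Y = 16 := by
    have h1 : Nat.card Z * Z.relIndex Y = Nat.card Y := card_mul_relIndex inf_le_left
    rw [hZc, h8] at h1
    omega
  exact ⟨Y, c, hYw, hn, hLY, hcomm, hcard, hzY, hfixL, hcov, hq, hb.three'⟩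

end Cx

end Cfsg.Agent.OddCyclic.EmpLine
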