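import Cfsg.Agent.OddCyclic.EN.Pi

/-!
# A general form of the critical pair lemma

`V ≤ W`, `P ≤ N(W)`, `W` elementary abelian, no 2-group `≠ 1` is normalised by `N(V)` and `P`: there is a `g` such that
`W` and `W^g` do not commute, `W^g ≤ C(V)`, `W ≤ C(V^g)`.  (Copy of `EN/Pi.lean` for `W` in the place of `⟨V^P⟩`.)
-/

set_option autoImplicit false
set_option linter.unusedSectionVars false

namespace Cfsg.Agent.OddCyclic.EmpLine

open Subgroup Cfsg Cfsg.Agent.ZN Cfsg.Agent.MinSimple.Geo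
open Cfsg.Agent.OddCyclic.EN.Pi (Ball ball_of_norm ball_of_mem Com)
open Cfsg.Agent.ZN.Block (le_normalizer_of_forall)

universe u

variable {G : Type u} [Group G]

/-- the hypotheses of the critical pair lemma -/
structure Cr (V P W : Subgroup G) : Prop where
  V_le : V ≤ W
  V_ne : V ≠ ⊥
  P_le : P ≤ normalizer (W : Set G)
  ab : Com W W
  sq : ∀ w ∈ W, w * w = 1
  core : ∀ U : Subgroup G, IsPGroup 2 U → normalizer (V : Set G) ≤ normalizer (U : Set G) →
    P ≤ normalizer (U : Set G) → U = ⊥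

namespace Cr

variable {V P W : Subgroup G}

theorem sq_cj (h : Cr V P W) {g w : G} (hw : w ∈ cj g W) : w * w = 1 := by
  obtain ⟨w, hw, rfl⟩ := hw
  rw [← map_mul, h.sq w hw, map_one]

/-- some vertex group at a finite distance does not commute with `W` -/
theorem exists_nc (h : Cr V P W) : ∃ n g, Ball V P n g ∧ ¬ Com W (cj g W) := by
  by_contra hcon
  push Not at hcon
  let U : Subgroup G := sSup {L | ∃ n g, Ball V P n g ∧ L = cj g W}
  have hle : ∀ {n g}, Ball V P n g → cj g W ≤ U := fun {n g} hg => le_sSup ⟨n, g, hg, rfl⟩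
  have hUle : ∀ {K : Subgroup G}, (∀ n g, Ball V P n g → cj g W ≤ K) → U ≤ K := fun {K} hK =>
    sSup_le (by rintro _ ⟨n, g, hg, rfl⟩; exact hK n g hg)
  have hcomm0 : ∀ {n g m k}, Ball V P n g → Ball V P m k → Com (cj g W) (cj k W) := by
    intro n g m k hg hk
    have h1 := (hcon _ _ (hg.inv.mul hk)).cj g
    rwa [cj_cj, mul_inv_cancel_left] at h1
  have hcomm1 : ∀ {n g}, Ball V P n g → U ≤ centralizer ((cj g W : Subgroup G) : Set G) := by
    intro n g hg
    exact hUle fun m k hk => (hcomm0 hk hg).le_centralizer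
  have hcomm : U ≤ centralizer (U : Set G) := by
    rw [Subgroup.le_centralizer_iff]
    exact hUle fun n g hg => by
      rw [Subgroup.le_centralizer_iff]
      exact hcomm1 hg
  have hUU : ∀ a ∈ U, ∀ b ∈ U, a * b = b * a := fun a ha b hb =>
    (mem_centralizer_iff.mp (hcomm hb)) a ha
  let A : Subgroup G :=
    { carrier := {w | w ∈ U ∧ w * w = 1}
      mul_mem' := by
        rintro a b ⟨ha, ha1⟩ ⟨hb, hb1⟩
        refine ⟨mul_mem ha hb, ?_⟩
        calc a * b * (a * b) = a * (b * a) * b := by group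
          _ = (a * a) * (b * b) := by rw [hUU b hb a ha]; group
          _ = 1 := by rw [ha1, hb1, one_mul]
      one_mem' := ⟨one_mem _, one_mul 1⟩
      inv_mem' := by
        rintro a ⟨ha, ha1⟩
        refine ⟨inv_mem ha, ?_⟩
        have : a⁻¹ * a⁻¹ = (a * a)⁻¹ := by group
        rw [this, ha1, inv_one] }
  have hUA : U ≤ A := hUle fun n g hg => fun a ha => ⟨hle hg ha, h.sq_cj ha⟩
  have h2 : IsPGroup 2 U := by
    rintro ⟨a, ha⟩
    refine ⟨1, ?_⟩
    ext
    change a ^ 2 ^ 1 = 1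
    rw [pow_one, pow_two]
    exact (hUA ha).2
  have hnorm : ∀ {m g}, Ball V P m g → ∀ u ∈ U, g * u * g⁻¹ ∈ U := by
    intro m g hg u hu
    have : U ≤ cj g⁻¹ U := hUle fun n k hk => by
      rw [← cj_le_iff, cj_cj]
      exact hle (hg.mul hk)
    have h3 := this hu
    rw [mem_cj, inv_inv] at h3
    exact h3
  have hbot := h.core U h2 (le_normalizer_of_forall fun g hg u hu => hnorm (ball_of_norm (P := P) hg) u hu)
    (le_normalizer_of_forall fun g hg u hu => hnorm (ball_of_mem (V := V) hg) u hu)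
  have h1 := hle (ball_of_mem (V := V) (one_mem P))
  rw [cj_one, hbot] at h1
  exact h.V_ne (le_bot_iff.1 (h.V_le.trans h1))

theorem exists_pair (h : Cr V P W) : ∃ g, ¬ Com W (cj g W) ∧ cj g W ≤ centralizer (V : Set G) ∧ cj g⁻¹ W ≤ centralizer (V : Set G) := by
  classical
  have hex : ∃ n, ∃ g, Ball V P n g ∧ ¬ Com W (cj g W) := h.exists_nc
  have hP : ∀ {c}, c ∈ P → cj c W = W := fun {c} hc =>
    mem_normalizer_iff_cj.mp (h.P_le hc)
  have hN : ∀ {x}, x ∈ normalizer (V : Set G) → cj x V = V := fun {x} hx => mem_normalizer_iff_cj.mp hx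
  obtain ⟨m, hm⟩ : ∃ m, Nat.find hex = m + 1 := by
    refine Nat.exists_eq_succ_of_ne_zero fun e => ?_
    obtain ⟨g, hg, hnc⟩ := Nat.find_spec hex
    rw [e] at hg
    exact hnc (by rw [hP hg]; exact h.ab)
  have hlt : ∀ k, Ball V P m k → Com W (cj k W) := by
    intro k hk
    by_contra hcon
    exact Nat.find_min hex (m := m) (by omega) ⟨k, hk, hcon⟩
  obtain ⟨g, hg, hnc⟩ := Nat.find_spec hex
  rw [hm] at hg
  obtain ⟨c, hc, x, hx, k, hk, rfl⟩ := hg.head
  have hg1 : Ball V P (m + 1) (x * k) := by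
    have := (ball_of_norm (P := P) hx).mul hk
    rwa [Nat.add_comm] at this
  have hnc1 : ¬ Com W (cj (x * k) W) := fun h1 => hnc (by
    have := h1.cj c
    rwa [hP hc, cj_cj, ← mul_assoc] at this)
  have hle1 : cj (x * k) W ≤ centralizer (V : Set G) := by
    have h1 := (hlt k hk).symm.cj x
    rw [cj_cj] at h1
    refine h1.le_centralizer.trans (centralizer_le ?_)
    have h2 : cj x V ≤ cj x W := cj_mono h.V_le
    rw [hN hx] at h2
    exact h2
  obtain ⟨k', x', c', hk', hx', hc', e⟩ := hg1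
  have hcj : cj (k' * x') W = cj (x * k) W := by
    rw [e, ← cj_cj (k' * x') c', hP hc']
  refine ⟨k' * x', ?_, ?_, ?_⟩
  · rw [hcj]; exact hnc1
  · rw [hcj]; exact hle1
  · have h1 := (hlt k'⁻¹ hk'.inv).symm.cj x'⁻¹
    rw [cj_cj] at h1
    have e2 : (k' * x')⁻¹ = x'⁻¹ * k'⁻¹ := by group
    rw [e2]
    refine h1.le_centralizer.trans (centralizer_le ?_)
    have h2 : cj x'⁻¹ V ≤ cj x'⁻¹ W := cj_mono h.V_le
    rw [hN (inv_mem hx')] at h2
    exact h2


end Cr

end Cfsg.Agent.OddCyclic.EmpLine
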