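import Cfsg.Agent.OddCyclic.EmpLine.Pre
import Cfsg.Agent.OddCyclic.RedAct
import Cfsg.Agent.MinSimple.VModule

/-!
# The exits: a conjugate `v` of `z` with `[v, S] = ⟨z⟩` lies in `V`

(adapted from helper96's `EN/FThree.lean`)
-/

set_option autoImplicit false
set_option linter.unusedSectionVars false

namespace Cfsg.Agent.OddCyclic.EmpLine

open Subgroup Cfsg Cfsg.Agent.ZN Cfsg.Agent.ZN.ChoiceBase
open Cfsg.Agent.MinSimple.Geo (inv_eq_self cj_centralizer_singleton)
open scoped commutatorElement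

universe u

variable {G : Type u} [Group G]

namespace Zv

structure At (T : Subgroup G) (z a : G) : Prop where
  mem : a ∈ T
  sq : a * a = 1
  ne1 : a ≠ 1
  nez : a ≠ z
  mv : ∀ t ∈ T, t * a * t⁻¹ = a ∨ t * a * t⁻¹ = z * a

/-- `C_T(a)` -/
def ta (T : Subgroup G) (a : G) : Subgroup G := T ⊓ centralizer ({a} : Set G)

theorem ta_le (T : Subgroup G) (a : G) : ta T a ≤ T := inf_le_left

variable {T V : Subgroup G} {z a : G}

theorem mem_ta {x : G} : x ∈ ta T a ↔ x ∈ T ∧ x * a = a * x := by
  rw [ta, mem_inf, mem_centralizer_singleton_iff]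

section fin

variable [Finite G]

theorem At.az (A : At T z a) (h : Pre T V z) : a * z = z * a :=
  mem_centralizer_singleton_iff.1 (h.T_le A.mem)

theorem At.z_mem (A : At T z a) (h : Pre T V z) : z ∈ ta T a :=
  mem_ta.2 ⟨h.V_le h.z_mem, (A.az h).symm⟩

theorem At.a_mem (A : At T z a) : a ∈ ta T a := mem_ta.2 ⟨A.mem, rfl⟩

theorem At.exists_s (A : At T z a) (h : Pre T V z) : ∃ s ∈ T, s * a * s⁻¹ = z * a := by
  by_contra hcon
  push Not at hcon
  rcases h.soc a A.mem A.sq (fun s hs => by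
    rcases A.mv s hs with h1 | h1
    · rw [mul_inv_eq_iff_eq_mul] at h1; exact h1
    · exact absurd h1 (hcon s hs)) with h1 | h1
  · exact A.ne1 h1
  · exact A.nez h1

theorem At.norm (A : At T z a) (h : Pre T V z) : T ≤ normalizer (ta T a : Set G) := by
  refine Cfsg.Agent.ZN.Block.le_normalizer_of_forall fun t ht x hx => ?_
  rw [mem_ta] at hx ⊢
  refine ⟨mul_mem (mul_mem ht hx.1) (inv_mem ht), ?_⟩
  have h1 := A.mv t⁻¹ (inv_mem ht)
  rw [inv_inv] at h1
  have h2 : x * z = z * x := mem_centralizer_singleton_iff.1 (h.T_le hx.1)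
  have h3 : x * (t⁻¹ * a * t) = (t⁻¹ * a * t) * x := by
    rcases h1 with h1 | h1
    · rw [h1]; exact hx.2
    · rw [h1]
      calc x * (z * a) = (x * z) * a := by group
        _ = z * (x * a) := by rw [h2]; group
        _ = z * a * x := by rw [hx.2]; group
  calc t * x * t⁻¹ * a = t * (x * (t⁻¹ * a * t)) * t⁻¹ := by group
    _ = a * (t * x * t⁻¹) := by rw [h3]; group

theorem At.mem_or (A : At T z a) (h : Pre T V z) {s t : G} (hs : s ∈ T) (hsa : s * a * s⁻¹ = z * a) (ht : t ∈ T) :
    t ∈ ta T a ∨ t * s ∈ ta T a := by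
  rcases A.mv t ht with h1 | h1
  · left; rw [mem_ta]; exact ⟨ht, by rw [mul_inv_eq_iff_eq_mul] at h1; exact h1⟩
  · right
    rw [mem_ta]
    refine ⟨mul_mem ht hs, ?_⟩
    have h2 : t * z = z * t := mem_centralizer_singleton_iff.1 (h.T_le ht)
    have hz := h.zz
    have h3 : (t * s) * a * (t * s)⁻¹ = a := by
      calc (t * s) * a * (t * s)⁻¹ = t * (s * a * s⁻¹) * t⁻¹ := by group
        _ = (t * z) * a * t⁻¹ := by rw [hsa]; group
        _ = z * (t * a * t⁻¹) := by rw [h2]; group
        _ = a := by rw [h1, ← mul_assoc, hz, one_mul]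
    rw [mul_inv_eq_iff_eq_mul] at h3; exact h3

theorem At.card (A : At T z a) (h : Pre T V z) : Nat.card T = 2 * Nat.card (ta T a) := by
  obtain ⟨s, hs, hsa⟩ := A.exists_s h
  have h1 : ((ta T a).subgroupOf T).index = 2 := by
    rw [Subgroup.index_eq_two_iff]
    refine ⟨⟨s, hs⟩, fun t => ?_⟩
    rw [Subgroup.mem_subgroupOf, Subgroup.mem_subgroupOf]
    change Xor ((t : G) * s ∈ ta T a) ((t : G) ∈ ta T a)
    have h2 : ¬ ((t : G) * s ∈ ta T a ∧ (t : G) ∈ ta T a) := by
      rintro ⟨h3, h4⟩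
      have h5 : s ∈ ta T a := by
        have := mul_mem (inv_mem h4) h3
        rwa [inv_mul_cancel_left] at this
      rw [mem_ta] at h5
      have h6 : s * a * s⁻¹ = a := by rw [h5.2]; group
      rw [h6] at hsa
      have h7 : z = 1 := by
        have := congrArg (· * a⁻¹) hsa
        simpa using this.symm
      exact h.z_ne h7
    rcases A.mem_or h hs hsa t.2 with h3 | h3
    · right; exact ⟨h3, fun h4 => h2 ⟨h4, h3⟩⟩
    · left; exact ⟨h3, fun h4 => h2 ⟨h3, h4⟩⟩
  have h2 := ((ta T a).subgroupOf T).card_mul_index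
  rw [h1, Nat.card_congr (Subgroup.subgroupOfEquivOfLe (ta_le T a)).toEquiv] at h2
  rw [← h2, mul_comm]

/-- `Ω₁Z(C_T(a)) = {1, z, a, za}` -/
theorem At.zc_cases (A : At T z a) (h : Pre T V z) {e : G} (he : e ∈ zc (ta T a)) :
    e = 1 ∨ e = z ∨ e = a ∨ e = z * a := by
  obtain ⟨s, hs, hsa⟩ := A.exists_s h
  have hz := h.zz
  have hzc : ∀ t ∈ T, t * z = z * t := fun t ht => mem_centralizer_singleton_iff.1 (h.T_le ht)
  have hsN : s ∈ normalizer (zc (ta T a) : Set G) := MinSimple.VModule.normalizer_le_normalizer_zc _ (A.norm h hs)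
  -- an element of `Ω₁Z` commuting with `s`
  have key : ∀ f ∈ zc (ta T a), s * f * s⁻¹ = f → f = 1 ∨ f = z := by
    intro f hf hsf
    obtain ⟨h1, h2, h3⟩ := ChoiceBase.mem_zc.1 hf
    refine h.soc f (mem_ta.1 h1).1 (by rw [← pow_two]; exact h2) fun t ht => ?_
    rw [mul_inv_eq_iff_eq_mul] at hsf
    rcases A.mem_or h hs hsa ht with h4 | h4
    · exact h3 t h4
    · have h5 := h3 _ h4
      calc t * f = (t * (s * f)) * s⁻¹ * (s * f⁻¹ * s⁻¹) * f := by group
        _ = (t * (f * s)) * s⁻¹ * (s * f⁻¹ * s⁻¹) * f := by rw [← hsf]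
        _ = f * t := by
          have e1 : t * s * f = f * (t * s) := h5
          have e2 : t * (f * s) = f * (t * s) := by rw [← hsf, ← mul_assoc, e1]
          rw [e2]
          have e3 : s * f⁻¹ * s⁻¹ = f⁻¹ := by
            have : s * f⁻¹ * s⁻¹ = (s * f * s⁻¹)⁻¹ := by group
            rw [this, hsf]; group
          rw [e3]; group
  obtain ⟨h1, h2, h3⟩ := ChoiceBase.mem_zc.1 he
  rw [pow_two] at h2
  have hse : s * e * s⁻¹ ∈ zc (ta T a) := (mem_normalizer_iff.1 hsN e).1 he
  have hss : s * s ∈ ta T a := by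
    rcases A.mem_or h hs hsa hs with h4 | h4
    · exact mul_mem h4 h4
    · exact h4
  have hcomm : e * (s * e * s⁻¹) = (s * e * s⁻¹) * e := by
    have h4 := ChoiceBase.mem_zc.1 hse
    exact h4.2.2 e h1
  have h5 : s * (e * (s * e * s⁻¹)) * s⁻¹ = e * (s * e * s⁻¹) := by
    have h6 : s * s * e = e * (s * s) := h3 _ hss
    calc s * (e * (s * e * s⁻¹)) * s⁻¹ = (s * e * s⁻¹) * ((s * s * e) * s⁻¹ * s⁻¹) := by group
      _ = (s * e * s⁻¹) * e := by rw [h6]; group
      _ = e * (s * e * s⁻¹) := hcomm.symm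
  rcases key _ (mul_mem he hse) h5 with h6 | h6
  · -- `s` commutes with `e`
    have h7 : s * e * s⁻¹ = e := by
      have h8 : s * e * s⁻¹ = e⁻¹ := eq_inv_of_mul_eq_one_right h6
      rw [h8]; exact inv_eq_self h2
    rcases key e he h7 with h8 | h8
    · exact Or.inl h8
    · exact Or.inr (Or.inl h8)
  · have h7 : s * e * s⁻¹ = e * z := by
      calc s * e * s⁻¹ = e * e * (s * e * s⁻¹) := by rw [h2, one_mul]
        _ = e * (e * (s * e * s⁻¹)) := by group
        _ = e * z := by rw [h6]
    have ha : a ∈ zc (ta T a) := by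
      rw [ChoiceBase.mem_zc]
      exact ⟨A.a_mem, by rw [pow_two]; exact A.sq, fun y hy => (mem_ta.1 hy).2⟩
    have h8 : s * (e * a) * s⁻¹ = e * a := by
      calc s * (e * a) * s⁻¹ = (s * e * s⁻¹) * (s * a * s⁻¹) := by group
        _ = e * (z * z) * a := by rw [h7, hsa]; group
        _ = e * a := by rw [hz, mul_one]
    rcases key _ (mul_mem he ha) h8 with h9 | h9
    · right; right; left
      have := eq_inv_of_mul_eq_one_left h9
      rw [this]; exact inv_eq_self A.sq
    · right; right; right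
      calc e = e * a * a := by rw [mul_assoc, A.sq, mul_one]
        _ = z * a := by rw [h9]

theorem At.mem_zc (A : At T z a) (h : Pre T V z) {e : G} :
    e ∈ zc (ta T a) ↔ e = 1 ∨ e = z ∨ e = a ∨ e = z * a := by
  refine ⟨A.zc_cases h, ?_⟩
  have ha : a ∈ zc (ta T a) := by
    rw [ChoiceBase.mem_zc]
    exact ⟨A.a_mem, by rw [pow_two]; exact A.sq, fun y hy => (mem_ta.1 hy).2⟩
  have hz : z ∈ zc (ta T a) := by
    rw [ChoiceBase.mem_zc]
    exact ⟨A.z_mem h, by rw [pow_two]; exact h.zz, fun y hy =>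
      mem_centralizer_singleton_iff.1 (h.T_le (mem_ta.1 hy).1)⟩
  rintro (rfl | rfl | rfl | rfl)
  · exact one_mem _
  · exact hz
  · exact ha
  · exact mul_mem hz ha

theorem At.mem_V (A : At T z a) (h : Pre T V z) (hdvd : 2 ∣ (ta T a).relIndex (centralizer ({a} : Set G))) :
    a ∈ V := by
  have hf : Fact (Nat.Prime 2) := ⟨Nat.prime_two⟩
  have hX : ta T a ≤ centralizer ({a} : Set G) := inf_le_right
  obtain ⟨n, hn⟩ := IsPGroup.iff_card.mp (h.two.to_le (ta_le T a))
  -- a 2-subgroup `K > C_T(a)` of `C(a)`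
  obtain ⟨K', hK', hle⟩ : ∃ K : Subgroup (centralizer ({a} : Set G)), Nat.card K = 2 ^ (n + 1) ∧
      (ta T a).subgroupOf (centralizer ({a} : Set G)) ≤ K := by
    apply Sylow.exists_subgroup_card_pow_succ
    · have h1 := ((ta T a).subgroupOf (centralizer ({a} : Set G))).card_mul_index
      rw [Nat.card_congr (Subgroup.subgroupOfEquivOfLe hX).toEquiv, hn] at h1
      rw [← h1, pow_succ]
      exact Nat.mul_dvd_mul_left _ hdvd
    · rw [Nat.card_congr (Subgroup.subgroupOfEquivOfLe hX).toEquiv, hn]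
  set K : Subgroup G := K'.map (centralizer ({a} : Set G)).subtype with hKdef
  have hKX : K ≤ centralizer ({a} : Set G) := Subgroup.map_subtype_le _
  have hKc : Nat.card K = 2 ^ (n + 1) := by
    rw [hKdef, Subgroup.card_map_of_injective (Subgroup.subtype_injective _), hK']
  have hK2 : IsPGroup 2 K := IsPGroup.of_card hKc
  have hTK : ta T a ≤ K := by
    intro x hx
    exact ⟨⟨x, hX hx⟩, hle (mem_subgroupOf.2 hx), rfl⟩
  have hTc : Nat.card T = 2 ^ (n + 1) := by rw [A.card h, hn, pow_succ]; ring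
  -- `K` normalises `C_T(a)`
  have hidx : ((ta T a).subgroupOf K).index = 2 := by
    have h1 := ((ta T a).subgroupOf K).card_mul_index
    rw [Nat.card_congr (Subgroup.subgroupOfEquivOfLe hTK).toEquiv, hn, hKc, pow_succ] at h1
    exact Nat.eq_of_mul_eq_mul_left (by positivity) h1
  have hnorm : K ≤ normalizer (ta T a : Set G) :=
    (Subgroup.normal_subgroupOf_iff_le_normalizer hTK).1 (Subgroup.normal_of_index_eq_two hidx)
  have hnz : K ≤ normalizer (zc (ta T a) : Set G) := hnorm.trans (MinSimple.VModule.normalizer_le_normalizer_zc _)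
  have hza : ∀ k ∈ K, k * z * k⁻¹ = z ∨ k * z * k⁻¹ = z * a := by
    intro k hk
    have hka : k * a = a * k := mem_centralizer_singleton_iff.1 (hKX hk)
    have h1 := (mem_normalizer_iff.1 (hnz hk) z).1 ((A.mem_zc h).2 (Or.inr (Or.inl rfl)))
    rcases A.zc_cases h h1 with h2 | h2 | h2 | h2
    · exfalso
      apply h.z_ne
      have : z = k⁻¹ * (k * z * k⁻¹) * k := by group
      rw [this, h2]; group
    · exact Or.inl h2
    · exfalso
      apply A.nez
      have h3 : z = k⁻¹ * (k * z * k⁻¹) * k := by group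
      rw [h3, h2, mul_assoc, ← hka]; group
    · exact Or.inr h2
  by_cases hall : ∀ k ∈ K, k * z = z * k
  · exfalso
    -- a Sylow 2-subgroup of `C(z)` centralises `a`
    have hKz : K ≤ centralizer ({z} : Set G) := fun k hk => mem_centralizer_singleton_iff.2 (hall k hk)
    obtain ⟨c, hc, hcK⟩ := RedAct.exists_cj_le h.two h.T_syl hKz hK2
    have h1 : cj c K = T := Subgroup.eq_of_le_of_card_ge hcK (by rw [card_cj, hKc, hTc])
    have h2 : c * a * c⁻¹ ∈ T := by
      rw [← h1, mem_cj]
      have e : c⁻¹ * (c * a * c⁻¹) * c = a := by group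
      rw [e]; exact hTK A.a_mem
    rcases h.soc _ h2 (by
      calc c * a * c⁻¹ * (c * a * c⁻¹) = c * (a * a) * c⁻¹ := by group
        _ = 1 := by rw [A.sq]; group) (fun t ht => by
      rw [← h1, mem_cj] at ht
      have h3 : c⁻¹ * t * c * a = a * (c⁻¹ * t * c) := mem_centralizer_singleton_iff.1 (hKX ht)
      calc t * (c * a * c⁻¹) = c * (c⁻¹ * t * c * a) * c⁻¹ := by group
        _ = c * a * c⁻¹ * t := by rw [h3]; group) with h3 | h3
    · apply A.ne1
      have : a = c⁻¹ * (c * a * c⁻¹) * c := by group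
      rw [this, h3]; group
    · apply A.nez
      have hcz : c * z = z * c := mem_centralizer_singleton_iff.1 hc
      have : a = c⁻¹ * (c * a * c⁻¹) * c := by group
      rw [this, h3, mul_assoc, ← hcz]; group
  · push Not at hall
    obtain ⟨k, hk, hkz⟩ := hall
    -- the four-group `⟨z, a⟩`
    have hzane : z * a ≠ 1 := fun e => A.nez (by
      have := eq_inv_of_mul_eq_one_right e
      rw [this]; exact inv_eq_self h.zz)
    have hzaz : z * a ≠ z := fun e => A.ne1 (by simpa using e)
    have hzaa : z * a ≠ a := fun e => h.z_ne (by simpa using e)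
    have h4 : Nat.card (zc (ta T a)) = 4 := by
      have h1 : ((zc (ta T a) : Subgroup G) : Set G) = {1, z, a, z * a} := by
        ext e
        rw [SetLike.mem_coe, A.mem_zc h]
        simp
      have h2 : Nat.card (zc (ta T a)) = ((zc (ta T a) : Subgroup G) : Set G).ncard := rfl
      rw [h2, h1, Set.ncard_insert_of_notMem, Set.ncard_insert_of_notMem, Set.ncard_pair (Ne.symm hzaa)]
      · rintro (e | e)
        · exact A.nez e.symm
        · exact hzaz e.symm
      · rintro (e | e | e)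
        · exact h.z_ne e.symm
        · exact A.ne1 e.symm
        · exact hzane e.symm
    have h5 : zc (ta T a) = V := by
      refine h.four _ h4 ?_ ?_ ?_ ⟨k, hnz hk, hkz⟩
      · intro w hw
        rw [← pow_two]; exact (ChoiceBase.mem_zc.1 hw).2.1
      · exact (A.norm h).trans (MinSimple.VModule.normalizer_le_normalizer_zc _)
      · intro h6
        obtain ⟨s, hs, hsa⟩ := A.exists_s h
        have h7 := mem_centralizer_iff.1 (h6 hs) a ((A.mem_zc h).2 (Or.inr (Or.inr (Or.inl rfl))))
        apply hzaa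
        rw [← hsa, ← h7]; group
    rw [← h5, A.mem_zc h]
    exact Or.inr (Or.inr (Or.inl rfl))

end fin

end Zv

/-- a conjugate `v ≠ z` of `z` commuting with `z`, with `[v, S] ≤ ⟨z⟩`, lies in `V` -/
theorem Pre.mem_V [Finite G] {S V : Subgroup G} {z v : G} (h : Pre S V z) (hv : ∃ g, v = g * z * g⁻¹) (hvz : v ≠ z)
    (hc : v * z = z * v) (hS : ∀ t ∈ S, t * v * t⁻¹ = v ∨ t * v * t⁻¹ = z * v) : v ∈ V := by
  have hvv : v * v = 1 := by
    obtain ⟨g, rfl⟩ := hv
    calc g * z * g⁻¹ * (g * z * g⁻¹) = g * (z * z) * g⁻¹ := by group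
      _ = 1 := by rw [h.zz]; group
  have hv1 : v ≠ 1 := by
    rintro rfl
    obtain ⟨g, hg⟩ := hv
    apply h.z_ne
    have : z = g⁻¹ * (g * z * g⁻¹) * g := by group
    rw [this, ← hg]; group
  -- `v ∈ S`
  have hvS : v ∈ S := by
    let W : Subgroup G := zpowers v ⊔ zpowers z
    have hn : S ≤ normalizer (W : Set G) := by
      refine Block.le_normalizer_of_forall fun t ht x hx => ?_
      have hz : z ∈ W := mem_sup_right (mem_zpowers z)
      have hvW : v ∈ W := mem_sup_left (mem_zpowers v)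
      have h1 : W ≤ cj t⁻¹ W := by
        refine sup_le ?_ ?_
        · rw [zpowers_le, mem_cj, inv_inv]
          rcases hS t ht with h2 | h2
          · rw [h2]; exact hvW
          · rw [h2]; exact mul_mem hz hvW
        · rw [zpowers_le, mem_cj, inv_inv]
          have h2 : t * z = z * t := mem_centralizer_singleton_iff.1 (h.T_le ht)
          rw [h2, mul_inv_cancel_right]; exact hz
      have h2 := h1 hx
      rwa [mem_cj, inv_inv] at h2
    have hW2 : IsPGroup 2 W := by
      have h1 : zpowers v ≤ normalizer ((zpowers z : Subgroup G) : Set G) := by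
        refine le_trans ?_ (centralizer_le_normalizer _)
        rw [zpowers_le, mem_centralizer_iff]
        intro y hy
        rcases (MinSimple.Geo.mem_zpowers_iff_of_mul_self h.zz).1 hy with rfl | rfl
        · group
        · exact hc.symm
      exact IsPGroup.to_sup_of_normal_right' (MinSimple.Geo.isPGroup_zpowers hvv)
        (MinSimple.Geo.isPGroup_zpowers h.zz) h1
    have h3 : IsPGroup 2 (S ⊔ W : Subgroup G) := IsPGroup.to_sup_of_normal_right' h.two hW2 hn
    have h4 : S ⊔ W ≤ centralizer ({z} : Set G) := by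
      refine sup_le h.T_le (sup_le ?_ ?_)
      · rw [zpowers_le, mem_centralizer_singleton_iff]; exact hc
      · rw [zpowers_le, mem_centralizer_singleton_iff]
    obtain ⟨c, hc', hcle⟩ := RedAct.exists_cj_le h.two h.T_syl h4 h3
    have h5 : Nat.card (S ⊔ W : Subgroup G) ≤ Nat.card S := by
      rw [← card_cj c (S ⊔ W)]
      exact Nat.card_le_card_of_injective _ (inclusion_injective hcle)
    have h6 : S = S ⊔ W := Subgroup.eq_of_le_of_card_ge le_sup_left h5
    rw [h6]
    exact mem_sup_right (mem_sup_left (mem_zpowers v))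
  have A : Zv.At S z v := ⟨hvS, hvv, hv1, hvz, hS⟩
  refine A.mem_V h ?_
  -- `|C(v)| = |C(z)|`
  obtain ⟨g, hg⟩ := hv
  have h1 : Nat.card (centralizer ({v} : Set G)) = Nat.card (centralizer ({z} : Set G)) := by
    rw [hg, ← cj_centralizer_singleton, card_cj]
  have h2 : Nat.card (Zv.ta S v) * (Zv.ta S v).relIndex (centralizer ({v} : Set G)) =
      Nat.card (centralizer ({v} : Set G)) := Block.card_mul_relIndex' inf_le_right
  have h3 : Nat.card S * S.relIndex (centralizer ({z} : Set G)) = Nat.card (centralizer ({z} : Set G)) :=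
    Block.card_mul_relIndex' h.T_le
  rw [h1, ← h3, A.card h] at h2
  have h4 : 0 < Nat.card (Zv.ta S v) := Nat.card_pos
  refine ⟨S.relIndex (centralizer ({z} : Set G)), ?_⟩
  apply Nat.eq_of_mul_eq_mul_left h4
  rw [h2]; ring

end Cfsg.Agent.OddCyclic.EmpLine
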