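import Mathlib
import Cfsg.Agent.OddCyclic.EmpLine.BcD
import Cfsg.Agent.OddCyclic.EmpLine.Zv
import Cfsg.Agent.OddCyclic.EmpLine.BcP

/-!
# The exits, type (1\3) of `C(z)`: the action of `C(z)` on `Y = 2⁴`

* `Md.exists_eq_z`: `a ∈ C(z)` acting as an involution on `Y`: `[y, a] = z` for some `y ∈ Y`;
* `Md.le_of_small`: no element acts as a transvection;
* `Md.trans_Y`: `L` is transitive on the cosets `y⟨z⟩ ≠ ⟨z⟩`;
* `Md.pair`: `Y^g ≤ C(z)`, `Y ≤ C(z^g)`, `[Y, Y^g] ≠ 1` imply `z ∈ Y^g`, `z ≠ z^g ∈ Y`;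
* `Md.V_le`: if `Y` contains a conjugate of `z` other than `z` then `V ≤ Y`;
* `Md.card_three`: `|C_Y(x)| = 4` for the elements `x` of order 3 of `C(z)`.
-/

set_option autoImplicit false
set_option linter.unusedSectionVars false

namespace Cfsg.Agent.OddCyclic.EmpLine

open Subgroup Cfsg Cfsg.Agent.ZN Cfsg.Agent.ZN.ChoiceBase Cfsg.Agent.ZN.ChoiceSit
open Cfsg.Agent.MinSimple Cfsg.Agent.MinSimple.EmptyTI Cfsg.Agent.MinSimple.EmptySix
open Cfsg.Agent.MinSimple.Geo (ws lines le_ws ws_le inv_eq_self mem_zpowers_iff_of_mul_self)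
open Cfsg.Agent.OddCyclic.GeoC (GeoC)
open Cfsg.Agent.OddCyclic.T1Module Cfsg.Agent.OddCyclic.FFBasic Cfsg.Agent.OddCyclic.FFRed
open Cfsg.Agent.OddCyclic.FFSl2 (CS_le_fx index_le_of_le)
open Cfsg.Agent.OddCyclic.FFThree Cfsg.Agent.OddCyclic.RedRep
open Cfsg.Agent.OddCyclic.RedSevenX (img mem_img cent_kk cent_jj relIndex_cent cent_iff mem_norm_of)
open Cfsg.Agent.OddCyclic.EN.BbDefs (IsStar)
open Cfsg.Agent.OddCyclic.EN.Pi (Com)
open scoped commutatorElement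

universe u

variable {G : Type u} [Group G]

section rep

variable {X Y : Subgroup G} {H V₀ : Type u} [Group H] [CommGroup V₀] {r : X →* H} {ρ : H →* MulAut V₀} {ι : V₀ →* G}

theorem index_fx (hr : Rep X Y r ρ ι) (a : X) :
    (fx ρ (r a)).index = (Y ⊓ centralizer ({(a : G)} : Set G)).relIndex Y := by
  have h1 : (fx ρ (r a)).map ι = Y ⊓ centralizer ({(a : G)} : Set G) := by
    ext y
    constructor
    · rintro ⟨v, hv, rfl⟩
      exact ⟨hr.mem v, mem_centralizer_singleton_iff.2 (hr.fix.1 hv).symm⟩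
    · rintro ⟨hy, hya⟩
      obtain ⟨v, rfl⟩ := hr.exists_v hy
      refine ⟨v, ?_, rfl⟩
      exact hr.fix.2 (mem_centralizer_singleton_iff.1 hya).symm
  rw [← h1]
  conv_rhs => rw [← hr.range, MonoidHom.range_eq_map]
  rw [relIndex_map_map_of_injective _ _ hr.iinj, relIndex_top_right]

end rep

/-- `y ↦ [a, y]` -/
def dl {Y : Subgroup G} {a : G} (hn : a ∈ normalizer (Y : Set G)) (hc : ∀ x ∈ Y, ∀ y ∈ Y, x * y = y * x) : Y →* Y where
  toFun y := ⟨a * y * a⁻¹ * (y : G)⁻¹, mul_mem ((mem_normalizer_iff.1 hn y).1 y.2) (inv_mem y.2)⟩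
  map_one' := Subtype.ext (by simp)
  map_mul' x y := Subtype.ext (by
    change a * (x * y) * a⁻¹ * ((x : G) * y)⁻¹ = (a * x * a⁻¹ * (x : G)⁻¹) * (a * y * a⁻¹ * (y : G)⁻¹)
    have h1 : a * (y : G) * a⁻¹ ∈ Y := (mem_normalizer_iff.1 hn y).1 y.2
    have h2 : (x : G)⁻¹ * (a * y * a⁻¹) = (a * y * a⁻¹) * (x : G)⁻¹ := hc _ (inv_mem x.2) _ h1
    have h3 : (x : G)⁻¹ * (y : G)⁻¹ = (y : G)⁻¹ * (x : G)⁻¹ := hc _ (inv_mem x.2) _ (inv_mem y.2)
    calc a * (x * y) * a⁻¹ * ((x : G) * y)⁻¹ = (a * x * a⁻¹) * ((a * y * a⁻¹) * ((y : G)⁻¹ * (x : G)⁻¹)) := by group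
      _ = (a * x * a⁻¹) * ((a * y * a⁻¹) * ((x : G)⁻¹ * (y : G)⁻¹)) := by rw [h3]
      _ = (a * x * a⁻¹) * (((a * y * a⁻¹) * (x : G)⁻¹) * (y : G)⁻¹) := by group
      _ = (a * x * a⁻¹ * (x : G)⁻¹) * (a * y * a⁻¹ * (y : G)⁻¹) := by rw [← h2]; group)

theorem mem_ker_dl {Y : Subgroup G} {a : G} (hn : a ∈ normalizer (Y : Set G)) (hc : ∀ x ∈ Y, ∀ y ∈ Y, x * y = y * x)
    {y : Y} : y ∈ (dl hn hc).ker ↔ a * y = y * a := by
  rw [MonoidHom.mem_ker, ← Subtype.coe_inj]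
  change a * y * a⁻¹ * (y : G)⁻¹ = 1 ↔ _
  rw [mul_inv_eq_one, mul_inv_eq_iff_eq_mul]

variable [Finite G]

theorem card_range_dl {Y : Subgroup G} {a : G} (hn : a ∈ normalizer (Y : Set G))
    (hc : ∀ x ∈ Y, ∀ y ∈ Y, x * y = y * x) :
    Nat.card (dl hn hc).range = (Y ⊓ centralizer ({a} : Set G)).relIndex Y := by
  rw [← Subgroup.index_ker]
  have h1 : (dl hn hc).ker = (Y ⊓ centralizer ({a} : Set G)).subgroupOf Y := by
    ext y
    rw [mem_ker_dl, mem_subgroupOf, mem_inf, mem_centralizer_singleton_iff]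
    exact ⟨fun h => ⟨y.2, h.symm⟩, fun h => h.2.symm⟩
  rw [h1]
  rfl

namespace Md

variable {S V : Subgroup G} {z : G} {L Y : Subgroup G}

theorem Y_sq (m : Md S V z L Y) {y : G} (hy : y ∈ Y) : y * y = 1 := m.ws_sq (m.Y_le hy)

theorem Y_inv (m : Md S V z L Y) {y : G} (hy : y ∈ Y) : y⁻¹ = y := inv_eq_self (m.Y_sq hy)

theorem Y_comm (m : Md S V z L Y) : ∀ x ∈ Y, ∀ y ∈ Y, x * y = y * x := fun a ha b hb =>
  m.ab a (m.Y_le ha) b (m.Y_le hb)

theorem Y_S (m : Md S V z L Y) : Y ≤ S := m.Y_le.trans m.ws_le_S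

theorem Y_C (m : Md S V z L Y) : Y ≤ centralizer ({z} : Set G) := m.Y_S.trans m.T_le

theorem conjY (m : Md S V z L Y) {a y : G} (ha : a ∈ centralizer ({z} : Set G)) (hy : y ∈ Y) : a * y * a⁻¹ ∈ Y :=
  (mem_normalizer_iff.1 (m.Y_nor ha) y).1 hy

theorem relIndex_dvd (m : Md S V z L Y) (a : G) : (Y ⊓ centralizer ({a} : Set G)).relIndex Y ∣ 16 := by
  rw [← m.card]
  exact ⟨_, (Block.card_mul_relIndex' (inf_le_left : Y ⊓ centralizer ({a} : Set G) ≤ Y)).symm.trans (mul_comm _ _)⟩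

/-- `|Y : C_Y(a)| ≥ 4` -/
theorem four_le (m : Md S V z L Y) {a : G} (ha : a ∈ centralizer ({z} : Set G))
    (haa : a * a ∈ centralizer (Y : Set G)) (haY : a ∉ centralizer (Y : Set G)) :
    4 ≤ (Y ⊓ centralizer ({a} : Set G)).relIndex Y := by
  obtain ⟨H, V₀, _, _, _, _, r, ρ, ι, hr⟩ := exists_rep' (X := centralizer ({z} : Set G)) (Y := Y) m.Y_nor m.Y_comm
  obtain ⟨l, hl, hla⟩ := m.cov a ha
  have h1 : r ⟨a, ha⟩ ∈ img r L := by
    refine mem_img.2 ⟨⟨l, m.L_le hl⟩, hl, ?_⟩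
    have h2 : r ((⟨l, m.L_le hl⟩ : centralizer ({z} : Set G))⁻¹ * ⟨a, ha⟩) = 1 := (cent_iff hr).2 hla
    rw [map_mul, map_inv, inv_mul_eq_one] at h2
    exact h2
  have h2 : r ⟨a, ha⟩ ≠ 1 := fun h0 => haY ((cent_iff hr).1 h0)
  have h3 : r ⟨a, ha⟩ * r ⟨a, ha⟩ = 1 := by
    rw [← map_mul]
    exact (cent_iff hr).2 haa
  have h4 := m.ne_two m.Y_le m.Y_nor hr m.q168 h1 h2 h3
  rw [index_fx hr ⟨a, ha⟩] at h4
  change (Y ⊓ centralizer ({a} : Set G)).relIndex Y ≠ 2 at h4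
  have h5 := m.relIndex_dvd a
  have h6 : (Y ⊓ centralizer ({a} : Set G)).relIndex Y ≠ 1 := by
    intro h0
    rw [relIndex_eq_one] at h0
    apply haY
    rw [mem_centralizer_iff]
    intro y hy
    exact mem_centralizer_singleton_iff.1 (h0 hy).2
  have h7 : (Y ⊓ centralizer ({a} : Set G)).relIndex Y ≤ 16 := Nat.le_of_dvd (by norm_num) h5
  have h8 : (Y ⊓ centralizer ({a} : Set G)).relIndex Y ≠ 0 := by
    intro h0
    rw [h0] at h5
    omega
  have h9 : (Y ⊓ centralizer ({a} : Set G)).relIndex Y ≠ 3 := by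
    intro h0
    rw [h0] at h5
    omega
  omega

/-- no element acts as a transvection -/
theorem le_of_small (m : Md S V z L Y) {a e : G} (ha : a ∈ centralizer ({z} : Set G))
    (haa : a * a ∈ centralizer (Y : Set G)) (h : ∀ y ∈ Y, a * y * a⁻¹ * y⁻¹ = 1 ∨ a * y * a⁻¹ * y⁻¹ = e) :
    a ∈ centralizer (Y : Set G) := by
  by_contra haY
  have h1 := m.four_le ha haa haY
  rw [← card_range_dl (m.Y_nor ha) m.Y_comm] at h1
  have h2 : (((dl (m.Y_nor ha) m.Y_comm).range.map Y.subtype : Subgroup G) : Set G) ⊆ {1, e} := by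
    rintro _ ⟨_, ⟨y, rfl⟩, rfl⟩
    rcases h y y.2 with h3 | h3
    · left; exact h3
    · right; exact h3
  have h3 := Set.ncard_le_ncard h2 (Set.toFinite _)
  have h4 : (((dl (m.Y_nor ha) m.Y_comm).range.map Y.subtype : Subgroup G) : Set G).ncard =
      Nat.card (dl (m.Y_nor ha) m.Y_comm).range := by
    rw [← Subgroup.card_map_of_injective (f := Y.subtype) Y.subtype_injective]
    rfl
  have h5 : ({1, e} : Set G).ncard ≤ 2 := by
    have := Set.ncard_insert_le (1 : G) {e}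
    rwa [Set.ncard_singleton] at this
  omega

/-- `[a, y] = z` for some `y ∈ Y` -/
theorem exists_eq_z (m : Md S V z L Y) {a : G} (ha : a ∈ centralizer ({z} : Set G))
    (haa : a * a ∈ centralizer (Y : Set G)) (haY : a ∉ centralizer (Y : Set G)) :
    ∃ y ∈ Y, a * y * a⁻¹ * y⁻¹ = z := by
  have h1 := m.four_le ha haa haY
  set δ := dl (m.Y_nor ha) m.Y_comm with hδ
  rw [← card_range_dl (m.Y_nor ha) m.Y_comm, ← hδ] at h1
  by_contra hcon
  push Not at hcon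
  have hRK : δ.range ≤ δ.ker := by
    rintro _ ⟨y, rfl⟩
    rw [hδ, mem_ker_dl]
    change a * (a * y * a⁻¹ * (y : G)⁻¹) = (a * y * a⁻¹ * (y : G)⁻¹) * a
    have h2 : a * a * y = y * (a * a) := (mem_centralizer_iff.1 haa y y.2).symm
    have h3 := m.conjY ha y.2
    have h4 := m.Y_comm _ h3 _ (inv_mem y.2)
    have h5 := m.Y_sq h3
    have h6 := m.Y_inv y.2
    calc a * (a * y * a⁻¹ * (y : G)⁻¹) = (a * a * y) * a⁻¹ * (y : G)⁻¹ := by group
      _ = y * (a * (a * (a⁻¹ * (y : G)⁻¹))) := by rw [h2]; group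
      _ = y * (a * (y : G)⁻¹ * a⁻¹) * a := by group
      _ = (y : G)⁻¹ * (a * y * a⁻¹) * a := by rw [h6]
      _ = (a * y * a⁻¹ * (y : G)⁻¹) * a := by rw [← h4]
  have hz : (⟨z, m.z_Y⟩ : Y) ∈ δ.ker := by
    rw [hδ, mem_ker_dl]
    exact mem_centralizer_singleton_iff.1 ha
  have hz' : (⟨z, m.z_Y⟩ : Y) ∉ δ.range := by
    rintro ⟨y, hy⟩
    exact hcon y y.2 (congrArg Subtype.val hy)
  have h2 : Nat.card δ.range ∣ Nat.card δ.ker := Subgroup.card_dvd_of_le hRK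
  have h3 : Nat.card δ.range ≠ Nat.card δ.ker := by
    intro h0
    have h4 := Subgroup.eq_of_le_of_card_ge hRK h0.ge
    rw [h4] at hz'
    exact hz' hz
  have h4 : Nat.card δ.ker * Nat.card δ.range = 16 := by
    rw [← Subgroup.index_ker, Subgroup.card_mul_index, m.card]
  obtain ⟨k, hk⟩ := h2
  have hk1 : k ≠ 1 := by
    rintro rfl
    rw [mul_one] at hk
    exact h3 hk.symm
  have hk0 : k ≠ 0 := by
    rintro rfl
    rw [mul_zero] at hk
    rw [hk] at h4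
    omega
  have hk2 : 2 ≤ k := by omega
  rw [hk] at h4
  have h5 : 4 * 2 * 4 ≤ Nat.card δ.range * k * Nat.card δ.range :=
    Nat.mul_le_mul (Nat.mul_le_mul h1 hk2) h1
  omega

/-- the critical pairs of `Y` -/
theorem pair (m : Md S V z L Y) {g : G} (h1 : cj g Y ≤ centralizer ({z} : Set G))
    (h2 : Y ≤ centralizer ({g * z * g⁻¹} : Set G)) (hnc : ¬ Com Y (cj g Y)) :
    z ∈ cj g Y ∧ g * z * g⁻¹ ∈ Y ∧ g * z * g⁻¹ ≠ z := by
  have hex : ∃ a ∈ cj g Y, a ∉ centralizer (Y : Set G) := by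
    by_contra hcon
    push Not at hcon
    exact hnc fun y hy a ha => mem_centralizer_iff.1 (hcon a ha) y hy
  obtain ⟨a, ha, haY⟩ := hex
  have hnq : centralizer ({g * z * g⁻¹} : Set G) ≤ normalizer ((cj g Y : Subgroup G) : Set G) := by
    rw [← Geo.cj_centralizer_singleton]
    have : normalizer ((cj g Y : Subgroup G) : Set G) = cj g (normalizer (Y : Set G)) := (Geo.cj_normalizer g Y).symm
    rw [this]
    exact cj_mono g m.Y_nor
  have haa : a * a = 1 := by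
    obtain ⟨w, hw, rfl⟩ := ha
    rw [← map_mul, m.Y_sq hw, map_one]
  obtain ⟨y, hy, hay⟩ := m.exists_eq_z (h1 ha) (by rw [haa]; exact one_mem _) haY
  have hz : z ∈ cj g Y := by
    have h3 : y * a⁻¹ * y⁻¹ ∈ cj g Y := (mem_normalizer_iff.1 (hnq (h2 hy)) _).1 (inv_mem ha)
    have e : z = a * (y * a⁻¹ * y⁻¹) := by rw [← hay]; group
    rw [e]
    exact mul_mem ha h3
  refine ⟨hz, ?_, ?_⟩
  · -- the element `y`
    have hy' : g⁻¹ * y * g ∈ centralizer ({z} : Set G) := by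
      have h3 := h2 hy
      rw [← Geo.cj_centralizer_singleton, mem_cj] at h3
      exact h3
    have hya : g⁻¹ * y * g ∉ centralizer (Y : Set G) := by
      intro h3
      have h4 := mem_centralizer_iff.1 h3 _ (mem_cj.1 ha)
      have h5 : a * y = y * a := by
        calc a * y = g * (g⁻¹ * a * g * (g⁻¹ * y * g)) * g⁻¹ := by group
          _ = g * (g⁻¹ * y * g * (g⁻¹ * a * g)) * g⁻¹ := by rw [h4]
          _ = y * a := by group
      rw [h5] at hay
      apply m.z_ne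
      rw [← hay]; group
    obtain ⟨u, hu, hyu⟩ := m.exists_eq_z hy' (by
      have e : g⁻¹ * y * g * (g⁻¹ * y * g) = g⁻¹ * (y * y) * g := by group
      rw [e, m.Y_sq hy]
      have e : g⁻¹ * 1 * g = 1 := by group
      rw [e]; exact one_mem _) hya
    have hw : g * u * g⁻¹ ∈ cj g Y := by
      rw [mem_cj]
      have e : g⁻¹ * (g * u * g⁻¹) * g = u := by group
      rw [e]; exact hu
    have h3 : (g * u * g⁻¹) * y⁻¹ * (g * u * g⁻¹)⁻¹ ∈ Y := m.conjY (h1 hw) (inv_mem hy)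
    have e : g * z * g⁻¹ = y * ((g * u * g⁻¹) * y⁻¹ * (g * u * g⁻¹)⁻¹) := by rw [← hyu]; group
    rw [e]
    exact mul_mem hy h3
  · intro h0
    apply hnc
    have hg : g ∈ centralizer ({z} : Set G) := by
      rw [mem_centralizer_singleton_iff]
      calc g * z = (g * z * g⁻¹) * g := by group
        _ = z * g := by rw [h0]
    rw [cj_eq_of_mem_normalizer (m.Y_nor hg)]
    exact m.Y_comm

end Md

end Cfsg.Agent.OddCyclic.EmpLine
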