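import Cfsg.Agent.OddCyclic.EN.Bb
import Cfsg.Agent.OddCyclic.UniPiece
import Cfsg.Agent.Lib.InvolutionKernel
import Cfsg.Agent.ZN.BlkFam
import Cfsg.Agent.GTwoFour.Tools

/-!
# The kill of type bc on `C(z)` (helper412, #17665), part (4): `|ws V z| = 16`

`Mc T V z L` : the line `V` through `z`, `W = ws V z` elementary abelian of order 16, `C(z)` acts on it as a group of
order 168, transitively on `W - ⟨z⟩`, and `[W, ws V q] ≠ 1` for some point `q` of `V` (in `M₂₃` this really happens, but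
there a Sylow 3-subgroup of `N(V)` is not cyclic).

`Mc.false`: with `D = W_q W_r` (order 64, `≥ W_z`) the elements of order 3 of `C(V)` fix exactly `V` in `D`, and an element
of order 9 of `N(V)` acts semiregularly on `D - V`.
-/

set_option autoImplicit false
set_option linter.unusedSectionVars false

namespace Cfsg.Agent.OddCyclic.EmpLine.BcEnd

open scoped commutatorElement
open Subgroup Cfsg Cfsg.Agent.ZN Cfsg.Agent.MinSimple.Geo Cfsg.Agent.OddCyclic.GeoC
open Cfsg.Agent.OddCyclic.EN.BbDefs (IsStar)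
open Cfsg.Agent.OddCyclic.T1Defs (OddCyc)
open Cfsg.Agent.ZN.Block (conj_mem_of_normalizer conj_mem_of_normalizer' le_normalizer_of_forall card_mul_relIndex'
  card_sup_mul_card_inf)

universe u

variable {G : Type u} [Group G]

/-- the `M₂₃`-like situation -/
structure Mc (T V : Subgroup G) (z : G) (L : Subgroup G) : Prop extends GeoC T V z where
  sqW : ∀ w ∈ ws V z, w * w = 1
  card : Nat.card (ws V z) = 16
  tr : ∀ a ∈ ws V z, ∀ b ∈ ws V z, a ∉ zpowers z → b ∉ zpowers z → ∃ c ∈ centralizer ({z} : Set G), c * a * c⁻¹ = b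
  idx : (centralizer ((ws V z : Subgroup G) : Set G)).relIndex (centralizer ({z} : Set G)) = 168
  big : ∀ a ∈ centralizer ({z} : Set G), a ∉ centralizer ((ws V z : Subgroup G) : Set G) →
    4 ≤ (ws V z ⊓ centralizer ({a} : Set G)).relIndex (ws V z)
  L_le : L ≤ centralizer ({z} : Set G)
  L_nor : centralizer ({z} : Set G) ≤ normalizer (L : Set G)
  star : IsStar L
  L_mv : ¬ L ≤ centralizer (V : Set G)
  three : ∀ g ∈ centralizer ({z} : Set G), orderOf g = 3 → g ∉ centralizer ((ws V z : Subgroup G) : Set G)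
  simp : ∀ D : Subgroup G, D ≤ centralizer ({z} : Set G) → centralizer ({z} : Set G) ≤ normalizer (D : Set G) →
    IsPGroup 2 D → D ≤ centralizer ((ws V z : Subgroup G) : Set G)
  nc : ∃ q ∈ V, q ≠ 1 ∧ q ≠ z ∧ ¬ ws V z ≤ centralizer ((ws V q : Subgroup G) : Set G)

theorem comm_of_sq {H : Subgroup G} (h : ∀ a ∈ H, a * a = 1) {a b : G} (ha : a ∈ H) (hb : b ∈ H) : a * b = b * a := by
  have h1 := h _ (mul_mem ha hb)
  have h2 := h a ha
  have h3 := h b hb
  have h4 : a⁻¹ = a := inv_eq_of_mul_eq_one_left h2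
  have h5 : b⁻¹ = b := inv_eq_of_mul_eq_one_left h3
  have h6 : (a * b)⁻¹ = a * b := inv_eq_of_mul_eq_one_left h1
  rw [mul_inv_rev, h4, h5] at h6
  exact h6.symm

theorem cube {y : G} (hy : orderOf y = 3) : y * y * y = 1 := by
  have := pow_orderOf_eq_one y
  rwa [hy, pow_succ, pow_two] at this

/-- `y` of order 3 commuting modulo `f`, `f` commutes with `y`, `f * f = 1`: `y w y⁻¹ = f w` gives `f = 1`. -/
theorem eq_one_of_three {y w f : G} (hy : orderOf y = 3) (hf : f * f = 1) (hyf : y * f = f * y)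
    (h : y * w * y⁻¹ = f * w) : f = 1 := by
  have h0 : y⁻¹ * (f * w) * y = w := by rw [← h]; group
  have hyf' : y * f * y⁻¹ = f := by rw [hyf]; group
  have h2 : y * (y * w * y⁻¹) * y⁻¹ = f * f * w := by
    calc y * (y * w * y⁻¹) * y⁻¹ = y * (f * w) * y⁻¹ := by rw [h]
      _ = (y * f * y⁻¹) * (y * w * y⁻¹) := by group
      _ = f * f * w := by rw [hyf', h]; group
  have h3 : y * (y * (y * w * y⁻¹) * y⁻¹) * y⁻¹ = f * (f * f) * w := by
    calc y * (y * (y * w * y⁻¹) * y⁻¹) * y⁻¹ = y * (f * f * w) * y⁻¹ := by rw [h2]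
      _ = (y * f * y⁻¹) * (y * f * y⁻¹) * (y * w * y⁻¹) := by group
      _ = f * (f * f) * w := by rw [hyf', h]; group
  have h4 : y * (y * (y * w * y⁻¹) * y⁻¹) * y⁻¹ = (y * y * y) * w * (y * y * y)⁻¹ := by group
  rw [h4, cube hy, hf] at h3
  have h5 : f * w = w := by
    calc f * w = f * 1 * w := by group
      _ = 1 * w * 1⁻¹ := h3.symm
      _ = w := by group
  exact mul_eq_right.1 h5

namespace Mc

variable {T V L : Subgroup G} {z : G}

/-! ### transport to the points of `V` -/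

theorem exists_g (h : Mc T V z L) {p : G} (hp : p ∈ V) (hp1 : p ≠ 1) :
    ∃ g ∈ normalizer (V : Set G), g * z * g⁻¹ = p ∧ ws V p = cj g (ws V z) := by
  obtain ⟨g, hg, rfl⟩ := h.trans p hp hp1
  exact ⟨g, hg, rfl, (cj_ws V g z).symm⟩

theorem V_le_p (h : Mc T V z L) {p : G} (hp : p ∈ V) (hp1 : p ≠ 1) : V ≤ ws V p := by
  obtain ⟨g, hg, -, hw⟩ := h.exists_g hp hp1
  rw [hw]
  have h1 := cj_mono (g := g) h.toGeoC.V_le_ws
  rwa [cj_eq_of_mem_normalizer hg] at h1

theorem sq_p (h : Mc T V z L) {p : G} (hp : p ∈ V) (hp1 : p ≠ 1) : ∀ w ∈ ws V p, w * w = 1 := by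
  obtain ⟨g, hg, -, hw⟩ := h.exists_g hp hp1
  intro w h1
  rw [hw, mem_cj] at h1
  have h2 := h.sqW _ h1
  have e : w * w = g * (g⁻¹ * w * g * (g⁻¹ * w * g)) * g⁻¹ := by group
  rw [e, h2]; group

theorem comm_p (h : Mc T V z L) {p : G} (hp : p ∈ V) (hp1 : p ≠ 1) {a b : G} (ha : a ∈ ws V p) (hb : b ∈ ws V p) :
    a * b = b * a := comm_of_sq (h.sq_p hp hp1) ha hb

theorem card_p (h : Mc T V z L) {p : G} (hp : p ∈ V) (hp1 : p ≠ 1) : Nat.card (ws V p) = 16 := by
  obtain ⟨g, hg, -, hw⟩ := h.exists_g hp hp1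
  rw [hw, card_cj, h.card]

theorem le_cent (h : Mc T V z L) {p : G} (hp : p ∈ V) (hp1 : p ≠ 1) : ws V p ≤ centralizer (V : Set G) := by
  intro w hw
  rw [mem_centralizer_iff]
  exact fun v hv => h.comm_p hp hp1 (h.V_le_p hp hp1 hv) hw

theorem cent_le (_ : Mc T V z L) {p : G} (hp : p ∈ V) : centralizer (V : Set G) ≤ centralizer ({p} : Set G) :=
  centralizer_le (by simpa using hp)

theorem cent_le_norm (h : Mc T V z L) {p : G} (hp : p ∈ V) :
    centralizer (V : Set G) ≤ normalizer ((ws V p : Subgroup G) : Set G) :=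
  (h.cent_le hp).trans (centralizer_le_normalizer_ws V p)

theorem big_p [Finite G] (h : Mc T V z L) {p : G} (hp : p ∈ V) (hp1 : p ≠ 1) {a : G}
    (ha : a ∈ centralizer ({p} : Set G)) (ha2 : a ∉ centralizer ((ws V p : Subgroup G) : Set G)) :
    4 ≤ (ws V p ⊓ centralizer ({a} : Set G)).relIndex (ws V p) := by
  obtain ⟨g, hg, hgp, hw⟩ := h.exists_g hp hp1
  have h1 : g⁻¹ * a * g ∈ centralizer ({z} : Set G) := by
    rw [← mem_cj, cj_centralizer_singleton, hgp]; exact ha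
  have h2 : g⁻¹ * a * g ∉ centralizer ((ws V z : Subgroup G) : Set G) := by
    intro h3
    apply ha2
    rw [mem_centralizer_iff]
    intro w h4
    rw [SetLike.mem_coe, hw, mem_cj] at h4
    have h5 := mem_centralizer_iff.1 h3 _ h4
    calc w * a = g * ((g⁻¹ * w * g) * (g⁻¹ * a * g)) * g⁻¹ := by group
      _ = g * ((g⁻¹ * a * g) * (g⁻¹ * w * g)) * g⁻¹ := by rw [h5]
      _ = a * w := by group
  have h3 := h.big _ h1 h2
  have h4 := relIndex_cj g (ws V z ⊓ centralizer ({g⁻¹ * a * g} : Set G)) (ws V z)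
  rw [cj_inf, cj_centralizer_singleton, ← hw] at h4
  have e : g * (g⁻¹ * a * g) * g⁻¹ = a := by group
  rw [e] at h4
  rw [h4]
  exact h3

theorem three_p (h : Mc T V z L) {p : G} (hp : p ∈ V) (hp1 : p ≠ 1) {y : G}
    (hy : y ∈ centralizer ({p} : Set G)) (hy3 : orderOf y = 3) : y ∉ centralizer ((ws V p : Subgroup G) : Set G) := by
  obtain ⟨g, hg, hgp, hw⟩ := h.exists_g hp hp1
  have h1 : g⁻¹ * y * g ∈ centralizer ({z} : Set G) := by
    rw [← mem_cj, cj_centralizer_singleton, hgp]; exact hy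
  have h2 : orderOf (g⁻¹ * y * g) = 3 := by
    rw [← hy3]
    have e : g⁻¹ * y * g = MulAut.conj g⁻¹ y := by simp
    rw [e]
    exact orderOf_injective (MulAut.conj g⁻¹).toMonoidHom (MulAut.conj g⁻¹).injective y
  intro h3
  apply h.three _ h1 h2
  rw [mem_centralizer_iff]
  intro w h4
  have h5 : g * w * g⁻¹ ∈ ws V p := by rw [hw]; exact conj_mem_cj h4
  have h6 := mem_centralizer_iff.1 h3 _ h5
  calc w * (g⁻¹ * y * g) = g⁻¹ * ((g * w * g⁻¹) * y) * g := by group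
    _ = g⁻¹ * (y * (g * w * g⁻¹)) * g := by rw [h6]
    _ = g⁻¹ * y * g * w := by group

/-! ### noncommuting -/

/-- `W_z` and `W_q` do not commute, for all points `q ≠ z` of `V` -/
theorem nc_z [Finite G] (h : Mc T V z L) {r : G} (hr : r ∈ V) (hr1 : r ≠ 1) (hrz : r ≠ z) :
    ¬ ws V z ≤ centralizer ((ws V r : Subgroup G) : Set G) := by
  obtain ⟨q, hq, hq1, hqz, hn⟩ := h.nc
  by_cases hrq : r = q
  · rw [hrq]; exact hn
  -- `t ∈ T` maps `q` to `r = z q`
  obtain ⟨t, ht, htq⟩ : ∃ t ∈ T, t * q ≠ q * t := by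
    by_contra hcon
    push Not at hcon
    rcases h.soc q (h.V_le hq) (h.sq q hq) (fun s hs => hcon s hs) with h1 | h1
    · exact hq1 h1
    · exact hqz h1
  have htz := h.toGeoC.z_comm (h.T_le ht)
  have htr : t * q * t⁻¹ = r := by
    rcases h.toGeoC.conj_cases h.z_mem hq h.z_ne htz (h.T_norm ht) with h1 | h1
    · exfalso
      apply htq
      calc t * q = (t * q * t⁻¹) * t := by group
        _ = q * t := by rw [h1]
    · rw [h1]
      rcases h.toGeoC.four h.z_mem hq h.z_ne hq1 (Ne.symm hqz) hr with h2 | h2 | h2 | h2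
      · exact absurd h2 hr1
      · exact absurd h2 hrz
      · exact absurd h2 hrq
      · exact h2.symm
  intro h1
  apply hn
  intro a ha
  rw [mem_centralizer_iff]
  intro b hb
  have h2 : t * a * t⁻¹ ∈ ws V z := by
    have h3 : t * a * t⁻¹ ∈ cj t (ws V z) := conj_mem_cj ha
    rw [cj_ws] at h3
    have e : t * z * t⁻¹ = z := by rw [htz]; group
    rwa [e] at h3
  have h3 : t * b * t⁻¹ ∈ ws V r := by
    have h4 : t * b * t⁻¹ ∈ cj t (ws V q) := conj_mem_cj hb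
    rwa [cj_ws, htr] at h4
  have h4 := mem_centralizer_iff.1 (h1 h2) _ h3
  calc b * a = t⁻¹ * ((t * b * t⁻¹) * (t * a * t⁻¹)) * t := by group
    _ = t⁻¹ * ((t * a * t⁻¹) * (t * b * t⁻¹)) * t := by rw [h4]
    _ = a * b := by group

theorem nc_p [Finite G] (h : Mc T V z L) {p r : G} (hp : p ∈ V) (hp1 : p ≠ 1) (hr : r ∈ V) (hr1 : r ≠ 1)
    (hpr : p ≠ r) : ¬ ws V p ≤ centralizer ((ws V r : Subgroup G) : Set G) := by
  obtain ⟨g, hg, hgp, hw⟩ := h.exists_g hp hp1
  have hr' : g⁻¹ * r * g ∈ V := (mem_normalizer_iff''.1 hg r).1 hr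
  have hr1' : g⁻¹ * r * g ≠ 1 := fun e => hr1 (by
    have e2 : r = g * (g⁻¹ * r * g) * g⁻¹ := by group
    rw [e2, e]; group)
  have hrz' : g⁻¹ * r * g ≠ z := fun e => hpr (by
    have e2 : r = g * (g⁻¹ * r * g) * g⁻¹ := by group
    rw [e2, e, hgp])
  intro h1
  apply h.nc_z hr' hr1' hrz'
  intro a ha
  rw [mem_centralizer_iff]
  intro b hb
  have h2 : g * a * g⁻¹ ∈ ws V p := by rw [hw]; exact conj_mem_cj ha
  have h3 : g * b * g⁻¹ ∈ ws V r := by
    have h4 : g * b * g⁻¹ ∈ cj g (ws V (g⁻¹ * r * g)) := conj_mem_cj hb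
    have e : g * (g⁻¹ * r * g) * g⁻¹ = r := by group
    rwa [cj_ws, e] at h4
  have h4 := mem_centralizer_iff.1 (h1 h2) _ h3
  calc b * a = g⁻¹ * ((g * b * g⁻¹) * (g * a * g⁻¹)) * g := by group
    _ = g⁻¹ * ((g * a * g⁻¹) * (g * b * g⁻¹)) * g := by rw [h4]
    _ = a * b := by group

/-- `C_{W_r}(W_p) = V` -/
theorem inf_cent [Finite G] (h : Mc T V z L) {p r : G} (hp : p ∈ V) (hp1 : p ≠ 1) (hr : r ∈ V) (hr1 : r ≠ 1)
    (hpr : p ≠ r) : ws V r ⊓ centralizer ((ws V p : Subgroup G) : Set G) = V := by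
  obtain ⟨a, ha, ha2⟩ := SetLike.not_le_iff_exists.1 (h.nc_p hp hp1 hr hr1 hpr)
  have h1 := h.big_p hr hr1 (h.cent_le hr (h.le_cent hp hp1 ha)) ha2
  have h2 : ws V r ⊓ centralizer ((ws V p : Subgroup G) : Set G) ≤ ws V r ⊓ centralizer ({a} : Set G) :=
    inf_le_inf le_rfl (centralizer_le (by simpa using ha))
  have h3 : V ≤ ws V r ⊓ centralizer ((ws V p : Subgroup G) : Set G) := by
    refine le_inf (h.V_le_p hr hr1) ?_
    rw [← le_centralizer_iff]
    exact h.le_cent hp hp1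
  have h4 : Nat.card (ws V r ⊓ centralizer ({a} : Set G) : Subgroup G) ≤ 4 := by
    have h5 := card_mul_relIndex' (inf_le_left : ws V r ⊓ centralizer ({a} : Set G) ≤ ws V r)
    rw [h.card_p hr hr1] at h5
    by_contra h6
    push Not at h6
    nlinarith
  have h5 : Nat.card (ws V r ⊓ centralizer ((ws V p : Subgroup G) : Set G) : Subgroup G) ≤ Nat.card V := by
    rw [h.card_V]
    exact (Subgroup.card_le_of_le h2).trans h4
  exact (Subgroup.eq_of_le_of_card_ge h3 h5).symm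

theorem inf_eq [Finite G] (h : Mc T V z L) {p r : G} (hp : p ∈ V) (hp1 : p ≠ 1) (hr : r ∈ V) (hr1 : r ≠ 1)
    (hpr : p ≠ r) : ws V r ⊓ ws V p = V := by
  apply le_antisymm
  · have h1 : ws V p ≤ centralizer ((ws V p : Subgroup G) : Set G) := by
      intro w hw
      rw [mem_centralizer_iff]
      exact fun v hv => h.comm_p hp hp1 hv hw
    exact (inf_le_inf le_rfl h1).trans (h.inf_cent hp hp1 hr hr1 hpr).le
  · exact le_inf (h.V_le_p hr hr1) (h.V_le_p hp hp1)

/-! ### elements of order 3 of `C(V)` -/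

theorem y_comm (_ : Mc T V z L) {y : G} (hy : y ∈ centralizer (V : Set G)) {v : G} (hv : v ∈ V) : y * v = v * y :=
  (mem_centralizer_iff.1 hy v hv).symm

theorem conj_mem_W (h : Mc T V z L) {p y w : G} (hp : p ∈ V) (hy : y ∈ centralizer (V : Set G)) (hw : w ∈ ws V p) :
    y * w * y⁻¹ ∈ ws V p := (mem_normalizer_iff.1 (h.cent_le_norm hp hy) w).1 hw

/-- `y` commutes with `w` if it commutes modulo `V` -/
theorem y_comm' (h : Mc T V z L) {y : G} (hy : y ∈ centralizer (V : Set G)) (hy3 : orderOf y = 3) {w : G}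
    (h1 : y * w * y⁻¹ * w⁻¹ ∈ V) : y * w = w * y := by
  have h2 := eq_one_of_three (f := y * w * y⁻¹ * w⁻¹) (w := w) hy3 (h.sq _ h1) (h.y_comm hy h1) (by group)
  calc y * w = (y * w * y⁻¹ * w⁻¹) * (w * y) := by group
    _ = w * y := by rw [h2, one_mul]

/-- `y` is fixed-point-free on `W_p / V` -/
theorem fpf [Finite G] (h : Mc T V z L) {p : G} (hp : p ∈ V) (hp1 : p ≠ 1) {y : G} (hy : y ∈ centralizer (V : Set G))
    (hy3 : orderOf y = 3) {w : G} (hw : w ∈ ws V p) (h1 : y * w * y⁻¹ * w⁻¹ ∈ V) : w ∈ V := by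
  have hyw := h.y_comm' hy hy3 h1
  obtain ⟨C, hC⟩ : ∃ C, C = ws V p ⊓ centralizer ({y} : Set G) := ⟨_, rfl⟩
  have hVC : V ≤ C := by
    rw [hC]
    refine le_inf (h.V_le_p hp hp1) fun v hv => ?_
    rw [mem_centralizer_singleton_iff]
    exact (h.y_comm hy hv).symm
  have hwC : w ∈ C := by
    rw [hC]
    exact mem_inf.2 ⟨hw, mem_centralizer_singleton_iff.2 hyw.symm⟩
  have hCW : C ≤ ws V p := by rw [hC]; exact inf_le_left
  have hd : Nat.card C ∣ 16 := by rw [← h.card_p hp hp1]; exact Subgroup.card_dvd_of_le hCW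
  have hd2 : 4 ∣ Nat.card C := by rw [← h.card_V]; exact Subgroup.card_dvd_of_le hVC
  -- `C ≠ W_p`
  have hne : C ≠ ws V p := by
    intro h2
    apply h.three_p hp hp1 (h.cent_le hp hy) hy3
    rw [mem_centralizer_iff]
    intro v hv
    have h3 : v ∈ C := by rw [h2]; exact hv
    rw [hC] at h3
    exact mem_centralizer_singleton_iff.1 (mem_inf.1 h3).2
  -- `|C| ≠ 8`
  have h8 : Nat.card C ≠ 8 := by
    intro h2
    have h3 : C.relIndex (ws V p) = 2 := by
      have h4 := card_mul_relIndex' hCW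
      rw [h2, h.card_p hp hp1] at h4
      omega
    apply hne
    refine le_antisymm hCW fun v hv => ?_
    by_contra hvC
    have hv' : y * v * y⁻¹ ∉ C := by
      intro h4
      apply hvC
      rw [hC] at h4 ⊢
      refine mem_inf.2 ⟨hv, mem_centralizer_singleton_iff.2 ?_⟩
      have h5 := mem_centralizer_singleton_iff.1 (mem_inf.1 h4).2
      calc v * y = y⁻¹ * ((y * v * y⁻¹) * y) * y := by group
        _ = y⁻¹ * (y * (y * v * y⁻¹)) * y := by rw [h5]
        _ = y * v := by group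
    have h4 := Block.mul_mem_of_relIndex_two h3 (h.conj_mem_W hp hy hv) hv hv' hvC
    have h5 : v⁻¹ = v := inv_eq_of_mul_eq_one_left (h.sq_p hp hp1 v hv)
    have h6 : y * v * y⁻¹ * v ∈ C := h4
    have h7 : (y * v * y⁻¹ * v) * (y * v * y⁻¹ * v) = 1 := h.sq_p hp hp1 _ (hCW h6)
    have h8 : y * (y * v * y⁻¹ * v) = (y * v * y⁻¹ * v) * y := by
      rw [hC] at h6
      exact (mem_centralizer_singleton_iff.1 (mem_inf.1 h6).2).symm
    have h9 := eq_one_of_three (f := y * v * y⁻¹ * v) (w := v) hy3 h7 h8 (by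
      rw [mul_assoc (y * v * y⁻¹), h.sq_p hp hp1 v hv, mul_one])
    apply hvC
    rw [hC]
    refine mem_inf.2 ⟨hv, mem_centralizer_singleton_iff.2 ?_⟩
    have h10 : y * v * y⁻¹ = v⁻¹ := mul_eq_one_iff_eq_inv.1 h9
    rw [h5] at h10
    calc v * y = (y * v * y⁻¹) * y := by rw [h10]
      _ = y * v := by group
  have h16 : Nat.card C ≠ 16 := by
    intro h2
    exact hne (Subgroup.eq_of_le_of_card_ge hCW (by rw [h2, h.card_p hp hp1]))
  have h4 : Nat.card C = 4 := by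
    have h5 : Nat.card C ≤ 16 := Nat.le_of_dvd (by norm_num) hd
    obtain ⟨k, hk⟩ := hd2
    rw [hk] at hd h5 h8 h16 ⊢
    have h6 : k ≤ 4 := by omega
    interval_cases k
    · omega
    · omega
    · omega
    · norm_num at hd
    · omega
  have h5 : V = C := Subgroup.eq_of_le_of_card_ge hVC (by rw [h4, h.card_V])
  rw [h5]; exact hwC

/-- `y` is irreducible on `W_p / V` -/
theorem irr [Finite G] (h : Mc T V z L) {p : G} (hp : p ∈ V) (hp1 : p ≠ 1) {y : G} (hy : y ∈ centralizer (V : Set G))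
    (hy3 : orderOf y = 3) {U : Subgroup G} (hVU : V ≤ U) (hU : U ≤ ws V p) (hyU : ∀ u ∈ U, y * u * y⁻¹ ∈ U) :
    U = V ∨ U = ws V p := by
  have hd : Nat.card U ∣ 16 := by rw [← h.card_p hp hp1]; exact Subgroup.card_dvd_of_le hU
  have hd2 : 4 ∣ Nat.card U := by rw [← h.card_V]; exact Subgroup.card_dvd_of_le hVU
  have h5 : Nat.card U ≤ 16 := Nat.le_of_dvd (by norm_num) hd
  obtain ⟨k, hk⟩ := hd2
  have h6 : k ≤ 4 := by omega
  interval_cases k
  · have := Nat.card_pos (α := U); omega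
  · left
    exact (Subgroup.eq_of_le_of_card_ge hVU (by rw [hk, h.card_V])).symm
  · -- `|U| = 8`
    exfalso
    have h3 : V.relIndex U = 2 := by
      have h4 := card_mul_relIndex' hVU
      rw [hk, h.card_V] at h4
      omega
    obtain ⟨u, hu, huV⟩ := Block.exists_not_mem_of_relIndex (K := V) (B := U) (by rw [h3]; norm_num)
    apply huV
    refine h.fpf hp hp1 hy hy3 (hU hu) ?_
    have h7 : y * u * y⁻¹ ∉ V := by
      intro h8
      apply huV
      have h9 := h.y_comm (inv_mem hy) h8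
      have e : u = y⁻¹ * (y * u * y⁻¹) * y := by group
      rw [e, h9]
      simpa using h8
    have h8 := Block.mul_mem_of_relIndex_two h3 (hyU u hu) hu h7 huV
    have h9 : u⁻¹ = u := inv_eq_of_mul_eq_one_left (h.sq_p hp hp1 u (hU hu))
    rw [h9]
    exact h8
  · exfalso; rw [hk] at hd; norm_num at hd
  · right
    exact Subgroup.eq_of_le_of_card_ge hU (by rw [hk, h.card_p hp hp1])

/-! ### (1) the element of order 3 -/

theorem ncard_s [Finite G] (h : Mc T V z L) : ((ws V z : Set G) \ (zpowers z : Set G)).ncard = 14 := by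
  have h1 : ((zpowers z : Subgroup G) : Set G) ⊆ (ws V z : Set G) := by
    have : zpowers z ≤ ws V z := by rw [zpowers_le]; exact h.toGeoC.V_le_ws h.z_mem
    exact this
  rw [Set.ncard_sdiff h1 (Set.toFinite _)]
  have h2 : (ws V z : Set G).ncard = 16 := by
    rw [← h.card]; exact (Nat.card_coe_set_eq _).symm
  have h3 : ((zpowers z : Subgroup G) : Set G).ncard = 2 := by
    rw [← Nat.card_coe_set_eq]
    change Nat.card (zpowers z) = 2
    rw [Nat.card_zpowers, orderOf_eq_prime_iff, pow_two]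
    exact ⟨h.sq z h.z_mem, h.z_ne⟩
  rw [h2, h3]

theorem idx_cv [Finite G] (h : Mc T V z L) :
    (centralizer (V : Set G)).relIndex (centralizer ({z} : Set G)) = 14 := by
  obtain ⟨q, hq, hq1, hqz⟩ := h.toGeoC.exists_y
  have hqn : q ∉ zpowers z := by
    intro h1
    rcases (mem_zpowers_iff_of_mul_self (h.sq z h.z_mem)).1 h1 with h2 | h2
    · exact hq1 h2
    · exact hqz h2
  rw [← h.ncard_s]
  refine BlkFam.relIndex_eq_ncard (v := q) (fun g => ?_) (fun w => ?_)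
  · constructor
    · intro hg
      refine ⟨h.cent_le h.z_mem hg, ?_⟩
      rw [h.y_comm hg hq]; group
    · rintro ⟨hg, hgq⟩
      rw [mem_centralizer_iff]
      intro v hv
      have hgz := h.toGeoC.z_comm hg
      have hgq' : g * q = q * g := by
        calc g * q = (g * q * g⁻¹) * g := by group
          _ = q * g := by rw [hgq]
      rcases h.toGeoC.four h.z_mem hq h.z_ne hq1 (Ne.symm hqz) hv with h2 | h2 | h2 | h2
      · rw [h2]; simp
      · rw [h2]; exact hgz.symm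
      · rw [h2]; exact hgq'.symm
      · rw [h2]
        calc z * q * g = z * (g * q) := by rw [hgq']; group
          _ = (g * z) * q := by rw [hgz]; group
          _ = g * (z * q) := by group
  · constructor
    · rintro ⟨hw, hw2⟩
      exact h.tr q (h.toGeoC.V_le_ws hq) w hw hqn hw2
    · rintro ⟨g, hg, rfl⟩
      refine ⟨(mem_normalizer_iff.1 (centralizer_le_normalizer_ws V z hg) q).1 (h.toGeoC.V_le_ws hq), ?_⟩
      intro h1
      apply hqn
      have h2 := h.toGeoC.z_comm hg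
      rw [← normalizer_zpowers (h.sq z h.z_mem) h.z_ne] at hg
      exact (mem_normalizer_iff.1 hg q).2 h1

theorem idx_kv [Finite G] (h : Mc T V z L) :
    (centralizer ((ws V z : Subgroup G) : Set G)).relIndex (centralizer (V : Set G)) = 12 := by
  have h1 : centralizer ((ws V z : Subgroup G) : Set G) ≤ centralizer (V : Set G) :=
    centralizer_le h.toGeoC.V_le_ws
  have h2 := relIndex_mul_relIndex _ _ _ h1 (h.cent_le h.z_mem)
  rw [h.idx_cv, h.idx] at h2
  omega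

theorem three_dvd [Finite G] (h : Mc T V z L) : 3 ∣ Nat.card (centralizer (V : Set G)) := by
  have h1 : centralizer ((ws V z : Subgroup G) : Set G) ≤ centralizer (V : Set G) :=
    centralizer_le h.toGeoC.V_le_ws
  have h2 := card_mul_relIndex' h1
  rw [h.idx_kv] at h2
  rw [← h2]
  exact Dvd.dvd.mul_left (by norm_num) _

theorem exists_y [Finite G] (h : Mc T V z L) : ∃ y ∈ centralizer (V : Set G), orderOf y = 3 ∧ y ∈ L := by
  have : Fact (Nat.Prime 3) := ⟨Nat.prime_three⟩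
  obtain ⟨y, hy⟩ := exists_prime_orderOf_dvd_card' 3 h.three_dvd
  have h1 : orderOf (y : G) = 3 := by rw [Subgroup.orderOf_coe, hy]
  exact ⟨y, y.2, h1, UniStruct.mem_of_normal h.cyc h.L_le h.L_nor Nat.prime_three (by norm_num) h.star.three
    (h.cent_le h.z_mem y.2) h1⟩

/-! ### (2) `[L, Q] ≤ W` -/

/-- a perfect (`IsStar`) group fixing `z` and normalising `V` centralises `V` -/
theorem star_cent [Finite G] (h : Mc T V z L) (hL : L ≤ normalizer (V : Set G)) : False := by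
  apply h.L_mv
  rw [← h.star.perf, commutator_le]
  intro a ha b hb
  rw [mem_centralizer_iff]
  intro v hv
  have haz := h.toGeoC.z_comm (h.L_le ha)
  have hbz := h.toGeoC.z_comm (h.L_le hb)
  have haz' : a * z * a⁻¹ = z := by rw [haz]; group
  have hbz' : b * z * b⁻¹ = z := by rw [hbz]; group
  have key : ∀ x ∈ V, (a * b) * x * (a * b)⁻¹ = (b * a) * x * (b * a)⁻¹ := by
    intro x hx
    have h1 := h.toGeoC.conj_cases h.z_mem hx h.z_ne haz (hL ha)
    have h2 := h.toGeoC.conj_cases h.z_mem hx h.z_ne hbz (hL hb)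
    have e1 : (a * b) * x * (a * b)⁻¹ = a * (b * x * b⁻¹) * a⁻¹ := by group
    have e2 : (b * a) * x * (b * a)⁻¹ = b * (a * x * a⁻¹) * b⁻¹ := by group
    have e3 : a * (z * x) * a⁻¹ = (a * z * a⁻¹) * (a * x * a⁻¹) := by group
    have e4 : b * (z * x) * b⁻¹ = (b * z * b⁻¹) * (b * x * b⁻¹) := by group
    rw [e1, e2]
    rcases h1 with h1 | h1 <;> rcases h2 with h2 | h2
    · rw [h2, h1, h2]
    · rw [h2, h1, e3, h1, haz', h2]
    · rw [h2, h1, e4, h2, hbz']
    · rw [h2, h1, e3, e4, h1, h2, haz', hbz']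
  have hba : (b * a)⁻¹ * v * (b * a) ∈ V :=
    (mem_normalizer_iff''.1 (mul_mem (hL hb) (hL ha)) v).1 hv
  have h3 := key _ hba
  have e : ⁅a, b⁆ = (a * b) * (b * a)⁻¹ := by rw [commutatorElement_def]; group
  rw [e]
  calc v * (a * b * (b * a)⁻¹) = ((b * a) * ((b * a)⁻¹ * v * (b * a)) * (b * a)⁻¹) * (a * b * (b * a)⁻¹) := by group
    _ = ((a * b) * ((b * a)⁻¹ * v * (b * a)) * (a * b)⁻¹) * (a * b * (b * a)⁻¹) := by rw [h3]
    _ = a * b * (b * a)⁻¹ * v := by group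

/-- `O₂(C(z))` centralises `W` -/
theorem Q_le (h : Mc T V z L) : o2 (centralizer ({z} : Set G)) ≤ centralizer ((ws V z : Subgroup G) : Set G) :=
  h.simp _ (Block.o2_le _) (Block.le_normalizer_o2 _) (Block.o2_isPGroup _)

theorem Q_le' [Finite G] (h : Mc T V z L) : o2 (centralizer ({z} : Set G)) ≤ centralizer (V : Set G) :=
  h.Q_le.trans (centralizer_le h.toGeoC.V_le_ws)

/-- `C(V)` fixes `V` pointwise -/
theorem conj_V (h : Mc T V z L) {g v : G} (hg : g ∈ centralizer (V : Set G)) (hv : v ∈ V) : g * v * g⁻¹ = v := by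
  rw [h.y_comm hg hv]; group

/-- `[W_q, Q] ≤ V` -/
theorem comm_Q [Finite G] (h : Mc T V z L) {q : G} (hq : q ∈ V) (hq1 : q ≠ 1) {a x : G} (ha : a ∈ ws V q)
    (hx : x ∈ o2 (centralizer ({z} : Set G))) : x * a * x⁻¹ * a⁻¹ ∈ V := by
  obtain ⟨y, hy, hy3, -⟩ := h.exists_y
  let U : Subgroup G :=
    { carrier := {a | a ∈ ws V q ∧ ∀ x ∈ o2 (centralizer ({z} : Set G)), x * a * x⁻¹ * a⁻¹ ∈ V}
      mul_mem' := by
        rintro a b ⟨ha, ha2⟩ ⟨hb, hb2⟩
        refine ⟨mul_mem ha hb, fun x hx => ?_⟩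
        have e : x * (a * b) * x⁻¹ * (a * b)⁻¹ = (x * a * x⁻¹ * a⁻¹) * (a * (x * b * x⁻¹ * b⁻¹) * a⁻¹) := by group
        rw [e, h.conj_V (h.le_cent hq hq1 ha) (hb2 x hx)]
        exact mul_mem (ha2 x hx) (hb2 x hx)
      one_mem' := ⟨one_mem _, fun x _ => by simp⟩
      inv_mem' := by
        rintro a ⟨ha, ha2⟩
        refine ⟨inv_mem ha, fun x hx => ?_⟩
        have e : x * a⁻¹ * x⁻¹ * a⁻¹⁻¹ = a⁻¹ * (x * a * x⁻¹ * a⁻¹)⁻¹ * a⁻¹⁻¹ := by group
        rw [e, h.conj_V (inv_mem (h.le_cent hq hq1 ha)) (inv_mem (ha2 x hx))]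
        exact inv_mem (ha2 x hx) }
  have hVU : V ≤ U := by
    intro v hv
    refine ⟨h.V_le_p hq hq1 hv, fun x hx => ?_⟩
    rw [h.conj_V (h.Q_le' hx) hv, mul_inv_cancel]
    exact one_mem _
  have hUW : U ≤ ws V q := fun a ha => ha.1
  have hyU : ∀ u ∈ U, y * u * y⁻¹ ∈ U := by
    rintro u ⟨hu, hu2⟩
    refine ⟨h.conj_mem_W hq hy hu, fun x hx => ?_⟩
    have e : x * (y * u * y⁻¹) * x⁻¹ * (y * u * y⁻¹)⁻¹ =
        y * ((y⁻¹ * x * y) * u * (y⁻¹ * x * y)⁻¹ * u⁻¹) * y⁻¹ := by group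
    have hx' : y⁻¹ * x * y ∈ o2 (centralizer ({z} : Set G)) := by
      have := Block.o2_conj (inv_mem (h.cent_le h.z_mem hy)) hx
      rwa [inv_inv] at this
    rw [e, h.conj_V hy (hu2 _ hx')]
    exact hu2 _ hx'
  rcases h.irr hq hq1 hy hy3 hVU hUW hyU with h1 | h1
  · exfalso
    have hp : Fact (Nat.Prime 2) := ⟨Nat.prime_two⟩
    have hW2 : IsPGroup 2 (ws V q) := by
      intro w
      refine ⟨1, ?_⟩
      rw [pow_one, pow_two]
      exact Subtype.ext (h.sq_p hq hq1 w w.2)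
    have hQn : o2 (centralizer ({z} : Set G)) ≤ normalizer ((ws V q : Subgroup G) : Set G) :=
      h.Q_le'.trans (h.cent_le_norm hq)
    have hY : IsPGroup 2 (o2 (centralizer ({z} : Set G)) ⊔ ws V q : Subgroup G) :=
      (Block.o2_isPGroup _).to_sup_of_normal_right' hW2 hQn
    have hYn : o2 (centralizer ({z} : Set G)) ⊔ ws V q ≤ normalizer ((ws V q : Subgroup G) : Set G) :=
      sup_le hQn le_normalizer
    have hYc : o2 (centralizer ({z} : Set G)) ⊔ ws V q ≤ centralizer (V : Set G) :=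
      sup_le h.Q_le' (h.le_cent hq hq1)
    obtain ⟨n, hn, hnV, hn2⟩ := Cfsg.Agent.GTwoFour.Tools.exists_fixed_mod (M := V) hY le_sup_right
      (fun y hy n hn => (mem_normalizer_iff.1 (hYn hy) n).1 hn)
      (fun y hy m hm => by rw [h.conj_V (hYc hy) hm]; exact hm) (by
        by_contra hcon
        push Not at hcon
        have h2 : Nat.card (ws V q) ≤ Nat.card V := Subgroup.card_le_of_le hcon
        rw [h.card_p hq hq1, h.card_V] at h2
        omega)
    apply hnV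
    rw [← h1]
    exact ⟨hn, fun x hx => hn2 x (mem_sup_left hx)⟩
  · have h2 : a ∈ U := by rw [h1]; exact ha
    exact h2.2 x hx

/-- `[L, Q] ≤ W` -/
theorem comm_L [Finite G] (h : Mc T V z L) {l x : G} (hl : l ∈ L) (hx : x ∈ o2 (centralizer ({z} : Set G))) :
    x * l * x⁻¹ * l⁻¹ ∈ ws V z := by
  have hWn := centralizer_le_normalizer_ws V z
  let D : Subgroup G :=
    { carrier := {g | g ∈ centralizer ({z} : Set G) ∧
        ∀ x ∈ o2 (centralizer ({z} : Set G)), x * g * x⁻¹ * g⁻¹ ∈ ws V z}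
      mul_mem' := by
        rintro a b ⟨ha, ha2⟩ ⟨hb, hb2⟩
        refine ⟨mul_mem ha hb, fun x hx => ?_⟩
        have e : x * (a * b) * x⁻¹ * (a * b)⁻¹ = (x * a * x⁻¹ * a⁻¹) * (a * (x * b * x⁻¹ * b⁻¹) * a⁻¹) := by group
        rw [e]
        exact mul_mem (ha2 x hx) ((mem_normalizer_iff.1 (hWn ha) _).1 (hb2 x hx))
      one_mem' := ⟨one_mem _, fun x _ => by simp⟩
      inv_mem' := by
        rintro a ⟨ha, ha2⟩
        refine ⟨inv_mem ha, fun x hx => ?_⟩
        have e : x * a⁻¹ * x⁻¹ * a⁻¹⁻¹ = a⁻¹ * (x * a * x⁻¹ * a⁻¹)⁻¹ * a := by group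
        rw [e]
        exact (mem_normalizer_iff''.1 (hWn ha) _).1 (inv_mem (ha2 x hx)) }
  have hDC : D ≤ centralizer ({z} : Set G) := fun g hg => hg.1
  have hDn : ∀ g ∈ centralizer ({z} : Set G), ∀ d ∈ D, g * d * g⁻¹ ∈ D := by
    rintro g hg d ⟨hd, hd2⟩
    refine ⟨mul_mem (mul_mem hg hd) (inv_mem hg), fun x hx => ?_⟩
    have e : x * (g * d * g⁻¹) * x⁻¹ * (g * d * g⁻¹)⁻¹ =
        g * ((g⁻¹ * x * g) * d * (g⁻¹ * x * g)⁻¹ * d⁻¹) * g⁻¹ := by group
    have hx' : g⁻¹ * x * g ∈ o2 (centralizer ({z} : Set G)) := by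
      have := Block.o2_conj (inv_mem hg) hx
      rwa [inv_inv] at this
    rw [e]
    exact (mem_normalizer_iff.1 (hWn hg) _).1 (hd2 _ hx')
  have hLn : ∀ g ∈ centralizer ({z} : Set G), ∀ l ∈ L, g * l * g⁻¹ ∈ L :=
    fun g hg l hl => (mem_normalizer_iff.1 (h.L_nor hg) l).1 hl
  have hLDn : ∀ g ∈ centralizer ({z} : Set G), ∀ d ∈ L ⊓ D, g * d * g⁻¹ ∈ L ⊓ D :=
    fun g hg d hd => mem_inf.2 ⟨hLn g hg d (mem_inf.1 hd).1, hDn g hg d (mem_inf.1 hd).2⟩
  rcases h.star.max (L ⊓ D) inf_le_left (le_normalizer_of_forall fun g hg => hLDn g (h.L_le hg)) with h1 | h1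
  · have h2 : l ∈ L ⊓ D := by rw [h1]; exact hl
    exact (mem_inf.1 h2).2.2 x hx
  · exfalso
    have h2 := h.simp (L ⊓ D) (inf_le_left.trans h.L_le) (le_normalizer_of_forall hLDn) h1
    obtain ⟨q, hq, hq1, hqz⟩ := h.toGeoC.exists_y
    -- an element of `W_q` not centralising `W`
    obtain ⟨a, ha, ha2⟩ := SetLike.not_le_iff_exists.1 (h.nc_p hq hq1 h.z_mem h.z_ne hqz)
    have haC : a ∈ centralizer ({z} : Set G) := h.cent_le h.z_mem (h.le_cent hq hq1 ha)
    have haD : a ∈ D := ⟨haC, fun x hx => h.toGeoC.V_le_ws (h.comm_Q hq hq1 ha hx)⟩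
    have h3 : ∀ l ∈ L, a * l * a⁻¹ * l⁻¹ ∈ centralizer ((ws V z : Subgroup G) : Set G) := by
      intro l hl
      apply h2
      refine mem_inf.2 ⟨mul_mem (hLn a haC l hl) (inv_mem hl), ?_⟩
      have e : a * l * a⁻¹ * l⁻¹ = a * (l * a⁻¹ * l⁻¹) := by group
      rw [e]
      exact mul_mem haD (hDn l (h.L_le hl) _ (inv_mem haD))
    have h4 : ws V z ⊓ centralizer ({a} : Set G) = V := by
      have h5 := h.big a haC ha2
      have h6 := card_mul_relIndex' (inf_le_left : ws V z ⊓ centralizer ({a} : Set G) ≤ ws V z)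
      rw [h.card] at h6
      refine (Subgroup.eq_of_le_of_card_ge (le_inf h.toGeoC.V_le_ws fun v hv => ?_) ?_).symm
      · rw [mem_centralizer_singleton_iff]
        exact (h.y_comm (h.le_cent hq hq1 ha) hv).symm
      · rw [h.card_V]
        by_contra h7
        push Not at h7
        nlinarith
    apply h.star_cent
    refine le_normalizer_of_forall fun l hl v hv => ?_
    rw [← h4] at hv ⊢
    obtain ⟨hv1, hv2⟩ := mem_inf.1 hv
    have hlv := (mem_normalizer_iff.1 (hWn (h.L_le hl)) v).1 hv1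
    refine mem_inf.2 ⟨hlv, mem_centralizer_singleton_iff.2 ?_⟩
    have h5 := mem_centralizer_iff.1 (h3 l hl) _ hlv
    have h6 := mem_centralizer_singleton_iff.1 hv2
    -- `a l v l⁻¹ = (a l a⁻¹ l⁻¹) l v a l⁻¹ ...`
    have h7 : a * (l * v * l⁻¹) * a⁻¹ = (a * l * a⁻¹ * l⁻¹) * (l * (a * v * a⁻¹) * l⁻¹) * (a * l * a⁻¹ * l⁻¹)⁻¹ := by
      group
    have h8 : a * v * a⁻¹ = v := by rw [← h6]; group
    rw [h8, ← h5] at h7
    have h9 : a * (l * v * l⁻¹) * a⁻¹ = l * v * l⁻¹ := by rw [h7]; group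
    calc l * v * l⁻¹ * a = a * (l * v * l⁻¹) * a⁻¹ * a := by rw [h9]
      _ = a * (l * v * l⁻¹) := by group

/-! ### (3) `W_p ≤ L` -/

theorem L_conj (h : Mc T V z L) {g l : G} (hg : g ∈ centralizer ({z} : Set G)) (hl : l ∈ L) : g * l * g⁻¹ ∈ L :=
  (mem_normalizer_iff.1 (h.L_nor hg) l).1 hl

/-- `W ≤ L` -/
theorem W_le [Finite G] (h : Mc T V z L) : ws V z ≤ L := by
  have hWn := centralizer_le_normalizer_ws V z
  obtain ⟨a, ha, haz⟩ : ∃ a ∈ ws V z ⊓ L, a ∉ zpowers z := by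
    by_contra hcon
    push Not at hcon
    apply h.star_cent
    refine le_normalizer_of_forall fun l hl v hv => ?_
    have hvW := h.toGeoC.V_le_ws hv
    have hvC : v ∈ centralizer ({z} : Set G) := h.toGeoC.ws_le_centralizer hvW
    have h1 : l * v * l⁻¹ * v⁻¹ ∈ ws V z ⊓ L := by
      refine mem_inf.2 ⟨mul_mem ((mem_normalizer_iff.1 (hWn (h.L_le hl)) v).1 hvW) (inv_mem hvW), ?_⟩
      have e : l * v * l⁻¹ * v⁻¹ = l * (v * l⁻¹ * v⁻¹) := by group
      rw [e]
      exact mul_mem hl (h.L_conj hvC (inv_mem hl))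
    have h2 : l * v * l⁻¹ * v⁻¹ ∈ V := (zpowers_le.2 h.z_mem) (hcon _ h1)
    have e : l * v * l⁻¹ = (l * v * l⁻¹ * v⁻¹) * v := by group
    rw [e]
    exact mul_mem h2 hv
  obtain ⟨haW, haL⟩ := mem_inf.1 ha
  have key : ∀ b ∈ ws V z, b ∉ zpowers z → b ∈ L := by
    intro b hb hbz
    obtain ⟨c, hc, rfl⟩ := h.tr a haW b hb haz hbz
    exact h.L_conj hc haL
  intro b hb
  by_cases hbz : b ∈ zpowers z
  · have h1 : b * a ∉ zpowers z := fun h2 => haz ((mul_mem_cancel_left hbz).1 h2)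
    exact (mul_mem_cancel_right haL).1 (key _ (mul_mem hb haW) h1)
  · exact key b hb hbz

theorem Wp_le [Finite G] (h : Mc T V z L) {q : G} (hq : q ∈ V) (hq1 : q ≠ 1) : ws V q ≤ L := by
  obtain ⟨y, hy, hy3, hyL⟩ := h.exists_y
  have hVU : V ≤ ws V q ⊓ L := le_inf (h.V_le_p hq hq1) (h.toGeoC.V_le_ws.trans h.W_le)
  have hyz := h.cent_le h.z_mem hy
  rcases h.irr hq hq1 hy hy3 hVU inf_le_left (fun u hu => mem_inf.2
    ⟨h.conj_mem_W hq hy (mem_inf.1 hu).1, h.L_conj hyz (mem_inf.1 hu).2⟩) with h1 | h1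
  · exfalso
    have h2 : ws V q ≤ V := by
      intro w hw
      have hwC : w ∈ centralizer ({z} : Set G) := h.cent_le h.z_mem (h.le_cent hq hq1 hw)
      refine h.fpf hq hq1 hy hy3 hw ?_
      rw [← h1]
      refine mem_inf.2 ⟨mul_mem (h.conj_mem_W hq hy hw) (inv_mem hw), ?_⟩
      have e : y * w * y⁻¹ * w⁻¹ = y * (w * y⁻¹ * w⁻¹) := by group
      rw [e]
      exact mul_mem hyL (h.L_conj hwC (inv_mem hyL))
    have h3 : Nat.card (ws V q) ≤ Nat.card V := Subgroup.card_le_of_le h2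
    rw [h.card_p hq hq1, h.card_V] at h3
    omega
  · rw [← h1]; exact inf_le_right

/-! ### (4) `D = W_q W_r` -/

/-- commutators of `W_p` and `W_r` lie in `V` -/
theorem comm_pr [Finite G] (h : Mc T V z L) {p r : G} (hp : p ∈ V) (hp1 : p ≠ 1) (hr : r ∈ V) (hr1 : r ≠ 1)
    {a b : G} (ha : a ∈ ws V p) (hb : b ∈ ws V r) : a * b * a⁻¹ * b⁻¹ ∈ V := by
  by_cases hpr : p = r
  · subst hpr
    have e : a * b * a⁻¹ * b⁻¹ = 1 := by rw [h.comm_p hp hp1 ha hb]; group
    rw [e]; exact one_mem _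
  · rw [← h.inf_eq hr hr1 hp hp1 (Ne.symm hpr)]
    refine mem_inf.2 ⟨?_, ?_⟩
    · have e : a * b * a⁻¹ * b⁻¹ = a * (b * a⁻¹ * b⁻¹) := by group
      rw [e]
      exact mul_mem ha (h.conj_mem_W hp (h.le_cent hr hr1 hb) (inv_mem ha))
    · exact mul_mem (h.conj_mem_W hr (h.le_cent hp hp1 ha) hb) (inv_mem hb)

open scoped Pointwise in
/-- elements of `W_q W_r` -/
theorem mem_D [Finite G] (h : Mc T V z L) {q r : G} (hq : q ∈ V) (hq1 : q ≠ 1) (hr : r ∈ V) {d : G}
    (hd : d ∈ ws V q ⊔ ws V r) : ∃ a ∈ ws V q, ∃ b ∈ ws V r, a * b = d := by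
  have h1 : ((ws V q ⊔ ws V r : Subgroup G) : Set G) = ((ws V q : Set G) * (ws V r : Set G) : Set G) :=
    Subgroup.coe_mul_of_left_le_normalizer_right _ _ ((h.le_cent hq hq1).trans (h.cent_le_norm hr))
  have h2 : d ∈ ((ws V q : Set G) * (ws V r : Set G) : Set G) := by rw [← h1]; exact hd
  exact Set.mem_mul.1 h2

theorem card_D [Finite G] (h : Mc T V z L) {q r : G} (hq : q ∈ V) (hq1 : q ≠ 1) (hr : r ∈ V) (hr1 : r ≠ 1)
    (hqr : q ≠ r) : Nat.card (ws V q ⊔ ws V r : Subgroup G) = 64 := by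
  have h1 := card_sup_mul_card_inf ((h.le_cent hq hq1).trans (h.cent_le_norm hr))
  rw [h.inf_eq hr hr1 hq hq1 (Ne.symm hqr), h.card_p hq hq1, h.card_p hr hr1, h.card_V] at h1
  omega

theorem D_le_cent [Finite G] (h : Mc T V z L) {q r : G} (hq : q ∈ V) (hq1 : q ≠ 1) (hr : r ∈ V) (hr1 : r ≠ 1) :
    ws V q ⊔ ws V r ≤ centralizer (V : Set G) := sup_le (h.le_cent hq hq1) (h.le_cent hr hr1)

/-- squares of elements of `D` lie in `V` -/
theorem sq_D [Finite G] (h : Mc T V z L) {q r : G} (hq : q ∈ V) (hq1 : q ≠ 1) (hr : r ∈ V) (hr1 : r ≠ 1) {d : G}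
    (hd : d ∈ ws V q ⊔ ws V r) : d * d ∈ V := by
  obtain ⟨a, ha, b, hb, rfl⟩ := h.mem_D hq hq1 hr hd
  have h1 := h.comm_pr hq hq1 hr hr1 ha hb
  have e : a * b * (a * b) = (a * b * a⁻¹ * b⁻¹) * (b * (a * a) * b) := by group
  rw [e, h.sq_p hq hq1 a ha, mul_one, h.sq_p hr hr1 b hb, mul_one]
  exact h1

/-- elements of order 3 of `C(V)` fix no element of `D / V` -/
theorem fpf_D [Finite G] (h : Mc T V z L) {q r : G} (hq : q ∈ V) (hq1 : q ≠ 1) (hr : r ∈ V) (hr1 : r ≠ 1)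
    (hqr : q ≠ r) {y : G} (hy : y ∈ centralizer (V : Set G)) (hy3 : orderOf y = 3) {d : G}
    (hd : d ∈ ws V q ⊔ ws V r) (h1 : y * d * y⁻¹ * d⁻¹ ∈ V) : d ∈ V := by
  obtain ⟨a, ha, b, hb, rfl⟩ := h.mem_D hq hq1 hr hd
  have ha' := h.conj_mem_W hq hy ha
  have hb' := h.conj_mem_W hr hy hb
  have h2 : (y * b * y⁻¹) * b⁻¹ ∈ V := by
    rw [← h.inf_eq hr hr1 hq hq1 (Ne.symm hqr)]
    refine mem_inf.2 ⟨?_, mul_mem hb' (inv_mem hb)⟩
    have e : (y * b * y⁻¹) * b⁻¹ = (y * a * y⁻¹)⁻¹ * (y * (a * b) * y⁻¹ * (a * b)⁻¹) * a := by group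
    rw [e]
    exact mul_mem (mul_mem (inv_mem ha') (h.V_le_p hq hq1 h1)) ha
  have hbV : b ∈ V := h.fpf hr hr1 hy hy3 hb h2
  have h3 : y * a * y⁻¹ * a⁻¹ ∈ V := by
    have e : y * a * y⁻¹ * a⁻¹ = (y * (a * b) * y⁻¹ * (a * b)⁻¹) * (a * (b * (y * b * y⁻¹)⁻¹) * a⁻¹) := by group
    rw [e, h.conj_V hy hbV, mul_inv_cancel, mul_one, mul_inv_cancel, mul_one]
    exact h1
  exact mul_mem (h.fpf hq hq1 hy hy3 ha h3) hbV

/-- `D` is normalised by `C(V)` -/
theorem conj_D [Finite G] (h : Mc T V z L) {q r : G} (hq : q ∈ V) (hq1 : q ≠ 1) (hr : r ∈ V) (_ : r ≠ 1)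
    {g d : G} (hg : g ∈ centralizer (V : Set G)) (hd : d ∈ ws V q ⊔ ws V r) : g * d * g⁻¹ ∈ ws V q ⊔ ws V r := by
  obtain ⟨a, ha, b, hb, rfl⟩ := h.mem_D hq hq1 hr hd
  have e : g * (a * b) * g⁻¹ = (g * a * g⁻¹) * (g * b * g⁻¹) := by group
  rw [e]
  exact mul_mem (mem_sup_left (h.conj_mem_W hq hg ha)) (mem_sup_right (h.conj_mem_W hr hg hb))

/-- `C_D(W) ≤ W` -/
theorem E_le [Finite G] (h : Mc T V z L) {q r : G} (hq : q ∈ V) (hq1 : q ≠ 1) (hr : r ∈ V) (hr1 : r ≠ 1)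
    (hqr : q ≠ r) {e : G} (he : e ∈ ws V q ⊔ ws V r)
    (he2 : e ∈ centralizer ((ws V z : Subgroup G) : Set G)) : e ∈ ws V z := by
  obtain ⟨y, hy, hy3, hyL⟩ := h.exists_y
  have hyz := h.cent_le h.z_mem hy
  have hWn := centralizer_le_normalizer_ws V z
  -- `L ⊓ C(W)` is a 2-group
  have hCn : ∀ g ∈ centralizer ({z} : Set G), ∀ l ∈ L ⊓ centralizer ((ws V z : Subgroup G) : Set G),
      g * l * g⁻¹ ∈ L ⊓ centralizer ((ws V z : Subgroup G) : Set G) := by
    intro g hg l hl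
    refine mem_inf.2 ⟨h.L_conj hg (mem_inf.1 hl).1, ?_⟩
    rw [mem_centralizer_iff]
    intro w hw
    have h1 := mem_centralizer_iff.1 (mem_inf.1 hl).2 _ ((mem_normalizer_iff''.1 (hWn hg) w).1 hw)
    calc w * (g * l * g⁻¹) = g * ((g⁻¹ * w * g) * l) * g⁻¹ := by group
      _ = g * (l * (g⁻¹ * w * g)) * g⁻¹ := by rw [h1]
      _ = g * l * g⁻¹ * w := by group
  have h1 : L ⊓ centralizer ((ws V z : Subgroup G) : Set G) ≤ o2 (centralizer ({z} : Set G)) := by
    rcases h.star.max (L ⊓ centralizer ((ws V z : Subgroup G) : Set G)) inf_le_left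
      (le_normalizer_of_forall fun l hl => hCn l (h.L_le hl)) with h2 | h2
    · exact absurd ((inf_eq_left.1 h2).trans (centralizer_le h.toGeoC.V_le_ws)) h.L_mv
    · exact Block.le_o2 h2 (inf_le_left.trans h.L_le) (le_normalizer_of_forall hCn)
  have heL : e ∈ L := (sup_le (h.Wp_le hq hq1) (h.Wp_le hr hr1)) he
  have heQ : e ∈ o2 (centralizer ({z} : Set G)) := h1 (mem_inf.2 ⟨heL, he2⟩)
  have heC : ∀ w ∈ ws V z, w * e = e * w := fun w hw => mem_centralizer_iff.1 he2 w hw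
  obtain ⟨w, hw, hwe⟩ : ∃ w ∈ ws V z, y * e * y⁻¹ = w * e := by
    have h2 := h.comm_L hyL heQ
    refine ⟨(e * y * e⁻¹ * y⁻¹)⁻¹, inv_mem h2, by group⟩
  obtain ⟨w', hw', hwe'⟩ : ∃ w' ∈ ws V z, y * (y * e * y⁻¹) * y⁻¹ = w' * e := by
    refine ⟨(y * w * y⁻¹) * w, mul_mem ((mem_normalizer_iff.1 (hWn hyz) w).1 hw) hw, ?_⟩
    rw [hwe]
    calc y * (w * e) * y⁻¹ = (y * w * y⁻¹) * (y * e * y⁻¹) := by group
      _ = (y * w * y⁻¹) * w * e := by rw [hwe]; group
  have hy3' : y * (y * (y * e * y⁻¹) * y⁻¹) * y⁻¹ = e := by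
    calc y * (y * (y * e * y⁻¹) * y⁻¹) * y⁻¹ = (y * y * y) * e * (y * y * y)⁻¹ := by group
      _ = e := by rw [cube hy3]; group
  have hD1 := h.conj_D hq hq1 hr hr1 hy he
  have hD2 := h.conj_D hq hq1 hr hr1 hy hD1
  obtain ⟨a, hA⟩ : ∃ a, a = y * e * y⁻¹ := ⟨_, rfl⟩
  obtain ⟨b, hB⟩ : ∃ b, b = y * a * y⁻¹ := ⟨_, rfl⟩
  rw [← hA] at hwe hwe' hy3' hD1 hD2
  rw [← hB] at hwe' hy3' hD2
  have hea : e * a = a * e := by rw [hwe, ← mul_assoc, ← heC w hw]
  have heb : e * b = b * e := by rw [hwe', ← mul_assoc, ← heC w' hw']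
  have hn : y * (e * a * b) * y⁻¹ * (e * a * b)⁻¹ ∈ V := by
    have h2 : y * (e * a * b) * y⁻¹ = a * b * e := by
      calc y * (e * a * b) * y⁻¹ = (y * e * y⁻¹) * (y * a * y⁻¹) * (y * b * y⁻¹) := by group
        _ = a * b * e := by rw [hy3', ← hA, ← hB]
    have h3 : a * b * e = e * a * b := by rw [mul_assoc, ← heb, ← mul_assoc, ← hea]
    rw [h2, h3, mul_inv_cancel]
    exact one_mem _
  have hnV := h.fpf_D hq hq1 hr hr1 hqr hy hy3 (mul_mem (mul_mem he hD1) hD2) hn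
  have h2 : e * a * b = (w * w' * (e * e)) * e := by
    rw [hwe, hwe']
    calc e * (w * e) * (w' * e) = (e * w) * (e * w') * e := by group
      _ = (w * e) * (w' * e) * e := by rw [← heC w hw, ← heC w' hw']
      _ = w * (e * w') * e * e := by group
      _ = w * (w' * e) * e * e := by rw [← heC w' hw']
      _ = (w * w' * (e * e)) * e := by group
  rw [h2] at hnV
  have h3 : w * w' * (e * e) ∈ ws V z :=
    mul_mem (mul_mem hw hw') (h.toGeoC.V_le_ws (h.sq_D hq hq1 hr hr1 he))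
  exact (mul_mem_cancel_left h3).1 (h.toGeoC.V_le_ws hnV)

/-- `W ≤ W_q W_r` -/
theorem W_le_D [Finite G] (h : Mc T V z L) {q r : G} (hq : q ∈ V) (hq1 : q ≠ 1) (hr : r ∈ V) (hr1 : r ≠ 1)
    (hqr : q ≠ r) : ws V z ≤ ws V q ⊔ ws V r := by
  obtain ⟨y, hy, hy3, hyL⟩ := h.exists_y
  have hWn := centralizer_le_normalizer_ws V z
  obtain ⟨E, hE⟩ : ∃ E, E = (ws V q ⊔ ws V r) ⊓ centralizer ((ws V z : Subgroup G) : Set G) := ⟨_, rfl⟩
  have hVE : V ≤ E := by
    rw [hE]
    refine le_inf ((h.V_le_p hq hq1).trans le_sup_left) ?_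
    rw [← le_centralizer_iff]
    exact h.le_cent h.z_mem h.z_ne
  have hEW : E ≤ ws V z := by
    rw [hE]
    exact fun e he => h.E_le hq hq1 hr hr1 hqr (mem_inf.1 he).1 (mem_inf.1 he).2
  have hyE : ∀ u ∈ E, y * u * y⁻¹ ∈ E := by
    rw [hE]
    intro u hu
    refine mem_inf.2 ⟨h.conj_D hq hq1 hr hr1 hy (mem_inf.1 hu).1, ?_⟩
    rw [mem_centralizer_iff]
    intro w hw
    have h1 := mem_centralizer_iff.1 (mem_inf.1 hu).2 _
      ((mem_normalizer_iff''.1 (hWn (h.cent_le h.z_mem hy)) w).1 hw)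
    calc w * (y * u * y⁻¹) = y * ((y⁻¹ * w * y) * u) * y⁻¹ := by group
      _ = y * (u * (y⁻¹ * w * y)) * y⁻¹ := by rw [h1]
      _ = y * u * y⁻¹ * w := by group
  rcases h.irr h.z_mem h.z_ne hy hy3 hVE hEW hyE with h1 | h1
  · exfalso
    have h2 : E.relIndex (ws V q ⊔ ws V r) ≤ 12 := by
      rw [hE, inf_relIndex_left, ← h.idx_kv]
      exact relIndex_le_of_le_right (h.D_le_cent hq hq1 hr hr1) (by rw [h.idx_kv]; norm_num)
    have h3 := card_mul_relIndex' (show E ≤ ws V q ⊔ ws V r by rw [hE]; exact inf_le_left)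
    have h4 : Nat.card E = 4 := by rw [h1, h.card_V]
    rw [h.card_D hq hq1 hr hr1 hqr, h4] at h3
    omega
  · rw [← h1, hE]; exact inf_le_left

/-- `N(V)` normalises `D` -/
theorem conj_D' [Finite G] (h : Mc T V z L) {q : G} (hq : q ∈ V) (hq1 : q ≠ 1) (hqz : q ≠ z)
    {g d : G} (hg : g ∈ normalizer (V : Set G)) (hd : d ∈ ws V q ⊔ ws V (z * q)) :
    g * d * g⁻¹ ∈ ws V q ⊔ ws V (z * q) := by
  have hr : z * q ∈ V := mul_mem h.z_mem hq
  have hr1 : z * q ≠ 1 := fun e => hqz (by rw [← h.toGeoC.inv_eq h.z_mem]; exact (inv_eq_of_mul_eq_one_right e).symm)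
  have hqr : q ≠ z * q := fun e => h.z_ne (mul_eq_right.1 e.symm)
  have hle : ∀ p ∈ V, p ≠ 1 → ws V p ≤ ws V q ⊔ ws V (z * q) := by
    intro p hp hp1
    rcases h.toGeoC.four h.z_mem hq h.z_ne hq1 (Ne.symm hqz) hp with h2 | h2 | h2 | h2
    · exact absurd h2 hp1
    · rw [h2]; exact h.W_le_D hq hq1 hr hr1 hqr
    · rw [h2]; exact le_sup_left
    · rw [h2]; exact le_sup_right
  have key : ∀ p ∈ V, p ≠ 1 → ∀ w ∈ ws V p, g * w * g⁻¹ ∈ ws V q ⊔ ws V (z * q) := by
    intro p hp hp1 w hw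
    have h1 : g * w * g⁻¹ ∈ cj g (ws V p) := conj_mem_cj hw
    rw [cj_ws] at h1
    refine hle _ ((mem_normalizer_iff.1 hg p).1 hp) (fun e => hp1 ?_) h1
    have e2 : p = g⁻¹ * (g * p * g⁻¹) * g := by group
    rw [e2, e]; group
  obtain ⟨a, ha, b, hb, rfl⟩ := h.mem_D hq hq1 hr hd
  have e : g * (a * b) * g⁻¹ = (g * a * g⁻¹) * (g * b * g⁻¹) := by group
  rw [e]
  exact mul_mem (key q hq hq1 a ha) (key _ hr hr1 b hb)

/-! ### (5) the element of order 9 of `N(V)` -/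

theorem nine_dvd [Finite G] (h : Mc T V z L) : 9 ∣ Nat.card (normalizer (V : Set G)) := by
  obtain ⟨q, hq, hq1, hqz⟩ := h.toGeoC.exists_y
  have h1 : (centralizer ({z} : Set G) ⊓ normalizer (V : Set G)).relIndex (normalizer (V : Set G)) = 3 := by
    have h2 : (({z, q, z * q} : Set G)).ncard = 3 := by
      rw [Set.ncard_eq_three]
      refine ⟨z, q, z * q, Ne.symm hqz, fun e => hq1 (mul_eq_left.1 e.symm), fun e => h.z_ne (mul_eq_right.1 e.symm), rfl⟩
    rw [← h2]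
    refine BlkFam.relIndex_eq_ncard (v := z) (fun g => ?_) (fun w => ?_)
    · rw [mem_inf, mem_centralizer_singleton_iff]
      constructor
      · rintro ⟨h3, h4⟩
        exact ⟨h4, by rw [h3]; group⟩
      · rintro ⟨h3, h4⟩
        refine ⟨?_, h3⟩
        calc g * z = (g * z * g⁻¹) * g := by group
          _ = z * g := by rw [h4]
    · constructor
      · intro hw
        refine h.trans w ?_ ?_
        · rcases hw with rfl | rfl | rfl
          · exact h.z_mem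
          · exact hq
          · exact mul_mem h.z_mem hq
        · rcases hw with rfl | rfl | rfl
          · exact h.z_ne
          · exact hq1
          · exact fun e => hqz (by
              rw [← h.toGeoC.inv_eq h.z_mem]; exact (inv_eq_of_mul_eq_one_right e).symm)
      · rintro ⟨g, hg, rfl⟩
        have h3 := (mem_normalizer_iff.1 hg z).1 h.z_mem
        rcases h.toGeoC.four h.z_mem hq h.z_ne hq1 (Ne.symm hqz) h3 with h4 | h4 | h4 | h4
        · exfalso
          apply h.z_ne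
          have e2 : z = g⁻¹ * (g * z * g⁻¹) * g := by group
          rw [e2, h4]; group
        · rw [h4]; simp
        · rw [h4]; simp
        · rw [h4]; simp
  have h2 := card_mul_relIndex' (inf_le_right : centralizer ({z} : Set G) ⊓ normalizer (V : Set G) ≤ normalizer (V : Set G))
  have h3 : 3 ∣ Nat.card (centralizer ({z} : Set G) ⊓ normalizer (V : Set G) : Subgroup G) :=
    h.three_dvd.trans (Subgroup.card_dvd_of_le (le_inf (h.cent_le h.z_mem) (centralizer_le_normalizer _)))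
  rw [h1] at h2
  obtain ⟨k, hk⟩ := h3
  rw [← h2, hk]
  exact ⟨k, by ring⟩

theorem false [Finite G] (h : Mc T V z L) : False := by
  obtain ⟨q, hq, hq1, hqz⟩ := h.toGeoC.exists_y
  have hr : z * q ∈ V := mul_mem h.z_mem hq
  have hr1 : z * q ≠ 1 := fun e => hqz (by rw [← h.toGeoC.inv_eq h.z_mem]; exact (inv_eq_of_mul_eq_one_right e).symm)
  have hqr : q ≠ z * q := fun e => h.z_ne (mul_eq_right.1 e.symm)
  -- an element of order 9
  obtain ⟨k, hk, hk9⟩ : ∃ k ∈ normalizer (V : Set G), orderOf k = 9 := by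
    have h3 : Fact (Nat.Prime 3) := ⟨Nat.prime_three⟩
    obtain ⟨P⟩ : Nonempty (Sylow 3 (normalizer (V : Set G))) := inferInstance
    have hP := CompBasic.oddCyc_subgroup h.cyc (normalizer (V : Set G)) 3 P Nat.prime_three (by norm_num)
    have h9 : 9 ∣ Nat.card P := by
      have := P.pow_dvd_card_of_pow_dvd_card (n := 2) (by norm_num; exact h.nine_dvd)
      norm_num at this
      exact this
    obtain ⟨g, hg⟩ := hP.exists_ofOrder_eq_natCard
    obtain ⟨m, hm⟩ := h9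
    refine ⟨((g ^ m : P) : normalizer (V : Set G)), SetLike.coe_mem _, ?_⟩
    rw [Subgroup.orderOf_coe, Subgroup.orderOf_coe, orderOf_pow, hg, hm]
    have hm0 : 0 < m := by
      rcases Nat.eq_zero_or_pos m with h0 | h0
      · rw [h0, mul_zero] at hm
        have := Nat.card_pos (α := P)
        omega
      · exact h0
    rw [Nat.gcd_eq_right (Dvd.intro_left 9 rfl)]
    exact Nat.mul_div_cancel _ hm0
  -- the elements of order 3 of `N(V)` lie in `C(V)`
  have hC3 : ∀ y ∈ normalizer (V : Set G), orderOf y = 3 → y ∈ centralizer (V : Set G) := by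
    intro y hy hy3
    refine UniStruct.mem_of_normal h.cyc (K := centralizer (V : Set G)) (centralizer_le_normalizer _) ?_ Nat.prime_three
      (by norm_num) h.three_dvd hy hy3
    refine le_normalizer_of_forall fun g hg c hc => ?_
    rw [mem_centralizer_iff]
    intro v hv
    have h1 := mem_centralizer_iff.1 hc _ ((mem_normalizer_iff''.1 hg v).1 hv)
    calc v * (g * c * g⁻¹) = g * ((g⁻¹ * v * g) * c) * g⁻¹ := by group
      _ = g * (c * (g⁻¹ * v * g)) * g⁻¹ := by rw [h1]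
      _ = g * c * g⁻¹ * v := by group
  have h1 := Cfsg.Agent.Lib.InvolutionKernel.card_dvd_sub_of_free (E := zpowers k) (X := ws V q ⊔ ws V (z * q)) (V := V)
    ((h.V_le_p hq hq1).trans le_sup_left)
    (fun w hw x hx => h.conj_D' hq hq1 hqz ((zpowers_le.2 hk) hw) hx)
    (fun w hw x hx => (mem_normalizer_iff.1 ((zpowers_le.2 hk) hw) x).1 hx) (by
      intro w hw hw1 x hx hwx
      have hwN : w ∈ normalizer (V : Set G) := (zpowers_le.2 hk) hw
      have hd : orderOf w ∣ 9 := by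
        rw [← hk9]; exact orderOf_dvd_of_mem_zpowers hw
      -- a power of `w` of order 3
      obtain ⟨i, hi⟩ : ∃ i : ℕ, orderOf (w ^ i) = 3 := by
        have h9 : orderOf w = 3 ∨ orderOf w = 9 := by
          have h5 : orderOf w ∈ Nat.divisors 9 := Nat.mem_divisors.2 ⟨hd, by norm_num⟩
          have h6 : Nat.divisors 9 = {1, 3, 9} := by decide
          rw [h6] at h5
          simp only [Finset.mem_insert, Finset.mem_singleton] at h5
          rcases h5 with h5 | h5 | h5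
          · exact absurd (orderOf_eq_one_iff.1 h5) hw1
          · exact Or.inl h5
          · exact Or.inr h5
        rcases h9 with h9 | h9
        · exact ⟨1, by rw [pow_one]; exact h9⟩
        · exact ⟨3, by rw [orderOf_pow, h9]; rfl⟩
      have hyC := hC3 _ (pow_mem hwN i) hi
      refine h.fpf_D hq hq1 hr hr1 hqr hyC hi hx ?_
      have h7 : Commute (w ^ i) x := Commute.pow_left hwx i
      have e : w ^ i * x * (w ^ i)⁻¹ * x⁻¹ = 1 := by rw [h7.eq]; group
      rw [e]; exact one_mem _)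
  rw [Nat.card_zpowers, hk9, h.card_D hq hq1 hr hr1 hqr, h.card_V] at h1
  norm_num at h1

end Mc

end Cfsg.Agent.OddCyclic.EmpLine.BcEnd
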