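import Mathlib
import Cfsg.Agent.OddCyclic.EmpLine.BcE

/-!
# The exits, type (1\3) of `C(z)`: transitivity of `L` on `(Y/⟨z⟩)#`, elements of order 3, `V ≤ Y`
-/

set_option autoImplicit false
set_option linter.unusedSectionVars false

namespace Cfsg.Agent.OddCyclic.EmpLine

open Subgroup Cfsg Cfsg.Agent.ZN Cfsg.Agent.ZN.ChoiceBase Cfsg.Agent.ZN.ChoiceSit
open Cfsg.Agent.MinSimple Cfsg.Agent.MinSimple.EmptyTI Cfsg.Agent.MinSimple.EmptySix
open Cfsg.Agent.MinSimple.Geo (ws lines le_ws ws_le inv_eq_self mem_zpowers_iff_of_mul_self)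
open Cfsg.Agent.OddCyclic.GeoC (GeoC)
open scoped commutatorElement

universe u

variable {G : Type u} [Group G] [Finite G]

/-- counting fixed points of an element of order `p` modulo the centraliser -/
theorem card_modEq {Y : Subgroup G} {c : G} {p : ℕ} (hp : p.Prime) (hc : c ∈ normalizer (Y : Set G))
    (hcp : c ^ p ∈ centralizer (Y : Set G)) :
    Nat.card Y ≡ Nat.card (Y ⊓ centralizer ({c} : Set G) : Subgroup G) [MOD p] := by
  have : Fact p.Prime := ⟨hp⟩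
  let σ : MulAut Y := Y.normalizerMonoidHom ⟨c, hc⟩
  have hσ : ∀ y : Y, ((σ y : Y) : G) = c * y * c⁻¹ := fun y => rfl
  have hσp : σ ^ p = 1 := by
    have h1 : σ ^ p = Y.normalizerMonoidHom (⟨c, hc⟩ ^ p) := (map_pow _ _ _).symm
    rw [h1]
    apply MulEquiv.ext
    intro y
    apply Subtype.ext
    change c ^ p * (y : G) * (c ^ p)⁻¹ = y
    rw [mul_inv_eq_iff_eq_mul]
    exact (mem_centralizer_iff.1 hcp y y.2).symm
  have hK : IsPGroup p (zpowers σ) := by
    rintro ⟨_, n, rfl⟩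
    refine ⟨1, Subtype.ext ?_⟩
    change (σ ^ n) ^ p ^ 1 = 1
    rw [pow_one, ← zpow_natCast, ← zpow_mul, mul_comm, zpow_mul, zpow_natCast, hσp, one_zpow]
  have h1 := hK.card_modEq_card_fixedPoints Y
  have h2 : Nat.card (MulAction.fixedPoints (zpowers σ) Y) =
      Nat.card (Y ⊓ centralizer ({c} : Set G) : Subgroup G) := by
    refine Nat.card_congr ⟨fun y => ⟨(y : Y), (y : Y).2, ?_⟩, fun y => ⟨⟨y, y.2.1⟩, ?_⟩, fun y => rfl, fun y => rfl⟩
    · have h3 : σ (y : Y) = y := y.2 ⟨σ, mem_zpowers σ⟩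
      have h4 := congrArg Subtype.val h3
      rw [hσ, mul_inv_eq_iff_eq_mul] at h4
      exact mem_centralizer_singleton_iff.2 h4.symm
    · rintro ⟨_, n, rfl⟩
      have h3 : σ ⟨y, y.2.1⟩ = ⟨y, y.2.1⟩ := by
        apply Subtype.ext
        rw [hσ, mul_inv_eq_iff_eq_mul]
        exact (mem_centralizer_singleton_iff.1 y.2.2).symm
      have h4 : σ ∈ MulAction.stabilizer (MulAut Y) (⟨y, y.2.1⟩ : Y) := h3
      exact zpow_mem h4 n
  rw [h2] at h1
  exact h1

namespace Md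

variable {S V : Subgroup G} {z : G} {L Y : Subgroup G}

/-- an element of order 7 modulo `C_L(Y)` -/
theorem exists_seven (m : Md S V z L Y) : ∃ l ∈ L, l ^ 7 ∈ centralizer (Y : Set G) ∧ l ∉ centralizer (Y : Set G) := by
  obtain ⟨Q, iQ, f, hf, hfk, hs, hc⟩ := m.q168
  have hfQ : Finite Q := Nat.finite_of_card_ne_zero (by rw [hc]; norm_num)
  have : Fact (Nat.Prime 7) := ⟨by norm_num⟩
  obtain ⟨q, hq⟩ := exists_prime_orderOf_dvd_card' (G := Q) 7 (by rw [hc]; norm_num)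
  obtain ⟨l, rfl⟩ := hf q
  refine ⟨l, l.2, ?_, ?_⟩
  · have h1 : l ^ 7 ∈ f.ker := by
      rw [MonoidHom.mem_ker, map_pow, ← hq]
      exact pow_orderOf_eq_one _
    rw [hfk] at h1
    exact h1
  · intro h1
    have h2 : l ∈ f.ker := by rw [hfk]; exact h1
    rw [MonoidHom.mem_ker] at h2
    rw [h2, orderOf_one] at hq
    omega

/-- `C_Y(c) = ⟨z⟩` for `c` of order 7 modulo `C(Y)` -/
theorem fix_seven (m : Md S V z L Y) {c : G} (hc : c ∈ L) (hc7 : c ^ 7 ∈ centralizer (Y : Set G))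
    (hcY : c ∉ centralizer (Y : Set G)) {y : G} (hy : y ∈ Y) (h : c * y = y * c) : y = 1 ∨ y = z := by
  have h1 := card_modEq (by norm_num : Nat.Prime 7) (m.Y_nor (m.L_le hc)) hc7
  rw [m.card] at h1
  set C : Subgroup G := Y ⊓ centralizer ({c} : Set G) with hC
  have h2 : Nat.card C ∣ 16 := by rw [← m.card]; exact Subgroup.card_dvd_of_le inf_le_left
  have h3 : Nat.card C ≤ 16 := Nat.le_of_dvd (by norm_num) h2
  have h4 : Nat.card C ≠ 16 := by
    intro h0
    have h5 : C = Y := Subgroup.eq_of_le_of_card_ge inf_le_left (by rw [h0, m.card])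
    apply hcY
    rw [mem_centralizer_iff]
    intro u hu
    rw [← h5] at hu
    exact mem_centralizer_singleton_iff.1 hu.2
  have h5 : Nat.card C = 2 := by
    generalize Nat.card C = n at *
    unfold Nat.ModEq at h1
    interval_cases n <;> omega
  have hz : z ∈ C := ⟨m.z_Y, mem_centralizer_singleton_iff.2 (mem_centralizer_singleton_iff.1 (m.L_le hc)).symm⟩
  have hyC : y ∈ C := ⟨hy, mem_centralizer_singleton_iff.2 h.symm⟩
  have h6 : zpowers z = C := by
    refine Subgroup.eq_of_le_of_card_ge (by rwa [zpowers_le]) ?_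
    rw [h5, Nat.card_zpowers, orderOf_eq_prime (by rw [pow_two]; exact m.zz) m.z_ne]
  rw [← h6] at hyC
  exact (mem_zpowers_iff_of_mul_self m.zz).1 hyC

/-- `L` is transitive on the cosets `y⟨z⟩ ≠ ⟨z⟩` of `Y` -/
theorem trans_Y (m : Md S V z L Y) {y y' : G} (hy : y ∈ Y) (hy1 : y ≠ 1) (hyz : y ≠ z) (hy' : y' ∈ Y) (hy1' : y' ≠ 1)
    (hyz' : y' ≠ z) : ∃ l ∈ L, l * y * l⁻¹ = y' ∨ l * y * l⁻¹ = z * y' := by
  obtain ⟨c, hc, hc7, hcY⟩ := m.exists_seven
  have hcz : c * z = z * c := mem_centralizer_singleton_iff.1 (m.L_le hc)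
  have hzz := m.zz
  have hczk : ∀ k : ℤ, c ^ k * z * (c ^ k)⁻¹ = z := by
    intro k
    have h1 : Commute (c ^ k) z := (show Commute c z from hcz).zpow_left k
    rw [h1.eq, mul_inv_cancel_right]
  -- an element of `Y ∖ ⟨z⟩` fixed by `c ^ k`
  have key : ∀ k : ℤ, ∀ u ∈ Y, u ≠ 1 → u ≠ z → c ^ k * u * (c ^ k)⁻¹ = u → (7 : ℤ) ∣ k := by
    intro k u hu hu1 huz hk
    by_contra hnd
    have hcop : IsCoprime (7 : ℤ) k := by
      rw [(Int.prime_iff_natAbs_prime.2 (by norm_num : Nat.Prime (Int.natAbs 7))).coprime_iff_not_dvd]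
      exact hnd
    obtain ⟨a, b, hab⟩ := hcop
    have h7 : Commute (c ^ (7 : ℤ)) u := by
      have := mem_centralizer_iff.1 hc7 u hu
      rw [show (7 : ℤ) = ((7 : ℕ) : ℤ) from rfl, zpow_natCast]
      exact this.symm
    have hk' : Commute (c ^ k) u := by
      rw [mul_inv_eq_iff_eq_mul] at hk
      exact hk
    have h8 : Commute c u := by
      have e : c = (c ^ (7 : ℤ)) ^ a * (c ^ k) ^ b := by
        rw [← zpow_mul, ← zpow_mul, ← zpow_add, mul_comm (7 : ℤ) a, mul_comm k b, hab, zpow_one]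
      rw [e]
      exact (h7.zpow_left a).mul_left (hk'.zpow_left b)
    rcases m.fix_seven hc hc7 hcY hu h8.eq with h9 | h9
    · exact hu1 h9
    · exact huz h9
  let f : Fin 7 × Bool → G := fun i => (if i.2 then z else 1) * (c ^ ((i.1 : ℕ) : ℤ) * y * (c ^ ((i.1 : ℕ) : ℤ))⁻¹)
  have hYk : ∀ k : ℤ, ∀ u ∈ Y, c ^ k * u * (c ^ k)⁻¹ ∈ Y := fun k u hu =>
    m.conjY (zpow_mem (m.L_le hc) k) hu
  have hne : ∀ k : ℤ, c ^ k * y * (c ^ k)⁻¹ ≠ 1 ∧ c ^ k * y * (c ^ k)⁻¹ ≠ z := by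
    intro k
    constructor
    · intro h0
      apply hy1
      have : y = (c ^ k)⁻¹ * (c ^ k * y * (c ^ k)⁻¹) * c ^ k := by group
      rw [this, h0]; group
    · intro h0
      apply hyz
      have : y = (c ^ k)⁻¹ * (c ^ k * y * (c ^ k)⁻¹) * c ^ k := by group
      rw [this, h0]
      have h1 := hczk k
      rw [mul_inv_eq_iff_eq_mul] at h1
      rw [mul_assoc, ← h1, inv_mul_cancel_left]
  have hsame : ∀ i j : Fin 7, c ^ ((i : ℕ) : ℤ) * y * (c ^ ((i : ℕ) : ℤ))⁻¹ = c ^ ((j : ℕ) : ℤ) * y * (c ^ ((j : ℕ) : ℤ))⁻¹ →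
      i = j := by
    intro i j hij
    have h1 := key (((i : ℕ) : ℤ) - ((j : ℕ) : ℤ)) y hy hy1 hyz (by
      have e : c ^ (((i : ℕ) : ℤ) - ((j : ℕ) : ℤ)) * y * (c ^ (((i : ℕ) : ℤ) - ((j : ℕ) : ℤ)))⁻¹ =
          (c ^ ((j : ℕ) : ℤ))⁻¹ * (c ^ ((i : ℕ) : ℤ) * y * (c ^ ((i : ℕ) : ℤ))⁻¹) * c ^ ((j : ℕ) : ℤ) := by
        rw [sub_eq_neg_add, zpow_add, zpow_neg]; group
      rw [e, hij]; group)
    have h2 := i.2
    have h3 := j.2
    apply Fin.ext
    omega
  have hdiff : ∀ i j : Fin 7, z * (c ^ ((i : ℕ) : ℤ) * y * (c ^ ((i : ℕ) : ℤ))⁻¹) ≠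
      c ^ ((j : ℕ) : ℤ) * y * (c ^ ((j : ℕ) : ℤ))⁻¹ := by
    intro i j hij
    set k : ℤ := ((j : ℕ) : ℤ) - ((i : ℕ) : ℤ) with hk
    have h1 : c ^ k * y * (c ^ k)⁻¹ = z * y := by
      have e : c ^ k * y * (c ^ k)⁻¹ =
          (c ^ ((i : ℕ) : ℤ))⁻¹ * (c ^ ((j : ℕ) : ℤ) * y * (c ^ ((j : ℕ) : ℤ))⁻¹) * c ^ ((i : ℕ) : ℤ) := by
        rw [hk, sub_eq_neg_add, zpow_add, zpow_neg]; group
      rw [e, ← hij]
      have h2 := hczk (-((i : ℕ) : ℤ))
      calc (c ^ ((i : ℕ) : ℤ))⁻¹ * (z * (c ^ ((i : ℕ) : ℤ) * y * (c ^ ((i : ℕ) : ℤ))⁻¹)) * c ^ ((i : ℕ) : ℤ)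
          = (c ^ (-((i : ℕ) : ℤ)) * z * (c ^ (-((i : ℕ) : ℤ)))⁻¹) * y := by
            rw [zpow_neg]; group
        _ = z * y := by rw [h2]
    have h2 : c ^ (k + k) * y * (c ^ (k + k))⁻¹ = y := by
      calc c ^ (k + k) * y * (c ^ (k + k))⁻¹ = c ^ k * (c ^ k * y * (c ^ k)⁻¹) * (c ^ k)⁻¹ := by
            rw [zpow_add]; group
        _ = c ^ k * (z * y) * (c ^ k)⁻¹ := by rw [h1]
        _ = (c ^ k * z * (c ^ k)⁻¹) * (c ^ k * y * (c ^ k)⁻¹) := by group
        _ = y := by rw [hczk, h1, ← mul_assoc, hzz, one_mul]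
    have h3 := key _ y hy hy1 hyz h2
    have h4 := i.2
    have h5 := j.2
    have h6 : k = 0 := by omega
    rw [h6] at h1
    apply m.z_ne
    have : y = z * y := by simpa using h1
    exact (mul_eq_right.1 this.symm)
  have hinj : Function.Injective f := by
    rintro ⟨i, b⟩ ⟨j, b'⟩ hij
    change (if b then z else 1) * (c ^ ((i : ℕ) : ℤ) * y * (c ^ ((i : ℕ) : ℤ))⁻¹) =
      (if b' then z else 1) * (c ^ ((j : ℕ) : ℤ) * y * (c ^ ((j : ℕ) : ℤ))⁻¹) at hij
    cases b <;> cases b'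
    · simp only [Bool.false_eq_true, if_false, one_mul] at hij
      rw [hsame i j hij]
    · simp only [Bool.false_eq_true, if_false, if_true, one_mul] at hij
      exact absurd hij.symm (hdiff j i)
    · simp only [Bool.false_eq_true, if_false, if_true, one_mul] at hij
      exact absurd hij (hdiff i j)
    · simp only [if_true] at hij
      rw [hsame i j (mul_left_cancel hij)]
  have hsub : Set.range f ⊆ (Y : Set G) \ {1, z} := by
    rintro _ ⟨⟨i, b⟩, rfl⟩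
    have h1 := hne ((i : ℕ) : ℤ)
    have h2 := hYk ((i : ℕ) : ℤ) y hy
    change (if b then z else 1) * (c ^ ((i : ℕ) : ℤ) * y * (c ^ ((i : ℕ) : ℤ))⁻¹) ∈ _
    cases b
    · simp only [Bool.false_eq_true, if_false, one_mul]
      exact ⟨h2, by rintro (h0 | h0); exacts [h1.1 h0, h1.2 h0]⟩
    · simp only [if_true]
      refine ⟨mul_mem m.z_Y h2, ?_⟩
      rintro (h0 | h0)
      · apply h1.2
        rw [← inv_eq_self hzz]
        exact eq_inv_of_mul_eq_one_right h0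
      · apply h1.1
        exact mul_eq_left.1 h0
  have hc1 : (Set.range f).ncard = 14 := by
    rw [← Set.image_univ, Set.ncard_image_of_injective _ hinj, Set.ncard_univ]
    simp
  have hc2 : ((Y : Set G) \ {1, z}).ncard = 14 := by
    rw [Set.ncard_diff (by
      rintro x (rfl | rfl)
      · exact one_mem Y
      · exact m.z_Y), Set.ncard_pair (Ne.symm m.z_ne)]
    have : (Y : Set G).ncard = 16 := m.card
    rw [this]
  have heq := Set.eq_of_subset_of_ncard_le hsub (by rw [hc1, hc2]) (Set.toFinite _)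
  have h9 : y' ∈ Set.range f := by
    rw [heq]
    exact ⟨hy', by rintro (h0 | h0); exacts [hy1' h0, hyz' h0]⟩
  obtain ⟨⟨i, b⟩, hib⟩ := h9
  change (if b then z else 1) * (c ^ ((i : ℕ) : ℤ) * y * (c ^ ((i : ℕ) : ℤ))⁻¹) = y' at hib
  refine ⟨c ^ ((i : ℕ) : ℤ), zpow_mem hc _, ?_⟩
  cases b
  · left
    simpa using hib
  · right
    rw [← hib]
    simp only [if_true]
    rw [← mul_assoc, hzz, one_mul]

/-- `S` fixes a coset `u⟨z⟩ ≠ ⟨z⟩` -/
theorem exists_fix (m : Md S V z L Y) : ∃ u ∈ Y, u ≠ 1 ∧ u ≠ z ∧ ∀ s ∈ S, s * u * s⁻¹ = u ∨ s * u * s⁻¹ = z * u := by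
  have hz : z ∈ S := m.V_le m.z_mem
  let Z₀ : Subgroup S := zpowers (⟨z, hz⟩ : S)
  have hzc : ∀ s : S, s * ⟨z, hz⟩ = ⟨z, hz⟩ * s := fun s =>
    Subtype.ext (mem_centralizer_singleton_iff.1 (m.T_le s.2))
  have hzz' : (⟨z, hz⟩ : S) * ⟨z, hz⟩ = 1 := Subtype.ext m.zz
  have hmem : ∀ s : S, s ∈ Z₀ ↔ s = 1 ∨ s = ⟨z, hz⟩ := fun s => mem_zpowers_iff_of_mul_self hzz'
  have hn : Z₀.Normal := by
    refine ⟨fun n hn g => ?_⟩
    rw [hmem] at hn ⊢
    rcases hn with rfl | rfl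
    · left; group
    · right; rw [hzc, mul_inv_cancel_right]
  let Q := S ⧸ Z₀
  have hQ2 : IsPGroup 2 (⊤ : Subgroup Q) := by
    have h1 : IsPGroup 2 Q := m.two.to_quotient Z₀
    exact h1.to_subgroup ⊤
  let π : S →* Q := QuotientGroup.mk' Z₀
  have hπ : Function.Surjective π := QuotientGroup.mk'_surjective _
  have hk : ∀ s : S, π s = 1 ↔ s ∈ Z₀ := fun s => by
    rw [← MonoidHom.mem_ker, QuotientGroup.ker_mk']
  let R : Subgroup Q := (Y.subgroupOf S).map π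
  have hRn : (⊤ : Subgroup Q) ≤ normalizer (R : Set Q) := by
    have h1 : R.Normal := by
      refine Subgroup.Normal.map ?_ _ hπ
      refine ⟨fun n hn g => ?_⟩
      rw [mem_subgroupOf] at hn ⊢
      exact m.conjY (m.T_le g.2) hn
    rw [normalizer_eq_top]
  have hR1 : R ≠ ⊥ := by
    intro h0
    have h1 : (Y : Set G) ⊆ {1, z} := by
      intro y hy
      have h2 : π ⟨y, m.Y_S hy⟩ ∈ R := ⟨_, mem_subgroupOf.2 hy, rfl⟩
      rw [h0, mem_bot, hk, hmem] at h2
      rcases h2 with h2 | h2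
      · left; exact congrArg Subtype.val h2
      · right; exact congrArg Subtype.val h2
    have h2 := Set.ncard_le_ncard h1 (Set.toFinite _)
    have h3 : (Y : Set G).ncard = 16 := m.card
    rw [h3, Set.ncard_pair (Ne.symm m.z_ne)] at h2
    omega
  obtain ⟨q, hqR, hqz, hq1⟩ := CaseD8.exists_mem_zc hQ2 le_top hRn hR1
  obtain ⟨u, hu, rfl⟩ := hqR
  have hu' : u ∉ Z₀ := fun h0 => hq1 ((hk u).2 h0)
  rw [hmem] at hu'
  push Not at hu'
  refine ⟨u, mem_subgroupOf.1 hu, fun h0 => hu'.1 (Subtype.ext h0), fun h0 => hu'.2 (Subtype.ext h0), fun s hs => ?_⟩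
  have h1 := (ChoiceBase.mem_zc.1 hqz).2.2 (π ⟨s, hs⟩) (mem_top _)
  have h2 : π (⟨s, hs⟩ * u * ⟨s, hs⟩⁻¹ * u⁻¹) = 1 := by
    rw [map_mul, map_mul, map_mul, h1, map_inv, map_inv]
    group
  rw [hk, hmem] at h2
  rcases h2 with h2 | h2
  · left
    have h3 : s * (u : G) * s⁻¹ * (u : G)⁻¹ = 1 := congrArg Subtype.val h2
    exact mul_inv_eq_one.1 h3
  · right
    have h3 : s * (u : G) * s⁻¹ * (u : G)⁻¹ = z := congrArg Subtype.val h2
    rwa [mul_inv_eq_iff_eq_mul] at h3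

/-- `V ≤ Y` if `Y` contains another conjugate of `z` -/
theorem V_le_Y (m : Md S V z L Y) {q : G} (hq : q ∈ Y) (hqc : ∃ g, q = g * z * g⁻¹) (hqz : q ≠ z) : V ≤ Y := by
  obtain ⟨u, hu, hu1, huz, hus⟩ := m.exists_fix
  have hzz := m.zz
  have hq1 : q ≠ 1 := by
    rintro rfl
    obtain ⟨g, hg⟩ := hqc
    apply m.z_ne
    have : z = g⁻¹ * (g * z * g⁻¹) * g := by group
    rw [this, ← hg]; group
  obtain ⟨l, hl, hlu⟩ := m.trans_Y hq hq1 hqz hu hu1 huz
  set v := l * q * l⁻¹ with hv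
  have hvY : v ∈ Y := m.conjY (m.L_le hl) hq
  have hlz : l * z = z * l := mem_centralizer_singleton_iff.1 (m.L_le hl)
  have hvz : v ≠ z := by
    intro h0
    apply hqz
    have : q = l⁻¹ * v * l := by rw [hv]; group
    rw [this, h0, mul_assoc, ← hlz, inv_mul_cancel_left]
  have hvV : v ∈ V := by
    refine m.toPre.mem_V ?_ hvz ?_ ?_
    · obtain ⟨g, rfl⟩ := hqc
      exact ⟨l * g, by rw [hv]; group⟩
    · exact m.Y_comm _ hvY _ m.z_Y
    · intro t ht
      have htz : t * z = z * t := mem_centralizer_singleton_iff.1 (m.T_le ht)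
      rcases hlu with h1 | h1
      · rw [h1]; exact hus t ht
      · rw [h1]
        have e : t * (z * u) * t⁻¹ = z * (t * u * t⁻¹) := by
          calc t * (z * u) * t⁻¹ = (t * z) * u * t⁻¹ := by group
            _ = z * (t * u * t⁻¹) := by rw [htz]; group
        rw [e]
        rcases hus t ht with h2 | h2
        · left; rw [h2]
        · right; rw [h2]
  have hv1 : v ≠ 1 := by
    intro h0
    apply hq1
    have : q = l⁻¹ * v * l := by rw [hv]; group
    rw [this, h0]; group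
  intro w hw
  rcases m.geo.four m.z_mem hvV m.z_ne hv1 (Ne.symm hvz) hw with rfl | rfl | rfl | rfl
  · exact one_mem _
  · exact m.z_Y
  · exact hvY
  · exact mul_mem m.z_Y hvY

/-- elements of order 3 of `C(z)` are in `L` and move `Y` -/
theorem three_Y (m : Md S V z L Y) {x : G} (hx : x ∈ centralizer ({z} : Set G)) (h3 : orderOf x = 3) :
    x ∉ centralizer (Y : Set G) := by
  intro h0
  have h1 : L ⊓ centralizer (Y : Set G) ≠ L := by
    intro h2
    exact m.L_Y (by rw [← h2]; exact inf_le_right)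
  have h2 := m.isPGroup_of inf_le_left (m.L_le.trans (m.inf_norm m.Y_nor)) h1
  obtain ⟨k, hk⟩ := h2 ⟨x, m.mem_of_three hx h3, h0⟩
  have hk' : x ^ 2 ^ k = 1 := congrArg Subtype.val hk
  have h4 := orderOf_dvd_of_pow_eq_one hk'
  rw [h3] at h4
  have := Nat.Prime.dvd_of_dvd_pow Nat.prime_three h4
  omega

/-- `|C_Y(x)| = 4` -/
theorem card_three (m : Md S V z L Y) {x : G} (hx : x ∈ centralizer ({z} : Set G)) (h3 : orderOf x = 3) :
    Nat.card (Y ⊓ centralizer ({x} : Set G) : Subgroup G) = 4 := by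
  have hxY := m.three_Y hx h3
  have h1 := card_modEq Nat.prime_three (m.Y_nor hx) (by
    rw [← h3, pow_orderOf_eq_one]; exact one_mem _)
  rw [m.card] at h1
  set C : Subgroup G := Y ⊓ centralizer ({x} : Set G) with hC
  have h2 : Nat.card C ∣ 16 := by rw [← m.card]; exact Subgroup.card_dvd_of_le inf_le_left
  have h5 : Nat.card C ≤ 16 := Nat.le_of_dvd (by norm_num) h2
  have h4 : Nat.card C ≠ 16 := by
    intro h0
    have h5 : C = Y := Subgroup.eq_of_le_of_card_ge inf_le_left (by rw [h0, m.card])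
    apply hxY
    rw [mem_centralizer_iff]
    intro u hu
    rw [← h5] at hu
    exact mem_centralizer_singleton_iff.1 hu.2
  have hz : z ∈ C := ⟨m.z_Y, mem_centralizer_singleton_iff.2 (mem_centralizer_singleton_iff.1 hx).symm⟩
  have h6 : Nat.card C ≠ 1 := by
    intro h0
    rw [Subgroup.card_eq_one] at h0
    rw [h0, mem_bot] at hz
    exact m.z_ne hz
  generalize Nat.card C = n at *
  unfold Nat.ModEq at h1
  interval_cases n <;> omega

end Md

end Cfsg.Agent.OddCyclic.EmpLine
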