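import Mathlib
import Cfsg.Agent.OddCyclic.EmpLine.BcF

/-!
# The exits, type (1\3) of `C(z)`: `V ≤ Y`
-/

set_option autoImplicit false
set_option linter.unusedSectionVars false

namespace Cfsg.Agent.OddCyclic.EmpLine

open Subgroup Cfsg Cfsg.Agent.ZN Cfsg.Agent.ZN.ChoiceBase Cfsg.Agent.ZN.ChoiceSit
open Cfsg.Agent.MinSimple Cfsg.Agent.MinSimple.EmptyTI Cfsg.Agent.MinSimple.EmptySix
open Cfsg.Agent.MinSimple.Geo (ws lines le_ws ws_le inv_eq_self mem_zpowers_iff_of_mul_self)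
open Cfsg.Agent.OddCyclic.GeoC (GeoC)
open Cfsg.Agent.OddCyclic.EN.Pi (Com wp wp_le cj_le_wp V_le_wp le_normalizer_wp)
open scoped commutatorElement

universe u

variable {G : Type u} [Group G] [Finite G]

namespace Md

variable {S V : Subgroup G} {z : G} {L Y : Subgroup G}

/-- `P = L (C(z) ∩ N(V))` -/
def PP (V : Subgroup G) (z : G) (L : Subgroup G) : Subgroup G :=
  L ⊔ (centralizer ({z} : Set G) ⊓ normalizer (V : Set G) : Subgroup G)

/-- `W = ⟨V^P⟩ Y` -/
def WW (V : Subgroup G) (z : G) (L Y : Subgroup G) : Subgroup G := wp V (PP V z L) ⊔ Y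

theorem PP_le (m : Md S V z L Y) : PP V z L ≤ centralizer ({z} : Set G) := sup_le m.L_le inf_le_left

theorem WW_le (m : Md S V z L Y) : WW V z L Y ≤ ws V z :=
  sup_le (wp_le fun _ hc => le_ws (m.geo.cj_mem_lines (m.PP_le hc))) m.Y_le

theorem V_le_WW (V : Subgroup G) (z : G) (L Y : Subgroup G) : V ≤ WW V z L Y := (V_le_wp _ _).trans le_sup_left

theorem cr (m : Md S V z L Y) : Cr V (PP V z L) (WW V z L Y) where
  V_le := V_le_WW V z L Y
  V_ne := by
    intro h0
    have h1 := m.card_V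
    rw [h0, Subgroup.card_bot] at h1
    omega
  P_le := by
    intro c hc
    have h1 := mem_normalizer_iff_cj.1 (le_normalizer_wp V (PP V z L) hc)
    have h2 := mem_normalizer_iff_cj.1 (m.Y_nor (m.PP_le hc))
    rw [mem_normalizer_iff_cj, WW]
    change (wp V (PP V z L) ⊔ Y).map (MulAut.conj c).toMonoidHom = _
    rw [Subgroup.map_sup]
    exact congrArg₂ (· ⊔ ·) h1 h2
  ab := fun a ha b hb => m.ab a (m.WW_le ha) b (m.WW_le hb)
  sq := fun w hw => m.ws_sq (m.WW_le hw)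
  core := by
    intro U hU hN hP
    by_contra hU1
    have h1 := m.toPre.F2 m.star.perf m.L_le m.L_mv hU hU1 (m.T_norm.trans hN) (le_sup_left.trans hP)
    obtain ⟨v, hv, hv1, hvz⟩ := m.geo.exists_y
    obtain ⟨k, hk, hkv⟩ := m.trans v hv hv1
    apply hvz
    rw [← hkv, mem_centralizer_singleton_iff.1 (h1 (hN hk)), mul_inv_cancel_right]

/-- `[t, W] ≤ ⟨z⟩` for `t ∈ C(V) ∩ C(Y)` -/
theorem claimT (m : Md S V z L Y) {t : G} (ht : t ∈ centralizer (V : Set G)) (htY : t ∈ centralizer (Y : Set G)) {w : G}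
    (hw : w ∈ WW V z L Y) : t * w * t⁻¹ * w⁻¹ = 1 ∨ t * w * t⁻¹ * w⁻¹ = z := by
  have htz : t * z = z * t := (mem_centralizer_iff.1 ht z m.z_mem).symm
  have htC : t ∈ centralizer ({z} : Set G) := mem_centralizer_singleton_iff.2 htz
  have hwsz : ∀ a ∈ ws V z, a * z = z * a := fun a ha =>
    mem_centralizer_singleton_iff.1 (m.geo.ws_le_centralizer ha)
  rw [← mem_zpowers_iff_of_mul_self m.zz]
  have hconj : ∀ a ∈ ws V z, ∀ e ∈ zpowers z, a * e * a⁻¹ = e := by
    intro a ha e he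
    rcases (mem_zpowers_iff_of_mul_self m.zz).1 he with rfl | rfl
    · group
    · rw [hwsz a ha, mul_inv_cancel_right]
  let B : Subgroup G :=
    { carrier := {a | a ∈ ws V z ∧ t * a * t⁻¹ * a⁻¹ ∈ zpowers z}
      mul_mem' := by
        rintro a b ⟨ha, ha1⟩ ⟨hb, hb1⟩
        refine ⟨mul_mem ha hb, ?_⟩
        have e : t * (a * b) * t⁻¹ * (a * b)⁻¹ = (t * a * t⁻¹ * a⁻¹) * (a * (t * b * t⁻¹ * b⁻¹) * a⁻¹) := by group
        rw [e, hconj a ha _ hb1]
        exact mul_mem ha1 hb1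
      one_mem' := ⟨one_mem _, by simp⟩
      inv_mem' := by
        rintro a ⟨ha, ha1⟩
        refine ⟨inv_mem ha, ?_⟩
        have h1 := hconj a⁻¹ (inv_mem ha) _ (inv_mem ha1)
        have e : t * a⁻¹ * t⁻¹ * a⁻¹⁻¹ = a⁻¹ * (t * a * t⁻¹ * a⁻¹)⁻¹ * a⁻¹⁻¹ := by
          have h2 : t * a⁻¹ * t⁻¹ = a⁻¹ * (t * a * t⁻¹ * a⁻¹)⁻¹ := by
            group
          rw [h2]
        rw [e, h1]
        exact inv_mem ha1 }
  suffices h : WW V z L Y ≤ B from (h hw).2
  refine sup_le (wp_le fun c hc => ?_) fun y hy => ⟨m.Y_le hy, ?_⟩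
  · have hLn : (centralizer ({z} : Set G) ⊓ normalizer (V : Set G) : Subgroup G) ≤ normalizer (L : Set G) :=
      inf_le_left.trans m.L_nor
    have hc' := hc
    rw [PP, sup_comm, ← SetLike.mem_coe, coe_mul_of_left_le_normalizer_right _ _ hLn] at hc'
    obtain ⟨n, hn, l', hl', hnl⟩ := hc'
    change n * l' = c at hnl
    -- `c = l n`
    set l := n * l' * n⁻¹ with hldef
    have hl : l ∈ L := (mem_normalizer_iff.1 (hLn hn) l').1 hl'
    have hcln : c = l * n := by rw [← hnl, hldef]; group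
    intro x hx
    have hxw : x ∈ ws V z := le_ws (m.geo.cj_mem_lines (m.PP_le hc)) hx
    refine ⟨hxw, ?_⟩
    change x ∈ cj c V at hx
    rw [hcln, ← cj_cj, cj_eq_of_mem_normalizer hn.2, mem_cj] at hx
    set v := l⁻¹ * x * l with hv
    have hxv : x = l * v * l⁻¹ := by rw [hv]; group
    have hlC := m.L_le hl
    have hlz : l * z = z * l := mem_centralizer_singleton_iff.1 hlC
    -- `k = [l⁻¹, t]`
    set k := l⁻¹ * t * l * t⁻¹ with hk
    have hkL : k ∈ L := by
      have h1 : t * l * t⁻¹ ∈ L := (mem_normalizer_iff.1 (m.L_nor htC) l).1 hl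
      have e : k = l⁻¹ * (t * l * t⁻¹) := by rw [hk]; group
      rw [e]; exact mul_mem (inv_mem hl) h1
    have hkY : k ∈ centralizer (Y : Set G) := by
      refine mul_mem ?_ (inv_mem htY)
      rw [mem_centralizer_iff]
      intro y hy
      have h1 := mem_centralizer_iff.1 htY _ (m.conjY hlC hy)
      calc y * (l⁻¹ * t * l) = l⁻¹ * (l * y * l⁻¹ * t) * l := by group
        _ = l⁻¹ * (t * (l * y * l⁻¹)) * l := by rw [h1]
        _ = l⁻¹ * t * l * y := by group
    have hD : L ⊓ centralizer (Y : Set G) ≠ L := by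
      intro h2
      exact m.L_Y (by rw [← h2]; exact inf_le_right)
    have hkS : k ∈ S := m.o2_le_S (m.le_o2_of inf_le_left (m.inf_norm m.Y_nor) hD ⟨hkL, hkY⟩)
    have htv : t * v = v * t := (mem_centralizer_iff.1 ht v hx).symm
    have hkv := m.geo.conj_cases m.z_mem hx m.z_ne (mem_centralizer_singleton_iff.1 (m.T_le hkS)) (m.T_norm hkS)
    have e : t * x * t⁻¹ * x⁻¹ = l * ((k * v * k⁻¹) * v⁻¹) * l⁻¹ := by
      have h1 : t * l = l * k * t := by rw [hk]; group
      rw [hxv]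
      calc t * (l * v * l⁻¹) * t⁻¹ * (l * v * l⁻¹)⁻¹ = (t * l) * v * (t * l)⁻¹ * (l * v⁻¹ * l⁻¹) := by group
        _ = l * k * (t * v * t⁻¹) * k⁻¹ * v⁻¹ * l⁻¹ := by rw [h1]; group
        _ = l * ((k * v * k⁻¹) * v⁻¹) * l⁻¹ := by rw [htv, mul_inv_cancel_right]; group
    rw [e, mem_zpowers_iff_of_mul_self m.zz]
    rcases hkv with h1 | h1
    · left; rw [h1]; group
    · right; rw [h1, mul_inv_cancel_right, hlz, mul_inv_cancel_right]
  · have h1 := mem_centralizer_iff.1 htY y hy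
    have e : t * y * t⁻¹ * y⁻¹ = 1 := by rw [← h1]; group
    rw [e]; exact one_mem _

/-- **`V ≤ Y`** -/
theorem V_sub_Y (m : Md S V z L Y) : V ≤ Y := by
  by_contra hVY
  obtain ⟨g, hnc, h1, h2⟩ := m.cr.exists_pair
  have hYW : Y ≤ WW V z L Y := le_sup_right
  have hzz := m.zz
  set q := g * z * g⁻¹ with hq
  have hqq : q * q = 1 := by
    calc q * q = g * (z * z) * g⁻¹ := by rw [hq]; group
      _ = 1 := by rw [hzz]; group
  have h1z : ∀ w ∈ cj g (WW V z L Y), w ∈ centralizer ({z} : Set G) := fun w hw =>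
    mem_centralizer_singleton_iff.2 (mem_centralizer_iff.1 (h1 hw) z m.z_mem).symm
  -- `W ≤ C(V^g)`, elementwise
  have h2' : ∀ w ∈ WW V z L Y, g⁻¹ * w * g ∈ centralizer (V : Set G) := by
    intro w hw
    apply h2
    rw [mem_cj, inv_inv]
    have e : g * (g⁻¹ * w * g) * g⁻¹ = w := by group
    rw [e]; exact hw
  have h2z : ∀ w ∈ WW V z L Y, g⁻¹ * w * g ∈ centralizer ({z} : Set G) := fun w hw =>
    mem_centralizer_singleton_iff.2 (mem_centralizer_iff.1 (h2' w hw) z m.z_mem).symm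
  have hqz : q ≠ z := by
    intro h0
    apply hnc
    have hg : g ∈ centralizer ({z} : Set G) := by
      rw [mem_centralizer_singleton_iff]
      calc g * z = q * g := by rw [hq]; group
        _ = z * g := by rw [h0]
    have h3 : cj g (WW V z L Y) ≤ ws V z := by
      refine (cj_mono g m.WW_le).trans ?_
      rw [cj_eq_of_mem_normalizer (Geo.centralizer_le_normalizer_ws V z hg)]
    exact fun a ha b hb => m.ab a (m.WW_le ha) b (h3 hb)
  -- `Y` and `Y^g` commute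
  have hcom : Com Y (cj g Y) := by
    by_contra hcon
    have h3 := m.pair (g := g) (fun w hw => h1z w (cj_mono g hYW hw)) (by
      intro y hy
      rw [← Geo.cj_centralizer_singleton, mem_cj]
      exact h2z y (hYW hy)) hcon
    exact hVY (m.V_le_Y h3.2.1 ⟨g, rfl⟩ h3.2.2)
  -- (T) for the conjugate
  have hT' : ∀ t : G, g⁻¹ * t * g ∈ centralizer (V : Set G) → g⁻¹ * t * g ∈ centralizer (Y : Set G) →
      ∀ w ∈ cj g (WW V z L Y), t * w * t⁻¹ * w⁻¹ = 1 ∨ t * w * t⁻¹ * w⁻¹ = q := by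
    intro t ht htY w hw
    have h3 := m.claimT ht htY (mem_cj.1 hw)
    have e : t * w * t⁻¹ * w⁻¹ = g * ((g⁻¹ * t * g) * (g⁻¹ * w * g) * (g⁻¹ * t * g)⁻¹ * (g⁻¹ * w * g)⁻¹) * g⁻¹ := by
      group
    rcases h3 with h3 | h3
    · left; rw [e, h3]; group
    · right; rw [e, h3]
  have hcomY : ∀ y ∈ Y, g⁻¹ * y * g ∈ centralizer (Y : Set G) := by
    intro y hy
    rw [mem_centralizer_iff]
    intro u hu
    have h3 := hcom y hy (g * u * g⁻¹) (by
      rw [mem_cj]
      have e : g⁻¹ * (g * u * g⁻¹) * g = u := by group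
      rw [e]; exact hu)
    calc u * (g⁻¹ * y * g) = g⁻¹ * ((g * u * g⁻¹) * y) * g := by group
      _ = g⁻¹ * (y * (g * u * g⁻¹)) * g := by rw [h3]
      _ = g⁻¹ * y * g * u := by group
  have hcomY' : ∀ y ∈ cj g Y, y ∈ centralizer (Y : Set G) := by
    intro y hy
    rw [mem_centralizer_iff]
    intro u hu
    exact hcom u hu y hy
  have hsq' : ∀ w ∈ cj g (WW V z L Y), w * w = 1 := fun w hw => m.cr.sq_cj hw
  -- `W^g ≤ C(Y)`
  have hW'Y : ∀ w ∈ cj g (WW V z L Y), w ∈ centralizer (Y : Set G) := by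
    intro w hw
    refine m.le_of_small (e := q) (h1z w hw) (by rw [hsq' w hw]; exact one_mem _) fun y hy => ?_
    have h3 := hT' y (h2' y (hYW hy)) (hcomY y hy) w hw
    have e : w * y * w⁻¹ * y⁻¹ = (y * w * y⁻¹ * w⁻¹)⁻¹ := by group
    rcases h3 with h3 | h3
    · left; rw [e, h3, inv_one]
    · right; rw [e, h3]; exact inv_eq_self hqq
  -- `W ≤ C(Y^g)`
  have hWY' : ∀ w ∈ WW V z L Y, g⁻¹ * w * g ∈ centralizer (Y : Set G) := by
    intro w hw
    have hww := m.ws_sq (m.WW_le hw)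
    refine m.le_of_small (e := g⁻¹ * z * g) (h2z w hw) (by
      have e : g⁻¹ * w * g * (g⁻¹ * w * g) = g⁻¹ * (w * w) * g := by group
      rw [e, hww]
      have e : g⁻¹ * 1 * g = (1 : G) := by group
      rw [e]; exact one_mem _) fun y hy => ?_
    have hy' : g * y * g⁻¹ ∈ cj g Y := by
      rw [mem_cj]
      have e : g⁻¹ * (g * y * g⁻¹) * g = y := by group
      rw [e]; exact hy
    have h3 := m.claimT (h1 (cj_mono g hYW hy')) (hcomY' _ hy') hw
    have e : g⁻¹ * w * g * y * (g⁻¹ * w * g)⁻¹ * y⁻¹ =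
        g⁻¹ * ((g * y * g⁻¹) * w * (g * y * g⁻¹)⁻¹ * w⁻¹)⁻¹ * g := by group
    rcases h3 with h3 | h3
    · left; rw [e, h3]; group
    · right; rw [e, h3, inv_eq_self hzz]
  apply hnc
  intro w hw w' hw'
  have h3 := hT' w (h2' w hw) (hWY' w hw) w' hw'
  have h4 := m.claimT (h1 hw') (hW'Y w' hw') hw
  have e : w * w' * w⁻¹ * w'⁻¹ = (w' * w * w'⁻¹ * w⁻¹)⁻¹ := by group
  have h5 : w * w' * w⁻¹ * w'⁻¹ = 1 := by
    rcases h3 with h3 | h3
    · exact h3
    · rcases h4 with h4 | h4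
      · rw [e, h4, inv_one]
      · exfalso
        apply hqz
        rw [← h3, e, h4, inv_eq_self hzz]
  rw [mul_inv_eq_one, mul_inv_eq_iff_eq_mul] at h5
  exact h5

end Md

end Cfsg.Agent.OddCyclic.EmpLine
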