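import Mathlib
import Cfsg.Agent.OddCyclic.EmpLine.BcG

/-!
# The exits, type (1\3) of `C(z)`: `V ≤ Y = ws V z`, the three groups `ws V a`, `a ∈ V#`
-/

set_option autoImplicit false
set_option linter.unusedSectionVars false

namespace Cfsg.Agent.OddCyclic.EmpLine

open Subgroup Cfsg Cfsg.Agent.ZN Cfsg.Agent.ZN.ChoiceBase Cfsg.Agent.ZN.ChoiceSit
open Cfsg.Agent.MinSimple Cfsg.Agent.MinSimple.EmptyTI Cfsg.Agent.MinSimple.EmptySix
open Cfsg.Agent.MinSimple.Geo (ws lines le_ws ws_le inv_eq_self mem_zpowers_iff_of_mul_self)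
open Cfsg.Agent.OddCyclic.GeoC (GeoC)
open Cfsg.Agent.OddCyclic.EN.Pi (Com)
open scoped commutatorElement

universe u

variable {G : Type u} [Group G] [Finite G]

namespace Md

variable {S V : Subgroup G} {z : G} {L Y : Subgroup G}

theorem ws_eq (m : Md S V z L Y) : ws V z = Y := by
  refine le_antisymm (ws_le fun M hM => ?_) m.Y_le
  obtain ⟨c, hc, rfl⟩ := m.geo.exists_of_mem_lines hM
  have h1 := cj_mono c m.V_sub_Y
  rw [cj_eq_of_mem_normalizer (m.Y_nor hc)] at h1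
  exact h1

/-- `ws V a = Y^n` -/
theorem exists_n (m : Md S V z L Y) {a : G} (ha : a ∈ V) (ha1 : a ≠ 1) :
    ∃ n ∈ normalizer (V : Set G), n * z * n⁻¹ = a ∧ ws V a = cj n Y := by
  obtain ⟨n, hn, hna⟩ := m.trans a ha ha1
  refine ⟨n, hn, hna, ?_⟩
  rw [← hna, ← m.ws_eq]
  exact (Geo.cj_ws V n z).symm

theorem card_ws (m : Md S V z L Y) {a : G} (ha : a ∈ V) (ha1 : a ≠ 1) : Nat.card (ws V a) = 16 := by
  obtain ⟨n, hn, hna, h⟩ := m.exists_n ha ha1
  rw [h, card_cj, m.card]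

theorem V_le_ws (m : Md S V z L Y) {a : G} (ha : a ∈ V) (ha1 : a ≠ 1) : V ≤ ws V a := by
  obtain ⟨n, hn, hna, h⟩ := m.exists_n ha ha1
  rw [h]
  have h1 := cj_mono n m.V_sub_Y
  rwa [cj_eq_of_mem_normalizer hn] at h1

theorem ws_comm (m : Md S V z L Y) {a : G} (ha : a ∈ V) (ha1 : a ≠ 1) : Com (ws V a) (ws V a) := by
  obtain ⟨n, hn, hna, h⟩ := m.exists_n ha ha1
  rw [h]
  have h1 : Com Y Y := m.Y_comm
  exact h1.cj n

theorem ws_sq' (m : Md S V z L Y) {a : G} (ha : a ∈ V) (ha1 : a ≠ 1) {w : G} (hw : w ∈ ws V a) : w * w = 1 := by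
  obtain ⟨n, hn, hna, h⟩ := m.exists_n ha ha1
  rw [h] at hw
  obtain ⟨w, hw, rfl⟩ := hw
  rw [← map_mul, m.Y_sq hw, map_one]

theorem ws_le_CV (m : Md S V z L Y) {a : G} (ha : a ∈ V) (ha1 : a ≠ 1) : ws V a ≤ centralizer (V : Set G) :=
  fun w hw => mem_centralizer_iff.2 fun v hv => m.ws_comm ha ha1 v (m.V_le_ws ha ha1 hv) w hw

theorem CV_le (m : Md S V z L Y) {a : G} (ha : a ∈ V) : centralizer (V : Set G) ≤ centralizer ({a} : Set G) :=
  centralizer_le (by rintro _ rfl; exact ha)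

theorem CV_nor (m : Md S V z L Y) {a : G} (ha : a ∈ V) :
    centralizer (V : Set G) ≤ normalizer ((ws V a : Subgroup G) : Set G) :=
  (m.CV_le ha).trans (Geo.centralizer_le_normalizer_ws V a)

/-- `C_{V_a}(x) = V` for `x ∈ C(V)` of order 3 -/
theorem mem_V_of_comm (m : Md S V z L Y) {x : G} (hx : x ∈ centralizer (V : Set G)) (h3 : orderOf x = 3) {a : G}
    (ha : a ∈ V) (ha1 : a ≠ 1) {w : G} (hw : w ∈ ws V a) (hwx : w * x = x * w) : w ∈ V := by
  obtain ⟨n, hn, hna, h⟩ := m.exists_n ha ha1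
  have hx' : n⁻¹ * x * n ∈ centralizer (V : Set G) := by
    rw [mem_centralizer_iff]
    intro v hv
    have h1 := mem_centralizer_iff.1 hx _ ((mem_normalizer_iff.1 hn v).1 hv)
    calc v * (n⁻¹ * x * n) = n⁻¹ * ((n * v * n⁻¹) * x) * n := by group
      _ = n⁻¹ * (x * (n * v * n⁻¹)) * n := by rw [h1]
      _ = n⁻¹ * x * n * v := by group
  have h3' : orderOf (n⁻¹ * x * n) = 3 := by
    have h1 : n⁻¹ * x * n = MulAut.conj n⁻¹ x := by simp
    rw [h1, MulEquiv.orderOf_eq, h3]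
  have h4 := m.card_three (m.CV_le m.z_mem hx') h3'
  have h5 : V ≤ Y ⊓ centralizer ({n⁻¹ * x * n} : Set G) := by
    refine le_inf m.V_sub_Y fun v hv => ?_
    rw [mem_centralizer_singleton_iff]
    exact mem_centralizer_iff.1 hx' v hv
  have h6 : V = Y ⊓ centralizer ({n⁻¹ * x * n} : Set G) :=
    Subgroup.eq_of_le_of_card_ge h5 (by rw [h4, m.card_V])
  rw [h, mem_cj] at hw
  have h7 : n⁻¹ * w * n ∈ V := by
    rw [h6]
    refine mem_inf.2 ⟨hw, ?_⟩
    rw [mem_centralizer_singleton_iff]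
    calc n⁻¹ * w * n * (n⁻¹ * x * n) = n⁻¹ * (w * x) * n := by group
      _ = n⁻¹ * (x * w) * n := by rw [hwx]
      _ = n⁻¹ * x * n * (n⁻¹ * w * n) := by group
  have h8 := (mem_normalizer_iff.1 hn _).1 h7
  have e : n * (n⁻¹ * w * n) * n⁻¹ = w := by group
  rwa [e] at h8

/-- an element of order 3 in `C(V)` -/
theorem exists_three_CV (m : Md S V z L Y) : ∃ x ∈ centralizer (V : Set G), orderOf x = 3 := by
  obtain ⟨x, hx, h3⟩ := m.exists_order_three
  have h4 := m.card_three (m.L_le hx) h3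
  obtain ⟨p, hp, hp1, hpz⟩ := m.geo.exists_y
  obtain ⟨u, hu, hu1, huz⟩ : ∃ u ∈ Y ⊓ centralizer ({x} : Set G), u ≠ 1 ∧ u ≠ z := by
    by_contra hcon
    push Not at hcon
    have h1 : ((Y ⊓ centralizer ({x} : Set G) : Subgroup G) : Set G) ⊆ {1, z} := by
      intro u hu
      by_cases h1 : u = 1
      · left; exact h1
      · right; exact hcon u hu h1
    have h2 := Set.ncard_le_ncard h1 (Set.toFinite _)
    have h5 : ((Y ⊓ centralizer ({x} : Set G) : Subgroup G) : Set G).ncard = 4 := h4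
    rw [h5, Set.ncard_pair (Ne.symm m.z_ne)] at h2
    omega
  obtain ⟨l, hl, hlu⟩ := m.trans_Y hu.1 hu1 huz (m.V_sub_Y hp) hp1 hpz
  have hlz : l * z = z * l := mem_centralizer_singleton_iff.1 (m.L_le hl)
  have hxz : x * z = z * x := mem_centralizer_singleton_iff.1 (m.L_le hx)
  have hxu : u * x = x * u := mem_centralizer_singleton_iff.1 hu.2
  refine ⟨l * x * l⁻¹, ?_, ?_⟩
  · have h1 : (l * x * l⁻¹) * z = z * (l * x * l⁻¹) := by
      have h2 : l⁻¹ * z = z * l⁻¹ := by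
        rw [inv_mul_eq_iff_eq_mul, ← mul_assoc, hlz, mul_inv_cancel_right]
      calc (l * x * l⁻¹) * z = l * x * (l⁻¹ * z) := by group
        _ = l * (x * z) * l⁻¹ := by rw [h2]; group
        _ = (l * z) * x * l⁻¹ := by rw [hxz]; group
        _ = z * (l * x * l⁻¹) := by rw [hlz]; group
    have h2 : (l * x * l⁻¹) * (l * u * l⁻¹) = (l * u * l⁻¹) * (l * x * l⁻¹) := by
      calc (l * x * l⁻¹) * (l * u * l⁻¹) = l * (x * u) * l⁻¹ := by group
        _ = l * (u * x) * l⁻¹ := by rw [hxu]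
        _ = (l * u * l⁻¹) * (l * x * l⁻¹) := by group
    have h3' : (l * x * l⁻¹) * p = p * (l * x * l⁻¹) := by
      rcases hlu with h4 | h4
      · rwa [h4] at h2
      · rw [h4] at h2
        have e : p = z * (z * p) := by rw [← mul_assoc, m.zz, one_mul]
        rw [e, ← mul_assoc, h1]
        calc z * (l * x * l⁻¹) * (z * p) = z * ((l * x * l⁻¹) * (z * p)) := by group
          _ = z * (z * p) * (l * x * l⁻¹) := by rw [h2]; group
    rw [mem_centralizer_iff]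
    intro v hv
    rcases m.geo.four m.z_mem hp m.z_ne hp1 (Ne.symm hpz) hv with rfl | rfl | rfl | rfl
    · group
    · exact h1.symm
    · exact h3'.symm
    · calc z * p * (l * x * l⁻¹) = z * (p * (l * x * l⁻¹)) := by group
        _ = z * (l * x * l⁻¹) * p := by rw [← h3']; group
        _ = (l * x * l⁻¹) * (z * p) := by rw [← h1]; group
  · have h1 : l * x * l⁻¹ = MulAut.conj l x := by simp
    rw [h1, MulEquiv.orderOf_eq, h3]

/-- the `x`-invariant subgroups between `V` and `V_a` -/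
theorem eq_or (m : Md S V z L Y) {x : G} (hx : x ∈ centralizer (V : Set G)) (h3 : orderOf x = 3) {a : G}
    (ha : a ∈ V) (ha1 : a ≠ 1) {B : Subgroup G} (hVB : V ≤ B) (hB : B ≤ ws V a) (hxB : x ∈ normalizer (B : Set G)) :
    B = V ∨ B = ws V a := by
  have h1 := card_modEq Nat.prime_three hxB (by rw [← h3, pow_orderOf_eq_one]; exact one_mem _)
  have h2 : B ⊓ centralizer ({x} : Set G) = V := by
    refine le_antisymm ?_ (le_inf hVB fun v hv => ?_)
    · rintro w ⟨hw, hwx⟩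
      exact m.mem_V_of_comm hx h3 ha ha1 (hB hw) (mem_centralizer_singleton_iff.1 hwx)
    · rw [mem_centralizer_singleton_iff]
      exact mem_centralizer_iff.1 hx v hv
  rw [h2, m.card_V] at h1
  have h4 : Nat.card B ∣ 16 := by rw [← m.card_ws ha ha1]; exact Subgroup.card_dvd_of_le hB
  have h5 : 4 ∣ Nat.card B := by rw [← m.card_V]; exact Subgroup.card_dvd_of_le hVB
  have h6 : Nat.card B ≤ 16 := Nat.le_of_dvd (by norm_num) h4
  have h7 : Nat.card B = 4 ∨ Nat.card B = 16 := by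
    have h8 : 0 < Nat.card B := Nat.card_pos
    generalize Nat.card B = n at *
    unfold Nat.ModEq at h1
    interval_cases n <;> omega
  rcases h7 with h7 | h7
  · left
    exact (Subgroup.eq_of_le_of_card_ge hVB (by rw [h7, m.card_V])).symm
  · right
    exact Subgroup.eq_of_le_of_card_ge hB (by rw [h7, m.card_ws ha ha1])

/-- `N(V)` is 2-transitive on `V#` -/
theorem exists_n2 (m : Md S V z L Y) {a b a' b' : G} (ha : a ∈ V) (ha1 : a ≠ 1) (hb : b ∈ V) (hb1 : b ≠ 1)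
    (hab : a ≠ b) (ha' : a' ∈ V) (ha1' : a' ≠ 1) (hb' : b' ∈ V) (hb1' : b' ≠ 1) (hab' : a' ≠ b') :
    ∃ n ∈ normalizer (V : Set G), n * a * n⁻¹ = a' ∧ n * b * n⁻¹ = b' := by
  -- from `(z, q)`
  have key : ∀ q ∈ V, q ≠ 1 → q ≠ z → ∀ a ∈ V, a ≠ 1 → ∀ b ∈ V, b ≠ 1 → a ≠ b →
      ∃ n ∈ normalizer (V : Set G), n * z * n⁻¹ = a ∧ n * q * n⁻¹ = b := by
    intro q hq hq1 hqz a ha ha1 b hb hb1 hab
    obtain ⟨n, hn, hna⟩ := m.trans a ha ha1
    -- an element of `S` moving `q`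
    have hs : ∃ s ∈ S, s * q * s⁻¹ = z * q := by
      by_contra hcon
      push Not at hcon
      rcases m.soc q (m.V_le hq) (m.sq q hq) (fun s hs => by
        rcases m.geo.conj_cases m.z_mem hq m.z_ne (mem_centralizer_singleton_iff.1 (m.T_le hs)) (m.T_norm hs) with h1 | h1
        · rw [mul_inv_eq_iff_eq_mul] at h1; exact h1
        · exact absurd h1 (hcon s hs)) with h1 | h1
      · exact hq1 h1
      · exact hqz h1
    obtain ⟨s, hs, hsq⟩ := hs
    have hsz : s * z = z * s := mem_centralizer_singleton_iff.1 (m.T_le hs)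
    have hc : n * q * n⁻¹ ∈ V := (mem_normalizer_iff.1 hn q).1 hq
    have hbb := m.sq b hb
    have haa := m.sq a ha
    rcases m.geo.four ha hb ha1 hb1 hab hc with h1 | h1 | h1 | h1
    · exfalso
      apply hq1
      have : q = n⁻¹ * (n * q * n⁻¹) * n := by group
      rw [this, h1]; group
    · exfalso
      apply hqz
      have : q = n⁻¹ * (n * q * n⁻¹) * n := by group
      rw [this, h1, ← hna]; group
    · exact ⟨n, hn, hna, h1⟩
    · refine ⟨n * s, mul_mem hn (m.T_norm hs), ?_, ?_⟩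
      · calc n * s * z * (n * s)⁻¹ = n * (s * z) * s⁻¹ * n⁻¹ := by group
          _ = n * z * n⁻¹ := by rw [hsz]; group
          _ = a := hna
      · calc n * s * q * (n * s)⁻¹ = n * (s * q * s⁻¹) * n⁻¹ := by group
          _ = (n * z * n⁻¹) * (n * q * n⁻¹) := by rw [hsq]; group
          _ = b := by rw [hna, h1, ← mul_assoc, haa, one_mul]
  obtain ⟨q, hq, hq1, hqz⟩ := m.geo.exists_y
  obtain ⟨n₁, hn₁, h1, h2⟩ := key q hq hq1 hqz a ha ha1 b hb hb1 hab
  obtain ⟨n₂, hn₂, h3, h4⟩ := key q hq hq1 hqz a' ha' ha1' b' hb' hb1' hab'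
  refine ⟨n₂ * n₁⁻¹, mul_mem hn₂ (inv_mem hn₁), ?_, ?_⟩
  · rw [← h1, ← h3]; group
  · rw [← h2, ← h4]; group

/-- `V_a` and `V_b` do not commute -/
theorem not_com (m : Md S V z L Y) {a b : G} (ha : a ∈ V) (ha1 : a ≠ 1) (hb : b ∈ V) (hb1 : b ≠ 1)
    (hab : a ≠ b) : ¬ Com (ws V a) (ws V b) := by
  have cr : Cr V (centralizer ({z} : Set G)) Y := {
    V_le := m.V_sub_Y
    V_ne := m.cr.V_ne
    P_le := m.Y_nor
    ab := m.Y_comm
    sq := fun w hw => m.Y_sq hw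
    core := m.core }
  obtain ⟨g, hnc, h1, h2⟩ := cr.exists_pair
  have h3 := m.pair (g := g) (h1.trans (m.CV_le m.z_mem)) (by
    intro y hy
    rw [← Geo.cj_centralizer_singleton, mem_cj]
    apply m.CV_le m.z_mem
    apply h2
    rw [mem_cj, inv_inv]
    have e : g * (g⁻¹ * y * g) * g⁻¹ = y := by group
    rw [e]; exact hy) hnc
  obtain ⟨-, hqY, hqz⟩ := h3
  set q := g * z * g⁻¹ with hq
  have hq1 : q ≠ 1 := by
    intro h0
    apply m.z_ne
    have : z = g⁻¹ * q * g := by rw [hq]; group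
    rw [this, h0]; group
  obtain ⟨p, hp, hp1, hpz⟩ := m.geo.exists_y
  obtain ⟨l, hl, hlq⟩ := m.trans_Y hqY hq1 hqz (m.V_sub_Y hp) hp1 hpz
  set p' := l * q * l⁻¹ with hp'
  have hlC := m.L_le hl
  have hlz : l * z = z * l := mem_centralizer_singleton_iff.1 hlC
  have hp'V : p' ∈ V := by
    rcases hlq with h3 | h3
    · rw [h3]; exact hp
    · rw [h3]; exact mul_mem m.z_mem hp
  have hp'z : p' ≠ z := by
    intro h0
    apply hqz
    have : q = l⁻¹ * p' * l := by rw [hp']; group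
    rw [this, h0, mul_assoc, ← hlz, inv_mul_cancel_left]
  have hp'1 : p' ≠ 1 := by
    intro h0
    apply hq1
    have : q = l⁻¹ * p' * l := by rw [hp']; group
    rw [this, h0]; group
  have hws : ws V p' = cj l (cj g Y) := by
    rw [← m.ws_eq]
    have e1 : cj g (ws V z) = ws V q := Geo.cj_ws V g z
    have e2 : cj l (ws V q) = ws V p' := Geo.cj_ws V l q
    rw [e1, e2]
  have hnc' : ¬ Com (ws V z) (ws V p') := by
    intro h0
    rw [hws, m.ws_eq] at h0
    apply hnc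
    have h4 := h0.cj l⁻¹
    have e1 : cj l⁻¹ Y = Y := cj_eq_of_mem_normalizer (m.Y_nor (inv_mem hlC))
    have e2 : cj l⁻¹ (cj l (cj g Y)) = cj g Y := by rw [cj_cj, inv_mul_cancel, cj_one]
    change Com (cj l⁻¹ Y) (cj l⁻¹ (cj l (cj g Y))) at h4
    rwa [e1, e2] at h4
  intro h0
  obtain ⟨n, hn, hna, hnb⟩ := m.exists_n2 ha ha1 hb hb1 hab m.z_mem m.z_ne hp'V hp'1 (Ne.symm hp'z)
  apply hnc'
  have h4 := h0.cj n
  have e1 : cj n (ws V a) = ws V (n * a * n⁻¹) := Geo.cj_ws V n a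
  have e2 : cj n (ws V b) = ws V (n * b * n⁻¹) := Geo.cj_ws V n b
  change Com (cj n (ws V a)) (cj n (ws V b)) at h4
  rwa [e1, e2, hna, hnb] at h4

/-- `V_a ∩ C(V_b) = V` -/
theorem mem_V_of_cent (m : Md S V z L Y) {a b : G} (ha : a ∈ V) (ha1 : a ≠ 1) (hb : b ∈ V) (hb1 : b ≠ 1)
    (hab : a ≠ b) {w : G} (hw : w ∈ ws V a) (hwb : w ∈ centralizer ((ws V b : Subgroup G) : Set G)) : w ∈ V := by
  obtain ⟨x, hx, h3⟩ := m.exists_three_CV
  have h1 := m.eq_or hx h3 ha ha1 (B := ws V a ⊓ centralizer ((ws V b : Subgroup G) : Set G))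
    (le_inf (m.V_le_ws ha ha1) fun v hv => mem_centralizer_iff.2 fun u hu =>
      (mem_centralizer_iff.1 (m.ws_le_CV hb hb1 hu) v hv).symm) inf_le_left (by
      rw [mem_normalizer_iff_cj, cj_inf, cj_centralizer, cj_eq_of_mem_normalizer (m.CV_nor ha hx),
        cj_eq_of_mem_normalizer (m.CV_nor hb hx)])
  rcases h1 with h1 | h1
  · rw [← h1]; exact ⟨hw, hwb⟩
  · exfalso
    apply m.not_com ha ha1 hb hb1 hab
    intro u hu v hv
    rw [← h1] at hu
    exact (mem_centralizer_iff.1 hu.2 v hv).symm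

theorem inf_eq (m : Md S V z L Y) {a b : G} (ha : a ∈ V) (ha1 : a ≠ 1) (hb : b ∈ V) (hb1 : b ≠ 1)
    (hab : a ≠ b) : ws V a ⊓ ws V b = V := by
  refine le_antisymm ?_ (le_inf (m.V_le_ws ha ha1) (m.V_le_ws hb hb1))
  rintro w ⟨hw, hwb⟩
  refine m.mem_V_of_cent ha ha1 hb hb1 hab hw ?_
  rw [mem_centralizer_iff]
  intro u hu
  exact m.ws_comm hb hb1 u hu w hwb

theorem comm_V (m : Md S V z L Y) {a b : G} (ha : a ∈ V) (ha1 : a ≠ 1) (hb : b ∈ V) (hb1 : b ≠ 1)
    (hab : a ≠ b) {u w : G} (hu : u ∈ ws V a) (hw : w ∈ ws V b) : u * w * u⁻¹ * w⁻¹ ∈ V := by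
  rw [← m.inf_eq ha ha1 hb hb1 hab, mem_inf]
  constructor
  · have h1 := (mem_normalizer_iff.1 (m.CV_nor ha (m.ws_le_CV hb hb1 hw)) _).1 (inv_mem hu)
    have e : u * w * u⁻¹ * w⁻¹ = u * (w * u⁻¹ * w⁻¹) := by group
    rw [e]; exact mul_mem hu h1
  · have h1 := (mem_normalizer_iff.1 (m.CV_nor hb (m.ws_le_CV ha ha1 hu)) _).1 hw
    exact mul_mem h1 (inv_mem hw)

end Md

end Cfsg.Agent.OddCyclic.EmpLine
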