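import Mathlib
import Cfsg.Agent.OddCyclic.EmpLine.BcH
import Cfsg.Agent.OddCyclic.T1Tools

/-!
# The exits, type (1\3) of `C(z)`: the end of the case `V ≤ Y`
-/

set_option autoImplicit false
set_option linter.unusedSectionVars false

namespace Cfsg.Agent.OddCyclic.EmpLine

open Subgroup Cfsg Cfsg.Agent.ZN Cfsg.Agent.ZN.ChoiceBase Cfsg.Agent.ZN.ChoiceSit
open Cfsg.Agent.MinSimple Cfsg.Agent.MinSimple.EmptyTI Cfsg.Agent.MinSimple.EmptySix
open Cfsg.Agent.MinSimple.Geo (ws lines le_ws ws_le inv_eq_self mem_zpowers_iff_of_mul_self)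
open Cfsg.Agent.OddCyclic.GeoC (GeoC)
open Cfsg.Agent.OddCyclic.EN.Pi (Com)
open scoped commutatorElement

universe u

variable {G : Type u} [Group G] [Finite G]

/-! ### the quotient `C(V)/V` -/

section quot

variable {V : Subgroup G}

theorem exists_quot (hV : ∀ a ∈ V, ∀ b ∈ V, a * b = b * a) : ∃ (Q : Type u) (_ : Group Q)
    (κ : centralizer (V : Set G) →* Q), ∀ u, κ u = 1 ↔ (u : G) ∈ V := by
  let N : Subgroup (centralizer (V : Set G)) := V.subgroupOf (centralizer (V : Set G))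
  have hN : N.Normal := by
    refine ⟨fun n hn g => ?_⟩
    rw [mem_subgroupOf] at hn ⊢
    have h1 := mem_centralizer_iff.1 g.2 _ hn
    have e : ((g * n * g⁻¹ : centralizer (V : Set G)) : G) = n := by
      change (g : G) * n * (g : G)⁻¹ = n
      rw [← h1, mul_inv_cancel_right]
    rw [e]; exact hn
  refine ⟨centralizer (V : Set G) ⧸ N, inferInstance, QuotientGroup.mk' N, fun u => ?_⟩
  rw [← MonoidHom.mem_ker, QuotientGroup.ker_mk', mem_subgroupOf]

end quot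

namespace Md

variable {S V : Subgroup G} {z : G} {L Y : Subgroup G}

/-- `O₂(C(z))` centralises `Y` -/
theorem o2_le_CY (m : Md S V z L Y) : o2 (centralizer ({z} : Set G)) ≤ centralizer (Y : Set G) := by
  have hQC : ∀ s ∈ o2 (centralizer ({z} : Set G)), s ∈ centralizer ({z} : Set G) := fun s hs => m.T_le (m.o2_le_S hs)
  have hYz : ∀ y ∈ Y, y * z = z * y := fun y hy => mem_centralizer_singleton_iff.1 (m.Y_C hy)
  -- the elements fixed modulo `⟨z⟩`
  let B : Set G := {y | y ∈ Y ∧ ∀ s ∈ o2 (centralizer ({z} : Set G)), s * y * s⁻¹ = y ∨ s * y * s⁻¹ = z * y}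
  have hBz : ∀ y ∈ B, z * y ∈ B := by
    rintro y ⟨hy, hy1⟩
    refine ⟨mul_mem m.z_Y hy, fun s hs => ?_⟩
    have hsz : s * z = z * s := mem_centralizer_singleton_iff.1 (hQC s hs)
    have e : s * (z * y) * s⁻¹ = z * (s * y * s⁻¹) := by
      calc s * (z * y) * s⁻¹ = (s * z) * y * s⁻¹ := by group
        _ = z * (s * y * s⁻¹) := by rw [hsz]; group
    rw [e]
    rcases hy1 s hs with h | h
    · left; rw [h]
    · right; rw [h]
  have hBc : ∀ y ∈ B, ∀ l ∈ L, l * y * l⁻¹ ∈ B := by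
    rintro y ⟨hy, hy1⟩ l hl
    have hlz : l * z = z * l := mem_centralizer_singleton_iff.1 (m.L_le hl)
    refine ⟨m.conjY (m.L_le hl) hy, fun s hs => ?_⟩
    have h1 : l⁻¹ * s * l ∈ o2 (centralizer ({z} : Set G)) := by
      have := (mem_normalizer_iff.1 (Cfsg.Agent.ZN.le_normalizer_o2 _ (inv_mem (m.L_le hl))) s).1 hs
      rwa [inv_inv] at this
    have e : s * (l * y * l⁻¹) * s⁻¹ = l * ((l⁻¹ * s * l) * y * (l⁻¹ * s * l)⁻¹) * l⁻¹ := by group
    rw [e]
    rcases hy1 _ h1 with h | h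
    · left; rw [h]
    · right; rw [h]
      calc l * (z * y) * l⁻¹ = (l * z) * y * l⁻¹ := by group
        _ = z * (l * y * l⁻¹) := by rw [hlz]; group
  obtain ⟨u, hu, hu1, huz, hus⟩ := m.exists_fix
  have huB : u ∈ B := ⟨hu, fun s hs => hus s (m.o2_le_S hs)⟩
  have hall : ∀ y ∈ Y, y ∈ B := by
    intro y hy
    by_cases h1 : y = 1
    · rw [h1]
      exact ⟨one_mem _, fun s _ => Or.inl (by group)⟩
    by_cases h2 : y = z
    · rw [h2]
      refine ⟨m.z_Y, fun s hs => Or.inl ?_⟩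
      rw [mem_centralizer_singleton_iff.1 (hQC s hs), mul_inv_cancel_right]
    obtain ⟨l, hl, h3 | h3⟩ := m.trans_Y hu hu1 huz hy h1 h2
    · rw [← h3]; exact hBc u huB l hl
    · have h4 := hBz _ (hBc u huB l hl)
      rw [h3, ← mul_assoc, m.zz, one_mul] at h4
      exact h4
  intro s hs
  have hsz : s * z = z * s := mem_centralizer_singleton_iff.1 (hQC s hs)
  refine m.le_of_small (e := z) (hQC s hs) ?_ fun y hy => ?_
  · rw [mem_centralizer_iff]
    intro y hy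
    rcases (hall y hy).2 s hs with h | h
    · rw [mul_inv_eq_iff_eq_mul] at h
      calc y * (s * s) = (y * s) * s := by group
        _ = (s * y) * s := by rw [h]
        _ = s * (y * s) := by group
        _ = s * (s * y) := by rw [h]
        _ = s * s * y := by group
    · rw [mul_inv_eq_iff_eq_mul] at h
      have h1 : s * s * y = y * (s * s) := by
        calc s * s * y = s * (s * y) := by group
          _ = (s * z) * y * s := by rw [h]; group
          _ = z * (s * y) * s := by rw [hsz]; group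
          _ = (z * z) * y * (s * s) := by rw [h]; group
          _ = y * (s * s) := by rw [m.zz, one_mul]
      exact h1.symm
  · rcases (hall y hy).2 s hs with h | h
    · left; rw [h]; group
    · right; rw [h]; group

theorem Y_le_o2 (m : Md S V z L Y) : Y ≤ o2 (centralizer ({z} : Set G)) := by
  rw [← m.ws_eq]; exact m.geo.ws_le_o2

/-- `[V_p, O₂(C(z))] ≤ V` -/
theorem comm_o2 (m : Md S V z L Y) {p : G} (hp : p ∈ V) (hp1 : p ≠ 1) (hpz : p ≠ z) {a s : G} (ha : a ∈ ws V p)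
    (hs : s ∈ o2 (centralizer ({z} : Set G))) : a * s * a⁻¹ * s⁻¹ ∈ V := by
  have hsY := m.o2_le_CY hs
  have hsV : s ∈ centralizer (V : Set G) := centralizer_le m.V_sub_Y hsY
  have haC : a ∈ centralizer ({z} : Set G) := m.CV_le m.z_mem (m.ws_le_CV hp hp1 ha)
  have h1 : a * s * a⁻¹ * s⁻¹ ∈ ws V p := by
    have h1 := (mem_normalizer_iff.1 (m.CV_nor hp hsV) _).1 (inv_mem ha)
    have e : a * s * a⁻¹ * s⁻¹ = a * (s * a⁻¹ * s⁻¹) := by group
    rw [e]; exact mul_mem ha h1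
  have h2 : a * s * a⁻¹ * s⁻¹ ∈ o2 (centralizer ({z} : Set G)) :=
    mul_mem ((mem_normalizer_iff.1 (Cfsg.Agent.ZN.le_normalizer_o2 _ haC) s).1 hs) (inv_mem hs)
  refine m.mem_V_of_cent hp hp1 m.z_mem m.z_ne hpz h1 ?_
  rw [m.ws_eq]
  exact m.o2_le_CY h2

/-- `[L, O₂(C(z))] ≤ Y` -/
theorem comm_L (m : Md S V z L Y) {l s : G} (hl : l ∈ L) (hs : s ∈ o2 (centralizer ({z} : Set G))) :
    l * s * l⁻¹ * s⁻¹ ∈ Y := by
  set C := centralizer ({z} : Set G) with hC
  have hQn : ∀ c ∈ C, ∀ s ∈ o2 C, c * s * c⁻¹ ∈ o2 C := fun c hc s hs =>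
    (mem_normalizer_iff.1 (Cfsg.Agent.ZN.le_normalizer_o2 C hc) s).1 hs
  let K : Subgroup G :=
    { carrier := {c | c ∈ C ∧ ∀ s ∈ o2 C, c * s * c⁻¹ * s⁻¹ ∈ Y}
      mul_mem' := by
        rintro a b ⟨ha, ha1⟩ ⟨hb, hb1⟩
        refine ⟨mul_mem ha hb, fun s hs => ?_⟩
        have e : a * b * s * (a * b)⁻¹ * s⁻¹ = a * (b * s * b⁻¹ * s⁻¹) * a⁻¹ * (a * s * a⁻¹ * s⁻¹) := by group
        rw [e]
        exact mul_mem (m.conjY ha (hb1 s hs)) (ha1 s hs)
      one_mem' := ⟨one_mem _, fun s _ => by simp⟩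
      inv_mem' := by
        rintro a ⟨ha, ha1⟩
        refine ⟨inv_mem ha, fun s hs => ?_⟩
        have h1 := m.conjY (inv_mem ha) (inv_mem (ha1 s hs))
        have e : a⁻¹ * s * a⁻¹⁻¹ * s⁻¹ = a⁻¹ * (a * s * a⁻¹ * s⁻¹)⁻¹ * a⁻¹⁻¹ := by group
        rw [e]; exact h1 }
  have hKn : C ≤ normalizer (K : Set G) := by
    refine Block.le_normalizer_of_forall fun c hc k hk => ?_
    refine ⟨mul_mem (mul_mem hc hk.1) (inv_mem hc), fun s hs => ?_⟩
    have h1 := hk.2 (c⁻¹ * s * c) (by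
      have := hQn c⁻¹ (inv_mem hc) s hs
      rwa [inv_inv] at this)
    have e : c * k * c⁻¹ * s * (c * k * c⁻¹)⁻¹ * s⁻¹ = c * (k * (c⁻¹ * s * c) * k⁻¹ * (c⁻¹ * s * c)⁻¹) * c⁻¹ := by group
    rw [e]
    exact m.conjY hc h1
  suffices hLK : L ⊓ K = L by
    rw [← hLK] at hl
    exact hl.2.2 s hs
  by_contra hne
  have hn : C ≤ normalizer ((L ⊓ K : Subgroup G) : Set G) := by
    intro g hg
    rw [mem_normalizer_iff_cj, cj_inf, cj_eq_of_mem_normalizer (m.L_nor hg), cj_eq_of_mem_normalizer (hKn hg)]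
  have hLKY : L ⊓ K ≤ centralizer (Y : Set G) := by
    have h1 := m.le_o2_of inf_le_left hn hne
    exact h1.trans m.o2_le_CY
  obtain ⟨p, hp, hp1, hpz⟩ := m.geo.exists_y
  apply m.not_com hp hp1 m.z_mem m.z_ne hpz
  rw [m.ws_eq]
  intro a ha y hy
  have haCV := m.ws_le_CV hp hp1 ha
  have haC : a ∈ C := m.CV_le m.z_mem haCV
  have haK : a ∈ K := ⟨haC, fun s hs => m.V_sub_Y (m.comm_o2 hp hp1 hpz ha hs)⟩
  have haz : a * z = z * a := mem_centralizer_singleton_iff.1 haC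
  -- `C_Y(a)` is `L`-invariant
  have hinv : ∀ l ∈ L, ∀ y ∈ Y, a * y = y * a → a * (l * y * l⁻¹) = (l * y * l⁻¹) * a := by
    intro l hl y hy hay
    have h1 : a * l * a⁻¹ * l⁻¹ ∈ L ⊓ K := by
      refine mem_inf.2 ⟨mul_mem ((mem_normalizer_iff.1 (m.L_nor haC) l).1 hl) (inv_mem hl), ?_⟩
      have h2 := (mem_normalizer_iff.1 (hKn (m.L_le hl)) _).1 (inv_mem haK)
      have e : a * l * a⁻¹ * l⁻¹ = a * (l * a⁻¹ * l⁻¹) := by group
      rw [e]; exact mul_mem haK h2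
    have h2 := mem_centralizer_iff.1 (hLKY h1) _ (m.conjY (m.L_le hl) hy)
    have h3 : a * (l * y * l⁻¹) * a⁻¹ = l * y * l⁻¹ := by
      calc a * (l * y * l⁻¹) * a⁻¹ = (a * l * a⁻¹ * l⁻¹) * (l * (a * y * a⁻¹) * l⁻¹) * (a * l * a⁻¹ * l⁻¹)⁻¹ := by group
        _ = (a * l * a⁻¹ * l⁻¹) * (l * y * l⁻¹) * (a * l * a⁻¹ * l⁻¹)⁻¹ := by rw [hay, mul_inv_cancel_right]
        _ = l * y * l⁻¹ := by rw [← h2, mul_inv_cancel_right]
    rw [mul_inv_eq_iff_eq_mul] at h3
    exact h3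
  by_cases h1 : y = 1
  · rw [h1]; group
  by_cases h2 : y = z
  · rw [h2]; exact haz
  have hap : a * p = p * a := (mem_centralizer_iff.1 haCV p hp).symm
  obtain ⟨l, hl, h3 | h3⟩ := m.trans_Y (m.V_sub_Y hp) hp1 hpz hy h1 h2
  · rw [← h3]
    exact hinv l hl p (m.V_sub_Y hp) hap
  · have h4 := hinv l hl p (m.V_sub_Y hp) hap
    rw [h3] at h4
    have h5 : z * (a * y) = z * (y * a) := by
      calc z * (a * y) = (z * a) * y := by group
        _ = a * (z * y) := by rw [← haz]; group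
        _ = z * (y * a) := by rw [h4]; group
    exact mul_left_cancel h5

end Md

end Cfsg.Agent.OddCyclic.EmpLine
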