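import Mathlib
import Cfsg.Agent.OddCyclic.EmpLine.BcI

/-!
# The exits, type (1\3) of `C(z)`: `V_r ≤ V_p V_z`
-/

set_option autoImplicit false
set_option linter.unusedSectionVars false

namespace Cfsg.Agent.OddCyclic.EmpLine

open Subgroup Cfsg Cfsg.Agent.ZN Cfsg.Agent.ZN.ChoiceBase Cfsg.Agent.ZN.ChoiceSit
open Cfsg.Agent.MinSimple Cfsg.Agent.MinSimple.EmptyTI Cfsg.Agent.MinSimple.EmptySix
open Cfsg.Agent.MinSimple.Geo (ws lines le_ws ws_le inv_eq_self mem_zpowers_iff_of_mul_self)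
open Cfsg.Agent.OddCyclic.GeoC (GeoC)
open Cfsg.Agent.OddCyclic.EN.Pi (Com)
open scoped commutatorElement

universe u

variable {G : Type u} [Group G] [Finite G]

/-- `{e ∈ C(V) : [e, Y] ≤ V}` -/
def DD (V Y : Subgroup G) : Subgroup G where
  carrier := {e | e ∈ centralizer (V : Set G) ∧ ∀ y ∈ Y, e * y * e⁻¹ * y⁻¹ ∈ V}
  mul_mem' := by
    rintro e f ⟨he, he1⟩ ⟨hf, hf1⟩
    refine ⟨mul_mem he hf, fun y hy => ?_⟩
    have h1 := mem_centralizer_iff.1 he _ (hf1 y hy)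
    have e1 : e * f * y * (e * f)⁻¹ * y⁻¹ = e * (f * y * f⁻¹ * y⁻¹) * e⁻¹ * (e * y * e⁻¹ * y⁻¹) := by group
    rw [e1, ← h1, mul_inv_cancel_right]
    exact mul_mem (hf1 y hy) (he1 y hy)
  one_mem' := ⟨one_mem _, fun y _ => by simp⟩
  inv_mem' := by
    rintro e ⟨he, he1⟩
    refine ⟨inv_mem he, fun y hy => ?_⟩
    have h1 := mem_centralizer_iff.1 (inv_mem he) _ (inv_mem (he1 y hy))
    have e1 : e⁻¹ * y * e⁻¹⁻¹ * y⁻¹ = e⁻¹ * (e * y * e⁻¹ * y⁻¹)⁻¹ * e⁻¹⁻¹ := by group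
    rw [e1, ← h1, mul_inv_cancel_right]
    exact inv_mem (he1 y hy)

/-- `e ↦ [e, y]` -/
def dV {V Y : Subgroup G} (hV : ∀ a ∈ V, ∀ b ∈ V, a * b = b * a) {y : G} (hy : y ∈ Y) : DD V Y →* V where
  toFun e := ⟨e * y * (e : G)⁻¹ * y⁻¹, e.2.2 y hy⟩
  map_one' := Subtype.ext (by simp)
  map_mul' e f := Subtype.ext (by
    change (e : G) * f * y * ((e : G) * f)⁻¹ * y⁻¹ = (e * y * (e : G)⁻¹ * y⁻¹) * (f * y * (f : G)⁻¹ * y⁻¹)
    have h1 := mem_centralizer_iff.1 e.2.1 _ (f.2.2 y hy)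
    rw [hV _ (e.2.2 y hy) _ (f.2.2 y hy)]
    calc (e : G) * f * y * ((e : G) * f)⁻¹ * y⁻¹ =
        (e : G) * (f * y * (f : G)⁻¹ * y⁻¹) * (e : G)⁻¹ * (e * y * (e : G)⁻¹ * y⁻¹) := by group
      _ = (f * y * (f : G)⁻¹ * y⁻¹) * (e * y * (e : G)⁻¹ * y⁻¹) := by rw [← h1, mul_inv_cancel_right])

namespace Md

variable {S V : Subgroup G} {z : G} {L Y : Subgroup G}

theorem x3 {x : G} (h3 : orderOf x = 3) : x * x * x = 1 := by
  have h1 := pow_orderOf_eq_one x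
  rw [h3, pow_succ, pow_two] at h1
  exact h1

theorem conj_ws (m : Md S V z L Y) {x : G} (hx : x ∈ centralizer (V : Set G)) {a : G} (ha : a ∈ V) {w : G}
    (hw : w ∈ ws V a) : x * w * x⁻¹ ∈ ws V a := (mem_normalizer_iff.1 (m.CV_nor ha hx) w).1 hw

/-- `w w^x w^{x²} ∈ V` -/
theorem norm_mem (m : Md S V z L Y) {x : G} (hx : x ∈ centralizer (V : Set G)) (h3 : orderOf x = 3) {a : G}
    (ha : a ∈ V) (ha1 : a ≠ 1) {w : G} (hw : w ∈ ws V a) :
    w * (x * w * x⁻¹) * (x * (x * w * x⁻¹) * x⁻¹) ∈ V := by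
  have h1 := m.conj_ws hx ha hw
  have h2 := m.conj_ws hx ha h1
  refine m.mem_V_of_comm hx h3 ha ha1 (mul_mem (mul_mem hw h1) h2) ?_
  have h4 : x * (x * (x * w * x⁻¹) * x⁻¹) * x⁻¹ = w := by
    calc x * (x * (x * w * x⁻¹) * x⁻¹) * x⁻¹ = (x * x * x) * w * (x * x * x)⁻¹ := by group
      _ = w := by rw [x3 h3]; group
  have h5 : x * (w * (x * w * x⁻¹) * (x * (x * w * x⁻¹) * x⁻¹)) * x⁻¹ =
      w * (x * w * x⁻¹) * (x * (x * w * x⁻¹) * x⁻¹) := by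
    calc x * (w * (x * w * x⁻¹) * (x * (x * w * x⁻¹) * x⁻¹)) * x⁻¹ =
        (x * w * x⁻¹) * (x * (x * w * x⁻¹) * x⁻¹) * (x * (x * (x * w * x⁻¹) * x⁻¹) * x⁻¹) := by group
      _ = ((x * w * x⁻¹) * (x * (x * w * x⁻¹) * x⁻¹)) * w := by rw [h4]
      _ = w * ((x * w * x⁻¹) * (x * (x * w * x⁻¹) * x⁻¹)) := m.ws_comm ha ha1 _ (mul_mem h1 h2) _ hw
      _ = w * (x * w * x⁻¹) * (x * (x * w * x⁻¹) * x⁻¹) := by group
  rw [mul_inv_eq_iff_eq_mul] at h5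
  exact h5.symm

theorem ws_le_DD (m : Md S V z L Y) {p : G} (hp : p ∈ V) (hp1 : p ≠ 1) (hpz : p ≠ z) : ws V p ≤ DD V Y := by
  intro e he
  refine ⟨m.ws_le_CV hp hp1 he, fun y hy => ?_⟩
  refine m.comm_V hp hp1 m.z_mem m.z_ne hpz he ?_
  rw [m.ws_eq]; exact hy

/-- the elements of `DD` with `[e, y], [e, y^x] ∈ ⟨z⟩` -/
theorem mem_CY (m : Md S V z L Y) {x : G} (hx : x ∈ centralizer (V : Set G)) (h3 : orderOf x = 3) {y : G} (hy : y ∈ Y)
    (hyV : y ∉ V) {e : G} (he : e ∈ DD V Y) (h1 : e * y * e⁻¹ * y⁻¹ ∈ zpowers z)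
    (h2 : e * (x * y * x⁻¹) * e⁻¹ * (x * y * x⁻¹)⁻¹ ∈ zpowers z) : e ∈ centralizer (Y : Set G) := by
  have hzY : ∀ y ∈ Y, ∀ f ∈ zpowers z, y * f * y⁻¹ = f := by
    intro y hy f hf
    rcases (mem_zpowers_iff_of_mul_self m.zz).1 hf with rfl | rfl
    · group
    · rw [m.Y_comm y hy _ m.z_Y, mul_inv_cancel_right]
  let B : Subgroup G :=
    { carrier := {y | y ∈ Y ∧ e * y * e⁻¹ * y⁻¹ ∈ zpowers z}
      mul_mem' := by
        rintro a b ⟨ha, ha1⟩ ⟨hb, hb1⟩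
        refine ⟨mul_mem ha hb, ?_⟩
        have e1 : e * (a * b) * e⁻¹ * (a * b)⁻¹ = (e * a * e⁻¹ * a⁻¹) * (a * (e * b * e⁻¹ * b⁻¹) * a⁻¹) := by group
        rw [e1, hzY a ha _ hb1]
        exact mul_mem ha1 hb1
      one_mem' := ⟨one_mem _, by simp⟩
      inv_mem' := by
        rintro a ⟨ha, ha1⟩
        refine ⟨inv_mem ha, ?_⟩
        have e1 : e * a⁻¹ * e⁻¹ * a⁻¹⁻¹ = a⁻¹ * (e * a * e⁻¹ * a⁻¹)⁻¹ * a⁻¹⁻¹ := by group
        rw [e1, hzY a⁻¹ (inv_mem ha) _ (inv_mem ha1)]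
        exact inv_mem ha1 }
  have hVB : V ≤ B := by
    intro v hv
    refine ⟨m.V_sub_Y hv, ?_⟩
    have h4 := mem_centralizer_iff.1 he.1 v hv
    have e1 : e * v * e⁻¹ * v⁻¹ = 1 := by rw [← h4]; group
    rw [e1]; exact one_mem _
  have hyw : y ∈ ws V z := by rw [m.ws_eq]; exact hy
  have hxC : x ∈ centralizer ({z} : Set G) := m.CV_le m.z_mem hx
  have hyB : y ∈ B := ⟨hy, h1⟩
  have hy2B : x * y * x⁻¹ ∈ B := ⟨m.conjY hxC hy, h2⟩
  let B₂ : Subgroup G := V ⊔ (zpowers y ⊔ zpowers (x * y * x⁻¹))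
  have hVB₂ : V ≤ B₂ := le_sup_left
  have hyB₂ : y ∈ B₂ := mem_sup_right (mem_sup_left (mem_zpowers _))
  have hy2B₂ : x * y * x⁻¹ ∈ B₂ := mem_sup_right (mem_sup_right (mem_zpowers _))
  have hB₂B : B₂ ≤ B := sup_le hVB (sup_le (by rwa [zpowers_le]) (by rwa [zpowers_le]))
  have hBY : B ≤ Y := fun y hy => hy.1
  have hxB₂ : x ∈ normalizer (B₂ : Set G) := by
    rw [mem_normalizer_iff_cj]
    refine Subgroup.eq_of_le_of_card_ge ?_ (by rw [card_cj])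
    rw [cj_le_iff]
    refine sup_le ?_ (sup_le ?_ ?_)
    · intro v hv
      rw [mem_cj, inv_inv]
      have h4 := mem_centralizer_iff.1 hx v hv
      rw [← h4, mul_inv_cancel_right]
      exact hVB₂ hv
    · rw [zpowers_le, mem_cj, inv_inv]
      exact hy2B₂
    · rw [zpowers_le, mem_cj, inv_inv]
      have h4 := m.norm_mem hx h3 m.z_mem m.z_ne hyw
      have h5 := mul_mem (inv_mem (mul_mem hyB₂ hy2B₂)) (hVB₂ h4)
      rw [← mul_assoc, inv_mul_cancel, one_mul] at h5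
      exact h5
  have hB₂ : B₂ = Y := by
    rcases m.eq_or hx h3 m.z_mem m.z_ne hVB₂ ((hB₂B.trans hBY).trans_eq m.ws_eq.symm) hxB₂ with h4 | h4
    · exfalso
      apply hyV
      rw [← h4]; exact hyB₂
    · rw [h4, m.ws_eq]
  have heC : e ∈ centralizer ({z} : Set G) := m.CV_le m.z_mem he.1
  refine m.le_of_small (e := z) heC ?_ fun u hu => ?_
  · rw [mem_centralizer_iff]
    intro u hu
    set v := e * u * e⁻¹ * u⁻¹ with hv
    have hvV : v ∈ V := he.2 u hu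
    have hev := mem_centralizer_iff.1 he.1 v hvV
    have h5 : e * u * e⁻¹ = v * u := by rw [hv]; group
    have h6 : e * e * u * (e * e)⁻¹ = u := by
      calc e * e * u * (e * e)⁻¹ = e * (e * u * e⁻¹) * e⁻¹ := by group
        _ = (e * v) * u * e⁻¹ := by rw [h5]; group
        _ = v * (e * u * e⁻¹) := by rw [← hev]; group
        _ = u := by rw [h5, ← mul_assoc, m.sq v hvV, one_mul]
    rw [mul_inv_eq_iff_eq_mul] at h6
    exact h6.symm
  · rw [← hB₂] at hu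
    exact (mem_zpowers_iff_of_mul_self m.zz).1 (hB₂B hu).2

/-- `V_r ≤ V_p C(Y)` -/
theorem cover (m : Md S V z L Y) {p r : G} (hp : p ∈ V) (hp1 : p ≠ 1) (hpz : p ≠ z) (hr : r ∈ V) (hr1 : r ≠ 1)
    (hrz : r ≠ z) {b : G} (hb : b ∈ ws V r) : ∃ a ∈ ws V p, a⁻¹ * b ∈ centralizer (Y : Set G) := by
  obtain ⟨x, hx, h3⟩ := m.exists_three_CV
  have hVc : ∀ a ∈ V, ∀ b ∈ V, a * b = b * a := fun a ha b hb => m.geo.comm ha hb
  have hxC : x ∈ centralizer ({z} : Set G) := m.CV_le m.z_mem hx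
  obtain ⟨y, hy, hyV⟩ : ∃ y ∈ Y, y ∉ V := by
    by_contra hcon
    push Not at hcon
    have h1 := Subgroup.card_dvd_of_le (show Y ≤ V from hcon)
    rw [m.card, m.card_V] at h1
    omega
  have hy2 := m.conjY hxC hy
  let Z₀ : Subgroup V := (zpowers z).subgroupOf V
  have hZn : Z₀.Normal := by
    refine ⟨fun n hn g => ?_⟩
    have e : g * n * g⁻¹ = n := by
      apply Subtype.ext
      change (g : G) * n * (g : G)⁻¹ = n
      rw [hVc _ g.2 _ n.2, mul_inv_cancel_right]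
    rw [e]; exact hn
  have hZc : Nat.card (V ⧸ Z₀) = 2 := by
    have h1 := Z₀.card_mul_index
    have h2 : Nat.card Z₀ = 2 := by
      rw [Nat.card_congr (Subgroup.subgroupOfEquivOfLe (show zpowers z ≤ V by rw [zpowers_le]; exact m.z_mem)).toEquiv,
        Nat.card_zpowers]
      exact orderOf_eq_prime (by rw [pow_two]; exact m.zz) m.z_ne
    rw [h2, m.card_V] at h1
    change Z₀.index = 2
    omega
  let μ : V →* V ⧸ Z₀ := QuotientGroup.mk' Z₀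
  have hμ : ∀ v : V, μ v = 1 ↔ (v : G) ∈ zpowers z := fun v => by
    rw [← MonoidHom.mem_ker, QuotientGroup.ker_mk', mem_subgroupOf]
  let γ : DD V Y →* (V ⧸ Z₀) × (V ⧸ Z₀) := (μ.comp (dV hVc hy)).prod (μ.comp (dV hVc hy2))
  have hγ : ∀ e : DD V Y, γ e = 1 → (e : G) ∈ centralizer (Y : Set G) := by
    intro e he
    have h1 : μ (dV hVc hy e) = 1 := congrArg Prod.fst he
    have h2 : μ (dV hVc hy2 e) = 1 := congrArg Prod.snd he
    rw [hμ] at h1 h2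
    exact m.mem_CY hx h3 hy hyV e.2 h1 h2
  let γp : ws V p →* (V ⧸ Z₀) × (V ⧸ Z₀) := γ.comp (inclusion (m.ws_le_DD hp hp1 hpz))
  have hker : γp.ker ≤ V.subgroupOf (ws V p) := by
    intro a ha
    rw [mem_subgroupOf]
    have h1 := hγ _ (show γ (inclusion (m.ws_le_DD hp hp1 hpz) a) = 1 from ha)
    refine m.mem_V_of_cent hp hp1 m.z_mem m.z_ne hpz a.2 ?_
    rw [m.ws_eq]
    exact h1
  have hrange : γp.range = ⊤ := by
    apply Subgroup.eq_top_of_le_card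
    rw [Nat.card_prod, hZc]
    have h1 : Nat.card γp.ker * Nat.card γp.range = 16 := by
      rw [← Subgroup.index_ker, Subgroup.card_mul_index, m.card_ws hp hp1]
    have h2 : Nat.card γp.ker ≤ 4 := by
      have h4 := Nat.card_le_card_of_injective _ (inclusion_injective hker)
      rw [Nat.card_congr (Subgroup.subgroupOfEquivOfLe (m.V_le_ws hp hp1)).toEquiv, m.card_V] at h4
      exact h4
    by_contra hcon
    push Not at hcon
    have h5 : Nat.card γp.ker * Nat.card γp.range ≤ 4 * 3 := Nat.mul_le_mul h2 (by omega)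
    omega
  have h1 : γ ⟨b, m.ws_le_DD hr hr1 hrz hb⟩ ∈ γp.range := by rw [hrange]; trivial
  obtain ⟨a, ha⟩ := h1
  refine ⟨a, a.2, ?_⟩
  have h2 : γ ((inclusion (m.ws_le_DD hp hp1 hpz) a)⁻¹ * ⟨b, m.ws_le_DD hr hr1 hrz hb⟩) = 1 := by
    rw [map_mul, map_inv, ← ha]
    exact inv_mul_cancel _
  exact hγ _ h2

end Md

end Cfsg.Agent.OddCyclic.EmpLine
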