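import Mathlib
import Cfsg.Agent.OddCyclic.EmpLine.BcJ

/-!
# The exits, type (1\3) of `C(z)`: contradiction (9 does not divide 60)
-/

set_option autoImplicit false
set_option linter.unusedSectionVars false

namespace Cfsg.Agent.OddCyclic.EmpLine

open Subgroup Cfsg Cfsg.Agent.ZN Cfsg.Agent.ZN.ChoiceBase Cfsg.Agent.ZN.ChoiceSit
open Cfsg.Agent.MinSimple Cfsg.Agent.MinSimple.EmptyTI Cfsg.Agent.MinSimple.EmptySix
open Cfsg.Agent.MinSimple.Geo (ws lines le_ws ws_le inv_eq_self mem_zpowers_iff_of_mul_self)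
open Cfsg.Agent.OddCyclic.GeoC (GeoC)
open Cfsg.Agent.OddCyclic.EN.Pi (Com)
open scoped commutatorElement

universe u

section quad

variable {Q : Type*} [Group Q] {A B : Fin 3 → Q}

theorem quad1 (hAB : ∀ i j, Commute (A i) (B j)) (hA : A 0 * A 1 * A 2 = 1) (hB : B 0 * B 1 * B 2 = 1) :
    (A 0 * B 0) * (A 1 * B 1) * (A 2 * B 2) = 1 := by
  calc (A 0 * B 0) * (A 1 * B 1) * (A 2 * B 2) = A 0 * (B 0 * A 1) * (B 1 * A 2) * B 2 := by group
    _ = A 0 * (A 1 * B 0) * (A 2 * B 1) * B 2 := by rw [(hAB 1 0).eq, (hAB 2 1).eq]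
    _ = A 0 * A 1 * (B 0 * A 2) * B 1 * B 2 := by group
    _ = A 0 * A 1 * (A 2 * B 0) * B 1 * B 2 := by rw [(hAB 2 0).eq]
    _ = (A 0 * A 1 * A 2) * (B 0 * B 1 * B 2) := by group
    _ = 1 := by rw [hA, hB, one_mul]

theorem quad_comm (hAA : ∀ i j, Commute (A i) (A j)) (hBB : ∀ i j, Commute (B i) (B j))
    (hAB : ∀ i j, Commute (A i) (B j)) (i j : Fin 3) : Commute (A i * B i) (A j * B j) :=
  ((hAA i j).mul_right (hAB i j)).mul_left ((hAB j i).symm.mul_right (hBB i j))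

theorem quad_sq (hAB : ∀ i j, Commute (A i) (B j)) (hA2 : ∀ i, A i * A i = 1) (hB2 : ∀ i, B i * B i = 1) (i : Fin 3) :
    (A i * B i) * (A i * B i) = 1 := by
  calc (A i * B i) * (A i * B i) = A i * (B i * A i) * B i := by group
    _ = (A i * A i) * (B i * B i) := by rw [← (hAB i i).eq]; group
    _ = 1 := by rw [hA2, hB2, one_mul]

theorem quad2 (hAA : ∀ i j, Commute (A i) (A j)) (hBB : ∀ i j, Commute (B i) (B j))
    (hAB : ∀ i j, Commute (A i) (B j)) (hA2 : ∀ i, A i * A i = 1) (hB2 : ∀ i, B i * B i = 1)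
    (hA : A 0 * A 1 * A 2 = 1) (hB : B 0 * B 1 * B 2 = 1) :
    (A 1 * B 1) * (A 2 * B 2)⁻¹ * (A 1 * B 1) * (A 0 * B 0)⁻¹ = A 1 * B 1 := by
  have h1 := quad1 hAB hA hB
  have hc := quad_comm hAA hBB hAB
  have hs := quad_sq hAB hA2 hB2
  have h2 : (A 2 * B 2) * (A 0 * B 0) * ((A 2 * B 2) * (A 0 * B 0)) = 1 := by
    calc (A 2 * B 2) * (A 0 * B 0) * ((A 2 * B 2) * (A 0 * B 0)) =
        (A 2 * B 2) * ((A 0 * B 0) * (A 2 * B 2)) * (A 0 * B 0) := by group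
      _ = ((A 2 * B 2) * (A 2 * B 2)) * ((A 0 * B 0) * (A 0 * B 0)) := by rw [(hc 0 2).eq]; group
      _ = 1 := by rw [hs, hs, one_mul]
  have h3 : A 1 * B 1 = (A 2 * B 2) * (A 0 * B 0) := by
    have h4 : A 1 * B 1 = ((A 2 * B 2) * (A 0 * B 0))⁻¹ := by
      have h5 : A 1 * B 1 = (A 0 * B 0)⁻¹ * ((A 0 * B 0) * (A 1 * B 1) * (A 2 * B 2)) * (A 2 * B 2)⁻¹ := by group
      rw [h5, h1]; group
    rw [h4]
    exact inv_eq_of_mul_eq_one_left h2
  calc (A 1 * B 1) * (A 2 * B 2)⁻¹ * (A 1 * B 1) * (A 0 * B 0)⁻¹ =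
      (A 1 * B 1) * ((A 2 * B 2)⁻¹ * (A 1 * B 1) * (A 0 * B 0)⁻¹) := by group
    _ = A 1 * B 1 := by rw [h3]; group

end quad

variable {G : Type u} [Group G] [Finite G]

namespace Md

variable {S V : Subgroup G} {z : G} {L Y : Subgroup G}

/-- the data for a product `u w`, `u ∈ V_a`, `w ∈ V_b` -/
theorem exists_AB (m : Md S V z L Y) {Q : Type u} [Group Q] {κ : centralizer (V : Set G) →* Q}
    (hκ : ∀ u, κ u = 1 ↔ (u : G) ∈ V) {x : centralizer (V : Set G)} (h3 : orderOf (x : G) = 3) {a b : G} (ha : a ∈ V)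
    (ha1 : a ≠ 1) (hb : b ∈ V) (hb1 : b ≠ 1) (hab : a ≠ b) {u w : centralizer (V : Set G)} (hu : (u : G) ∈ ws V a)
    (hw : (w : G) ∈ ws V b) : ∃ A B : Fin 3 → Q, (∀ i j, Commute (A i) (A j)) ∧ (∀ i j, Commute (B i) (B j)) ∧
      (∀ i j, Commute (A i) (B j)) ∧ (∀ i, A i * A i = 1) ∧ (∀ i, B i * B i = 1) ∧ A 0 * A 1 * A 2 = 1 ∧
      B 0 * B 1 * B 2 = 1 ∧ A 0 = κ u ∧ B 0 = κ w ∧ A 1 = κ (x * u * x⁻¹) ∧ B 1 = κ (x * w * x⁻¹) ∧
      A 2 = κ (x * (x * u * x⁻¹) * x⁻¹) ∧ B 2 = κ (x * (x * w * x⁻¹) * x⁻¹) := by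
  have hx := x.2
  let f : G → centralizer (V : Set G) → Fin 3 → centralizer (V : Set G) := fun _ u =>
    ![u, x * u * x⁻¹, x * (x * u * x⁻¹) * x⁻¹]
  have key : ∀ c ∈ V, c ≠ 1 → ∀ t : centralizer (V : Set G), (t : G) ∈ ws V c → ∀ i, ((f c t i : centralizer (V : Set G)) : G) ∈ ws V c := by
    intro c hc _ t ht i
    have h1 := m.conj_ws hx hc ht
    have h2 := m.conj_ws hx hc h1
    fin_cases i
    · exact ht
    · exact h1
    · exact h2
  have kk : ∀ s t : centralizer (V : Set G), (s : G) * t * (s : G)⁻¹ * (t : G)⁻¹ ∈ V → Commute (κ s) (κ t) := by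
    intro s t h
    have h1 : κ (s * t * s⁻¹ * t⁻¹) = 1 := (hκ _).2 h
    rw [map_mul, map_mul, map_mul, map_inv, map_inv, mul_inv_eq_one, mul_inv_eq_iff_eq_mul] at h1
    exact h1
  have kc : ∀ c ∈ V, c ≠ 1 → ∀ s t : centralizer (V : Set G), (s : G) ∈ ws V c → (t : G) ∈ ws V c →
      Commute (κ s) (κ t) := by
    intro c hc hc1 s t hs ht
    apply kk
    rw [m.ws_comm hc hc1 _ hs _ ht]
    have e : (t : G) * s * (s : G)⁻¹ * (t : G)⁻¹ = 1 := by group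
    rw [e]; exact one_mem _
  have ks : ∀ c ∈ V, c ≠ 1 → ∀ s : centralizer (V : Set G), (s : G) ∈ ws V c → κ s * κ s = 1 := by
    intro c hc hc1 s hs
    rw [← map_mul]
    rw [hκ]
    change (s : G) * s ∈ V
    rw [m.ws_sq' hc hc1 hs]
    exact one_mem _
  have kn : ∀ c ∈ V, c ≠ 1 → ∀ s : centralizer (V : Set G), (s : G) ∈ ws V c →
      κ s * κ (x * s * x⁻¹) * κ (x * (x * s * x⁻¹) * x⁻¹) = 1 := by
    intro c hc hc1 s hs
    rw [← map_mul, ← map_mul, hκ]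
    exact m.norm_mem hx h3 hc hc1 hs
  refine ⟨fun i => κ (f a u i), fun i => κ (f b w i), ?_, ?_, ?_, ?_, ?_, ?_, ?_, rfl, rfl, rfl, rfl, rfl, rfl⟩
  · exact fun i j => kc a ha ha1 _ _ (key a ha ha1 u hu i) (key a ha ha1 u hu j)
  · exact fun i j => kc b hb hb1 _ _ (key b hb hb1 w hw i) (key b hb hb1 w hw j)
  · exact fun i j => kk _ _ (m.comm_V ha ha1 hb hb1 hab (key a ha ha1 u hu i) (key b hb hb1 w hw j))
  · exact fun i => ks a ha ha1 _ (key a ha ha1 u hu i)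
  · exact fun i => ks b hb hb1 _ (key b hb hb1 w hw i)
  · exact kn a ha ha1 u hu
  · exact kn b hb hb1 w hw

/-- `V_p V_r ∩ C(Y) ≤ Y` -/
theorem mem_Y_of (m : Md S V z L Y) {p r : G} (hp : p ∈ V) (hp1 : p ≠ 1) (hr : r ∈ V) (hr1 : r ≠ 1)
    (hpr : p ≠ r) {u w : G} (hu : u ∈ ws V p) (hw : w ∈ ws V r) (hf : u * w ∈ centralizer (Y : Set G)) :
    u * w ∈ Y := by
  obtain ⟨x, hx, h3⟩ := m.exists_three_CV
  obtain ⟨Q, _, κ, hκ⟩ := exists_quot (V := V) fun a ha b hb => m.geo.comm ha hb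
  have huC := m.ws_le_CV hp hp1 hu
  have hwC := m.ws_le_CV hr hr1 hw
  obtain ⟨A, B, hAA, hBB, hAB, hA2, hB2, hA, hB, eA0, eB0, eA1, eB1, eA2, eB2⟩ :=
    m.exists_AB hκ (x := ⟨x, hx⟩) h3 hp hp1 hr hr1 hpr (u := ⟨u, huC⟩) (w := ⟨w, hwC⟩) hu hw
  have h1 := quad2 hAA hBB hAB hA2 hB2 hA hB
  have hxC : x ∈ centralizer ({z} : Set G) := m.CV_le m.z_mem hx
  have hxL : x ∈ L := m.mem_of_three hxC h3
  set f := u * w with hfdef
  have hfV : f ∈ centralizer (V : Set G) := mul_mem huC hwC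
  have hfC : f ∈ centralizer ({z} : Set G) := m.CV_le m.z_mem hfV
  -- `c = [f, x]`
  have hcL : f * (x * f⁻¹ * x⁻¹) ∈ L := by
    have h2 := mul_mem ((mem_normalizer_iff.1 (m.L_nor hfC) x).1 hxL) (inv_mem hxL)
    have e : f * (x * f⁻¹ * x⁻¹) = f * x * f⁻¹ * x⁻¹ := by group
    rw [e]; exact h2
  have hcY : f * (x * f⁻¹ * x⁻¹) ∈ centralizer (Y : Set G) := by
    refine mul_mem hf ?_
    rw [mem_centralizer_iff]
    intro y hy
    have h2 := mem_centralizer_iff.1 (inv_mem hf) _ (m.conjY (inv_mem hxC) hy)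
    calc y * (x * f⁻¹ * x⁻¹) = x * ((x⁻¹ * y * x⁻¹⁻¹) * f⁻¹) * x⁻¹ := by group
      _ = x * (f⁻¹ * (x⁻¹ * y * x⁻¹⁻¹)) * x⁻¹ := by rw [h2]
      _ = x * f⁻¹ * x⁻¹ * y := by group
  have hD : L ⊓ centralizer (Y : Set G) ≠ L := by
    intro h2
    exact m.L_Y (by rw [← h2]; exact inf_le_right)
  have hcQ := m.le_o2_of inf_le_left (m.inf_norm m.Y_nor) hD (mem_inf.2 ⟨hcL, hcY⟩)
  have hY := m.comm_L hxL hcQ
  have hf1 : x * f * x⁻¹ ∈ centralizer (V : Set G) := mul_mem (mul_mem hx hfV) (inv_mem hx)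
  have hf2 : x * (x * f * x⁻¹) * x⁻¹ ∈ centralizer (V : Set G) := mul_mem (mul_mem hx hf1) (inv_mem hx)
  have ef0 : κ ⟨f, hfV⟩ = A 0 * B 0 := by
    rw [eA0, eB0, ← map_mul]
    rfl
  have ef1 : κ ⟨x * f * x⁻¹, hf1⟩ = A 1 * B 1 := by
    rw [eA1, eB1, ← map_mul]
    congr 1
    apply Subtype.ext
    change x * f * x⁻¹ = (x * u * x⁻¹) * (x * w * x⁻¹)
    rw [hfdef]; group
  have ef2 : κ ⟨x * (x * f * x⁻¹) * x⁻¹, hf2⟩ = A 2 * B 2 := by
    rw [eA2, eB2, ← map_mul]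
    congr 1
    apply Subtype.ext
    change x * (x * f * x⁻¹) * x⁻¹ = (x * (x * u * x⁻¹) * x⁻¹) * (x * (x * w * x⁻¹) * x⁻¹)
    rw [hfdef]; group
  rw [← ef0, ← ef1, ← ef2, ← map_inv, ← map_inv, ← map_mul, ← map_mul, ← map_mul] at h1
  have h2 : κ ((⟨x * f * x⁻¹, hf1⟩ : centralizer (V : Set G))⁻¹ * (⟨x * f * x⁻¹, hf1⟩ *
      (⟨x * (x * f * x⁻¹) * x⁻¹, hf2⟩ : centralizer (V : Set G))⁻¹ * ⟨x * f * x⁻¹, hf1⟩ *
      (⟨f, hfV⟩ : centralizer (V : Set G))⁻¹)) = 1 := by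
    rw [map_mul, h1, map_inv, inv_mul_cancel]
  rw [hκ] at h2
  change (x * f * x⁻¹)⁻¹ * (x * f * x⁻¹ * (x * (x * f * x⁻¹) * x⁻¹)⁻¹ * (x * f * x⁻¹) * f⁻¹) ∈ V at h2
  have e : x * (f * (x * f⁻¹ * x⁻¹)) * x⁻¹ * (f * (x * f⁻¹ * x⁻¹))⁻¹ =
      x * f * x⁻¹ * (x * (x * f * x⁻¹) * x⁻¹)⁻¹ * (x * f * x⁻¹) * f⁻¹ := by group
  rw [← e] at h2
  have h4 : x * f * x⁻¹ ∈ Y := by
    have h5 := mul_mem hY (inv_mem (m.V_sub_Y h2))
    have e2 : x * (f * (x * f⁻¹ * x⁻¹)) * x⁻¹ * (f * (x * f⁻¹ * x⁻¹))⁻¹ *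
        ((x * f * x⁻¹)⁻¹ * (x * (f * (x * f⁻¹ * x⁻¹)) * x⁻¹ * (f * (x * f⁻¹ * x⁻¹))⁻¹))⁻¹ = x * f * x⁻¹ := by group
    rwa [e2] at h5
  have h5 := m.conjY (inv_mem hxC) h4
  have e3 : x⁻¹ * (x * f * x⁻¹) * x⁻¹⁻¹ = f := by group
  rwa [e3] at h5

/-- the elements of `V_a V_b` commuting with `x` -/
theorem mem_V_of_x (m : Md S V z L Y) {x : G} (hx : x ∈ centralizer (V : Set G)) (h3 : orderOf x = 3) {a b : G}
    (ha : a ∈ V) (ha1 : a ≠ 1) (hb : b ∈ V) (hb1 : b ≠ 1) (hab : a ≠ b) {u w : G} (hu : u ∈ ws V a) (hw : w ∈ ws V b)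
    (hd : x * (u * w) * x⁻¹ = u * w) : u * w ∈ V := by
  obtain ⟨Q, _, κ, hκ⟩ := exists_quot (V := V) fun a ha b hb => m.geo.comm ha hb
  have huC := m.ws_le_CV ha ha1 hu
  have hwC := m.ws_le_CV hb hb1 hw
  obtain ⟨A, B, hAA, hBB, hAB, hA2, hB2, hA, hB, eA0, eB0, eA1, eB1, eA2, eB2⟩ :=
    m.exists_AB hκ (x := ⟨x, hx⟩) h3 ha ha1 hb hb1 hab (u := ⟨u, huC⟩) (w := ⟨w, hwC⟩) hu hw
  have h1 := quad1 hAB hA hB
  have h2 := quad_sq hAB hA2 hB2 0
  have ef0 : κ ⟨u * w, mul_mem huC hwC⟩ = A 0 * B 0 := by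
    rw [eA0, eB0, ← map_mul]
    rfl
  have ef1 : κ ⟨u * w, mul_mem huC hwC⟩ = A 1 * B 1 := by
    rw [eA1, eB1, ← map_mul]
    congr 1
    apply Subtype.ext
    change u * w = (x * u * x⁻¹) * (x * w * x⁻¹)
    calc u * w = x * (u * w) * x⁻¹ := hd.symm
      _ = (x * u * x⁻¹) * (x * w * x⁻¹) := by group
  have ef2 : κ ⟨u * w, mul_mem huC hwC⟩ = A 2 * B 2 := by
    rw [eA2, eB2, ← map_mul]
    congr 1
    apply Subtype.ext
    change u * w = (x * (x * u * x⁻¹) * x⁻¹) * (x * (x * w * x⁻¹) * x⁻¹)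
    calc u * w = x * (u * w) * x⁻¹ := hd.symm
      _ = x * (x * (u * w) * x⁻¹) * x⁻¹ := by rw [hd, hd]
      _ = (x * (x * u * x⁻¹) * x⁻¹) * (x * (x * w * x⁻¹) * x⁻¹) := by group
  rw [← ef0, ← ef1, ← ef2] at h1
  rw [← ef0] at h2
  rw [h2, one_mul] at h1
  exact (hκ _).1 h1

/-- `V_r ≤ V_z V_p` -/
theorem ws_le_sup (m : Md S V z L Y) {p : G} (hp : p ∈ V) (hp1 : p ≠ 1) (hpz : p ≠ z) {r : G} (hr : r ∈ V)
    (hr1 : r ≠ 1) : ws V r ≤ ws V z ⊔ ws V p := by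
  by_cases hrz : r = z
  · rw [hrz]; exact le_sup_left
  by_cases hrp : r = p
  · rw [hrp]; exact le_sup_right
  intro b hb
  obtain ⟨a, ha, hab⟩ := m.cover hp hp1 hpz hr hr1 hrz hb
  have h1 := m.mem_Y_of hp hp1 hr hr1 (Ne.symm hrp) (inv_mem ha) hb hab
  have e : b = a * (a⁻¹ * b) := by group
  rw [e]
  refine mul_mem (mem_sup_right ha) (mem_sup_left ?_)
  rw [m.ws_eq]; exact h1

theorem norm_sup (m : Md S V z L Y) {p : G} (hp : p ∈ V) (hp1 : p ≠ 1) (hpz : p ≠ z) :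
    normalizer (V : Set G) ≤ normalizer ((ws V z ⊔ ws V p : Subgroup G) : Set G) := by
  intro n hn
  rw [mem_normalizer_iff_cj]
  refine Subgroup.eq_of_le_of_card_ge ?_ (by rw [card_cj])
  have hne : ∀ q ∈ V, q ≠ 1 → n * q * n⁻¹ ∈ V ∧ n * q * n⁻¹ ≠ 1 := by
    intro q hq hq1
    refine ⟨(mem_normalizer_iff.1 hn q).1 hq, fun h0 => hq1 ?_⟩
    have : q = n⁻¹ * (n * q * n⁻¹) * n := by group
    rw [this, h0]; group
  have e1 : cj n (ws V z) = ws V (n * z * n⁻¹) := Geo.cj_ws V n z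
  have e2 : cj n (ws V p) = ws V (n * p * n⁻¹) := Geo.cj_ws V n p
  rw [cj_le_iff]
  refine sup_le ?_ ?_
  · rw [← cj_le_iff, e1]
    obtain ⟨h1, h2⟩ := hne z m.z_mem m.z_ne
    exact m.ws_le_sup hp hp1 hpz h1 h2
  · rw [← cj_le_iff, e2]
    obtain ⟨h1, h2⟩ := hne p hp hp1
    exact m.ws_le_sup hp hp1 hpz h1 h2

theorem ws_norm (m : Md S V z L Y) {p : G} (hp : p ∈ V) (hp1 : p ≠ 1) :
    ws V p ≤ normalizer ((ws V z : Subgroup G) : Set G) := (m.ws_le_CV hp hp1).trans (m.CV_nor m.z_mem)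

theorem card_sup (m : Md S V z L Y) {p : G} (hp : p ∈ V) (hp1 : p ≠ 1) (hpz : p ≠ z) :
    Nat.card (ws V z ⊔ ws V p : Subgroup G) = 64 := by
  have h1 := T1Tools.card_sup_mul (m.ws_norm hp hp1)
  rw [m.inf_eq m.z_mem m.z_ne hp hp1 (Ne.symm hpz), m.card_V, m.card_ws m.z_mem m.z_ne, m.card_ws hp hp1] at h1
  omega

/-- the elements of `D = V_z V_p` commuting with `x` are in `V` -/
theorem mem_V_sup (m : Md S V z L Y) {p : G} (hp : p ∈ V) (hp1 : p ≠ 1) (hpz : p ≠ z) {x : G}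
    (hx : x ∈ centralizer (V : Set G)) (h3 : orderOf x = 3) {d : G} (hd : d ∈ ws V z ⊔ ws V p)
    (hxd : x * d = d * x) : d ∈ V := by
  have h1 := hd
  rw [← SetLike.mem_coe, coe_mul_of_right_le_normalizer_left _ _ (m.ws_norm hp hp1)] at h1
  obtain ⟨u, hu, w, hw, rfl⟩ := h1
  refine m.mem_V_of_x hx h3 m.z_mem m.z_ne hp hp1 (Ne.symm hpz) hu hw ?_
  change x * (u * w) = u * w * x at hxd
  rw [hxd, mul_inv_cancel_right]

/-- an element of order 9 in `N(V)` -/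
theorem exists_nine (m : Md S V z L Y) : ∃ g ∈ normalizer (V : Set G), orderOf g = 9 := by
  obtain ⟨x, hx, h3⟩ := m.exists_three_CV
  obtain ⟨p, hp, hp1, hpz⟩ := m.geo.exists_y
  have hzz := m.zz
  have hpp := m.sq p hp
  have hzp1 : z * p ≠ 1 := by
    intro h0
    apply hpz
    have := eq_inv_of_mul_eq_one_right h0
    rw [this, inv_eq_self hzz]
  obtain ⟨n, hn, hnz, hnp⟩ := m.exists_n2 m.z_mem m.z_ne hp hp1 (Ne.symm hpz) hp hp1 (mul_mem m.z_mem hp) hzp1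
    (fun h0 => m.z_ne (mul_eq_right.1 h0.symm))
  let ψ := V.normalizerMonoidHom
  have hψ : ∀ (g : normalizer (V : Set G)) (v : V), ((ψ g v : V) : G) = g * v * (g : G)⁻¹ := fun _ _ => rfl
  -- 3 divides the kernel
  have hk : 3 ∣ Nat.card ψ.ker := by
    have h1 : (⟨x, centralizer_le_normalizer _ hx⟩ : normalizer (V : Set G)) ∈ ψ.ker := by
      rw [Subgroup.normalizerMonoidHom_ker, mem_subgroupOf]
      exact hx
    have h2 : orderOf (⟨_, h1⟩ : ψ.ker) = 3 := by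
      rw [Subgroup.orderOf_mk, Subgroup.orderOf_mk, h3]
    rw [← h2]
    exact orderOf_dvd_natCard _
  have hr : 3 ∣ Nat.card ψ.range := by
    have h1 : ψ ⟨n, hn⟩ ^ 3 = 1 := by
      apply MulEquiv.ext
      intro v
      apply Subtype.ext
      change n * (n * (n * (v : G) * n⁻¹) * n⁻¹) * n⁻¹ = v
      have key : ∀ v ∈ V, n * (n * (n * v * n⁻¹) * n⁻¹) * n⁻¹ = v := by
        have hc := m.geo.comm hp m.z_mem
        have k1 : n * (n * (n * z * n⁻¹) * n⁻¹) * n⁻¹ = z := by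
          rw [hnz, hnp]
          calc n * (z * p) * n⁻¹ = (n * z * n⁻¹) * (n * p * n⁻¹) := by group
            _ = z := by rw [hnz, hnp, ← mul_assoc, hc, mul_assoc, hpp, mul_one]
        have k2 : n * (n * (n * p * n⁻¹) * n⁻¹) * n⁻¹ = p := by
          rw [hnp]
          calc n * (n * (z * p) * n⁻¹) * n⁻¹ = n * ((n * z * n⁻¹) * (n * p * n⁻¹)) * n⁻¹ := by group
            _ = n * (p * (z * p)) * n⁻¹ := by rw [hnz, hnp]
            _ = n * z * n⁻¹ := by rw [← mul_assoc p z p, hc, mul_assoc z p p, hpp, mul_one]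
            _ = p := hnz
        intro v hv
        rcases m.geo.four m.z_mem hp m.z_ne hp1 (Ne.symm hpz) hv with rfl | rfl | rfl | rfl
        · group
        · exact k1
        · exact k2
        · calc n * (n * (n * (z * p) * n⁻¹) * n⁻¹) * n⁻¹ =
              (n * (n * (n * z * n⁻¹) * n⁻¹) * n⁻¹) * (n * (n * (n * p * n⁻¹) * n⁻¹) * n⁻¹) := by group
            _ = z * p := by rw [k1, k2]
      exact key v v.2
    have h2 : ψ ⟨n, hn⟩ ≠ 1 := by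
      intro h0
      apply hpz
      have h4 := hψ ⟨n, hn⟩ ⟨z, m.z_mem⟩
      rw [h0] at h4
      have h5 : z = n * z * n⁻¹ := h4
      rw [hnz] at h5
      exact h5.symm
    have h4 : orderOf (ψ ⟨n, hn⟩) = 3 := by
      have : Fact (Nat.Prime 3) := ⟨Nat.prime_three⟩
      exact orderOf_eq_prime h1 h2
    have h6 : ψ ⟨n, hn⟩ ∈ ψ.range := MonoidHom.mem_range.2 ⟨_, rfl⟩
    have h5 : orderOf (⟨ψ ⟨n, hn⟩, h6⟩ : ψ.range) = 3 := by
      rw [Subgroup.orderOf_mk, h4]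
    rw [← h5]
    exact orderOf_dvd_natCard _
  have h9 : 3 ^ 2 ∣ Nat.card (normalizer (V : Set G)) := by
    have h1 := ψ.ker.card_mul_index
    rw [Subgroup.index_ker] at h1
    rw [← h1, pow_two]
    exact Nat.mul_dvd_mul hk hr
  have : Fact (Nat.Prime 3) := ⟨Nat.prime_three⟩
  obtain ⟨K, hK⟩ := Sylow.exists_subgroup_card_pow_prime (G := normalizer (V : Set G)) 3 h9
  have hK' : Nat.card (K.map (normalizer (V : Set G)).subtype) = 9 := by
    rw [Subgroup.card_map_of_injective (Subgroup.subtype_injective _), hK]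
    norm_num
  have hKp : IsPGroup 3 (K.map (normalizer (V : Set G)).subtype) := IsPGroup.of_card (n := 2) (by rw [hK']; norm_num)
  have hKc : IsCyclic (K.map (normalizer (V : Set G)).subtype) :=
    CompBasic.isCyclic_of_isPGroup m.cyc Nat.prime_three (by norm_num) hKp
  obtain ⟨g, hg⟩ := hKc.exists_ofOrder_eq_natCard
  rw [hK'] at hg
  refine ⟨g, ?_, ?_⟩
  · obtain ⟨k, -, hk⟩ := g.2
    rw [← hk]; exact k.2
  · rw [orderOf_coe, hg]

/-- **no type (1/3)** -/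
theorem false (m : Md S V z L Y) : False := by
  obtain ⟨g, hg, hg9⟩ := m.exists_nine
  obtain ⟨p, hp, hp1, hpz⟩ := m.geo.exists_y
  obtain ⟨x₀, hx₀, h3₀⟩ := m.exists_three_CV
  have h3 : orderOf (g ^ 3) = 3 := by
    rw [orderOf_pow, hg9]
    norm_num
  have h3V : 3 ∣ Nat.card (centralizer (V : Set G)) := by
    have h1 : orderOf (⟨x₀, hx₀⟩ : centralizer (V : Set G)) = 3 := by rw [Subgroup.orderOf_mk, h3₀]
    rw [← h1]; exact orderOf_dvd_natCard _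
  have hx : g ^ 3 ∈ centralizer (V : Set G) := by
    refine CompBasic.mem_of_le_normalizer m.cyc (centralizer_le_normalizer _) ?_ Nat.prime_three (by norm_num) h3V
      (pow_mem hg 3) h3
    intro n hn
    rw [mem_normalizer_iff_cj, cj_centralizer, cj_eq_of_mem_normalizer hn]
  set D : Subgroup G := ws V z ⊔ ws V p with hD
  have hgD : g ∈ normalizer (D : Set G) := m.norm_sup hp hp1 hpz hg
  have hVD : V ≤ D := (m.V_le_ws m.z_mem m.z_ne).trans le_sup_left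
  let β := {d : G // d ∈ D ∧ d ∉ V}
  have hβ : Nat.card β = 60 := by
    have h1 : Nat.card β = ((D : Set G) \ V).ncard := rfl
    have h2 : (D : Set G).ncard = 64 := m.card_sup hp hp1 hpz
    have h4 : (V : Set G).ncard = 4 := m.card_V
    rw [h1, Set.ncard_diff (by exact hVD), h2, h4]
  have hmem : ∀ k ∈ zpowers g, ∀ d : G, d ∈ D ∧ d ∉ V → k * d * k⁻¹ ∈ D ∧ k * d * k⁻¹ ∉ V := by
    rintro k hk d ⟨h1, h2⟩
    have hkV : k ∈ normalizer (V : Set G) := (zpowers_le.2 hg) hk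
    have hkD : k ∈ normalizer (D : Set G) := (zpowers_le.2 hgD) hk
    exact ⟨(mem_normalizer_iff.1 hkD d).1 h1, fun h0 => h2 ((mem_normalizer_iff.1 hkV d).2 h0)⟩
  let act : MulAction (zpowers g) β :=
    { smul := fun k d => ⟨(k : G) * d * (k : G)⁻¹, hmem k k.2 d d.2⟩
      one_smul := fun d => Subtype.ext (by
        change ((1 : zpowers g) : G) * d * ((1 : zpowers g) : G)⁻¹ = d
        rw [OneMemClass.coe_one]; group)
      mul_smul := fun k l d => Subtype.ext (by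
        change ((k * l : zpowers g) : G) * d * ((k * l : zpowers g) : G)⁻¹ = k * (l * d * (l : G)⁻¹) * (k : G)⁻¹
        rw [MulMemClass.coe_mul]; group) }
  have hstab : ∀ b : β, MulAction.stabilizer (zpowers g) b = ⊥ := by
    intro d
    rw [eq_bot_iff]
    rintro ⟨k, i, rfl⟩ hk
    rw [mem_bot]
    have h1 : g ^ i * (d : G) * (g ^ i)⁻¹ = d := congrArg Subtype.val (show (⟨g ^ i, i, rfl⟩ : zpowers g) • d = d from hk)
    rw [mul_inv_eq_iff_eq_mul] at h1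
    by_contra hne
    have hi : ¬ (9 : ℤ) ∣ i := by
      intro hdvd
      apply hne
      apply Subtype.ext
      change g ^ i = 1
      rw [← orderOf_dvd_iff_zpow_eq_one, hg9]
      exact_mod_cast hdvd
    -- `g³` is a power of `g ^ i`
    have hgcd : (Int.gcd i 9 : ℤ) ∣ 3 := by
      have h2 : Int.gcd i 9 ∣ 9 := by
        have := Int.gcd_dvd_right (a := i) (b := 9)
        exact_mod_cast this
      have h4 : Int.gcd i 9 ≠ 9 := by
        intro h0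
        apply hi
        have := Int.gcd_dvd_left (a := i) (b := 9)
        rw [h0] at this
        exact_mod_cast this
      have h5 : Int.gcd i 9 ≤ 9 := Nat.le_of_dvd (by norm_num) h2
      have h6 : Int.gcd i 9 ∣ 3 := by
        generalize Int.gcd i 9 = e at *
        interval_cases e <;> omega
      exact_mod_cast h6
    obtain ⟨c, hc⟩ := hgcd
    have h2 : g ^ (3 : ℤ) = (g ^ i) ^ (Int.gcdA i 9 * c) := by
      have e1 : (3 : ℤ) = i * (Int.gcdA i 9 * c) + 9 * (Int.gcdB i 9 * c) := by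
        rw [hc, Int.gcd_eq_gcd_ab]; ring
      have e2 : g ^ (9 : ℤ) = 1 := by
        have := pow_orderOf_eq_one g
        rw [hg9] at this
        exact_mod_cast this
      conv_lhs => rw [e1]
      rw [zpow_add, zpow_mul, zpow_mul g 9, e2, one_zpow, mul_one]
    have h4 : Commute (g ^ (3 : ℤ)) (d : G) := by
      rw [h2]
      exact (show Commute (g ^ i) (d : G) from h1).zpow_left _
    have h5 : (g ^ 3) * (d : G) = d * g ^ 3 := by
      have := h4.eq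
      exact_mod_cast this
    exact d.2.2 (m.mem_V_sup hp hp1 hpz hx h3 d.2.1 h5)
  have h60 := Nat.card_congr (MulAction.selfEquivOrbitsQuotientProd hstab)
  rw [hβ, Nat.card_prod, Nat.card_zpowers, hg9] at h60
  omega

end Md

end Cfsg.Agent.OddCyclic.EmpLine
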