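import Cfsg.Agent.OddCyclic.EmpLine.BcCrit
import Cfsg.Agent.GTwoFour.Tools

/-!
# (Empty), S3-line: the kill of type `bc` on `C(z)`: the pair gives `V ≤ Y = ws V z`
-/

set_option autoImplicit false
set_option linter.unusedSectionVars false

namespace Cfsg.Agent.OddCyclic.EmpLine.BcCrit.In

open Subgroup Cfsg Cfsg.Agent.ZN Cfsg.Agent.MinSimple.Geo Cfsg.Agent.OddCyclic.GeoC Cfsg.Agent.OddCyclic.BTwoA
  Cfsg.Agent.OddCyclic.EN.Line Cfsg.Agent.OddCyclic.EN.Base Cfsg.Agent.OddCyclic.EN.RepM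
  Cfsg.Agent.OddCyclic.EN.BbDefs Cfsg.Agent.OddCyclic.EN.BbMain
open Cfsg.Agent.ZN.Block (conj_mem_of_normalizer conj_mem_of_normalizer' le_normalizer_of_forall
  mem_normalizer_of)
open scoped commutatorElement

universe u

variable {G : Type u} [Group G] [Finite G] {T V : Subgroup G} {z : G} {L Y : Subgroup G}

theorem Ysq (h : In T V z L Y) {y : G} (hy : y ∈ Y) : y * y = 1 := h.ws_sq (h.Y_le hy)

theorem Yinv (h : In T V z L Y) {y : G} (hy : y ∈ Y) : y⁻¹ = y := inv_eq_self (h.Ysq hy)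

theorem Ycomm (h : In T V z L Y) {a b : G} (ha : a ∈ Y) (hb : b ∈ Y) : a * b = b * a :=
  h.ab a (h.Y_le ha) b (h.Y_le hb)

theorem Y_le_T (h : In T V z L Y) : Y ≤ T := h.Y_le.trans h.ws_le_T

theorem Y_cz (h : In T V z L Y) : Y ≤ centralizer ({z} : Set G) := h.Y_le.trans h.ws_le_centralizer

theorem z_mem_Y (h : In T V z L Y) (hY : Y ≠ ⊥) : z ∈ Y := by
  obtain ⟨⟨y, hy⟩, hy0⟩ := Subgroup.ne_bot_iff_exists_ne_one.mp hY
  have hy1 : y ≠ 1 := fun e => hy0 (Subtype.ext e)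
  obtain ⟨n, hn, hn1, hc⟩ := Cfsg.Agent.GTwoFour.Tools.exists_fixed_mod (Y := T) (N := Y) (M := ⊥) h.two h.Y_le_T
    (fun t ht y hy => (mem_normalizer_iff.mp (h.Y_nor (h.T_le ht)) y).mp hy)
    (fun t _ m hm => by rw [mem_bot] at hm ⊢; rw [hm]; group) ⟨y, hy, by rwa [mem_bot]⟩
  rw [mem_bot] at hn1
  rcases h.soc n (h.Y_le_T hn) (h.Ysq hn) (fun s hs => by
    have := hc s hs
    rw [mem_bot] at this
    exact commutatorElement_eq_one_iff_mul_comm.mp this) with e | e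
  · exact absurd e hn1
  · rwa [← e]

/-- `z ∈ [Y, a]` -/
theorem z_mem_comm (h : In T V z L Y) (hc : Nat.card Y = 16) {a : G} (ha : a ∈ centralizer ({z} : Set G))
    (ha1 : a * a = 1) (haY : a ∉ centralizer (Y : Set G)) : ∃ y ∈ Y, a * y * a⁻¹ * y⁻¹ = z := by
  have hYb : Y ≠ ⊥ := fun e => by rw [e, Subgroup.card_bot] at hc; omega
  have hzY := h.z_mem_Y hYb
  have han := h.Y_nor ha
  have hmem : ∀ y ∈ Y, a * y * a⁻¹ * y⁻¹ ∈ Y := fun y hy =>
    Y.mul_mem ((mem_normalizer_iff.mp han y).mp hy) (Y.inv_mem hy)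
  let φ : Y →* Y :=
    { toFun := fun y => ⟨a * y * a⁻¹ * (y : G)⁻¹, hmem y y.2⟩
      map_one' := Subtype.ext (by simp)
      map_mul' := by
        rintro ⟨x, hx⟩ ⟨y, hy⟩
        refine Subtype.ext ?_
        change a * (x * y) * a⁻¹ * (x * y)⁻¹ = a * x * a⁻¹ * x⁻¹ * (a * y * a⁻¹ * y⁻¹)
        have h1 := h.Ycomm (Y.inv_mem hx) (hmem y hy)
        calc a * (x * y) * a⁻¹ * (x * y)⁻¹ = (a * x * a⁻¹) * ((a * y * a⁻¹ * y⁻¹) * x⁻¹) := by group
          _ = (a * x * a⁻¹) * (x⁻¹ * (a * y * a⁻¹ * y⁻¹)) := by rw [h1]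
          _ = _ := by group }
  have hφ : ∀ y : Y, ((φ y : Y) : G) = a * y * a⁻¹ * (y : G)⁻¹ := fun _ => rfl
  have hcard : Nat.card φ.range * Nat.card φ.ker = 16 := by
    rw [← hc, ← Subgroup.index_ker]
    exact φ.ker.index_mul_card
  have hle : φ.range ≤ φ.ker := by
    rintro _ ⟨y, rfl⟩
    rw [MonoidHom.mem_ker]
    refine Subtype.ext ?_
    rw [hφ, hφ]
    change a * (a * (y : G) * a⁻¹ * (y : G)⁻¹) * a⁻¹ * (a * (y : G) * a⁻¹ * (y : G)⁻¹)⁻¹ = 1
    have h1 : a * (y : G) * a⁻¹ * (y : G)⁻¹ * (a * (y : G) * a⁻¹ * (y : G)⁻¹) = 1 := h.Ysq (hmem y y.2)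
    have h2 : a⁻¹ = a := inv_eq_self ha1
    have h3 : (y : G)⁻¹ = y := h.Yinv y.2
    rw [h2, h3] at h1 ⊢
    have h4 : (a * (y : G) * a * (y : G))⁻¹ = (y : G) * a * (y : G) * a := by
      rw [mul_inv_rev, mul_inv_rev, mul_inv_rev, h2, h3]; group
    calc a * (a * (y : G) * a * (y : G)) * a * (a * (y : G) * a * (y : G))⁻¹
        = (a * a) * ((y : G) * a * (y : G) * a) * (a * (y : G) * a * (y : G))⁻¹ := by group
      _ = (a * (y : G) * a * (y : G))⁻¹ * (a * (y : G) * a * (y : G))⁻¹ := by rw [ha1, one_mul, ← h4]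
      _ = (a * (y : G) * a * (y : G) * (a * (y : G) * a * (y : G)))⁻¹ := (mul_inv_rev _ _).symm
      _ = 1 := by rw [h1, inv_one]
  obtain ⟨y1, hy1, hn1, _⟩ := h.big a ha haY 1
  obtain ⟨y2, hy2, hn2, hn3⟩ := h.big a ha haY (a * y1 * a⁻¹ * y1⁻¹)
  have hr3 : 2 < Nat.card φ.range := by
    classical
    have := Fintype.ofFinite φ.range
    rw [Nat.card_eq_fintype_card, Fintype.two_lt_card_iff]
    refine ⟨1, ⟨φ ⟨y1, hy1⟩, ⟨_, rfl⟩⟩, ⟨φ ⟨y2, hy2⟩, ⟨_, rfl⟩⟩, fun e => hn1 ?_, fun e => hn2 ?_, fun e => hn3 ?_⟩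
    · have := congrArg (fun t : φ.range => ((t : Y) : G)) e
      exact this.symm
    · have := congrArg (fun t : φ.range => ((t : Y) : G)) e
      exact this.symm
    · have := congrArg (fun t : φ.range => ((t : Y) : G)) e
      exact this.symm
  have hle' : Nat.card φ.range ≤ Nat.card φ.ker := Nat.card_le_card_of_injective _ (Subgroup.inclusion_injective hle)
  have hker : Nat.card φ.ker ≤ Nat.card φ.range := by
    generalize Nat.card φ.range = r at *
    generalize Nat.card φ.ker = k at *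
    have hr : r ≤ 4 := by nlinarith
    have hk : k ≤ 16 := by nlinarith
    interval_cases r <;> omega
  have heq : φ.range = φ.ker := Subgroup.eq_of_le_of_card_ge hle hker
  have hzk : (⟨z, hzY⟩ : Y) ∈ φ.range := by
    rw [heq, MonoidHom.mem_ker]
    refine Subtype.ext ?_
    rw [hφ]
    change a * z * a⁻¹ * z⁻¹ = 1
    rw [h.z_comm ha, mul_inv_cancel_right, mul_inv_cancel]
  obtain ⟨y, hy⟩ := hzk
  exact ⟨y, y.2, (hφ y).symm.trans (congrArg Subtype.val hy)⟩

/-- (2): `z ∈ Y^g` -/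
theorem z_mem_cj (h : In T V z L Y) (hc : Nat.card Y = 16) {g : G} (h1 : cj g Y ≤ centralizer ({z} : Set G))
    (h2 : Y ≤ centralizer ({g * z * g⁻¹} : Set G)) (h3 : ¬ Y ≤ centralizer ((cj g Y : Subgroup G) : Set G)) :
    z ∈ cj g Y := by
  have h4 : ¬ cj g Y ≤ centralizer (Y : Set G) := fun e => h3 (le_centralizer_iff.mp e)
  obtain ⟨a, ha, haY⟩ := Set.not_subset.mp h4
  have ha' := ha
  rw [SetLike.mem_coe, mem_cj] at ha'
  have ha1 : a * a = 1 := by
    have h5 := h.Ysq ha'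
    calc a * a = g * (g⁻¹ * a * g * (g⁻¹ * a * g)) * g⁻¹ := by group
      _ = 1 := by rw [h5]; group
  obtain ⟨y, hy, e⟩ := h.z_mem_comm hc (h1 ha) ha1 haY
  -- `y ∈ C(z^g)` normalises `Y^g`
  have h6 : y ∈ normalizer ((cj g Y : Subgroup G) : Set G) := by
    have h7 : g⁻¹ * y * g ∈ centralizer ({z} : Set G) := by
      have h8 := mem_centralizer_singleton_iff.mp (h2 hy)
      rw [mem_centralizer_singleton_iff]
      calc g⁻¹ * y * g * z = g⁻¹ * (y * (g * z * g⁻¹)) * g := by group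
        _ = g⁻¹ * (g * z * g⁻¹ * y) * g := by rw [h8]
        _ = _ := by group
    have h9 := h.Y_nor h7
    rw [mem_normalizer_iff_cj] at h9 ⊢
    calc cj y (cj g Y) = cj g (cj (g⁻¹ * y * g) Y) := by rw [cj_cj, cj_cj]; congr 1; group
      _ = cj g Y := by rw [h9]
  rw [← e]
  have e2 : a * y * a⁻¹ * y⁻¹ = a * (y * a⁻¹ * y⁻¹) := by group
  rw [e2]
  exact Subgroup.mul_mem _ ha ((mem_normalizer_iff.mp h6 _).mp (Subgroup.inv_mem _ ha))

/-- the output of (2) -/
structure Out (V : Subgroup G) (z : G) (Y : Subgroup G) : Prop where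
  V_le : V ≤ Y
  ws_eq : ws V z = Y
  tr : ∀ a ∈ Y, ∀ b ∈ Y, a ∉ zpowers z → b ∉ zpowers z → ∃ c ∈ centralizer ({z} : Set G), c * a * c⁻¹ = b
  nc : ∃ q ∈ V, q ≠ 1 ∧ q ≠ z ∧ ∃ a ∈ ws V z, ∃ b ∈ ws V q, a * b ≠ b * a

theorem out (h : In T V z L Y) (hc : Nat.card Y = 16)
    (tr0 : ∀ a ∈ Y, ∀ b ∈ Y, a ∉ zpowers z → b ∉ zpowers z →
      ∃ c ∈ centralizer ({z} : Set G), c * a * c⁻¹ = b ∨ c * a * c⁻¹ = b * z)
    (four : ∀ W : Subgroup G, Nat.card W = 4 → (∀ w ∈ W, w * w = 1) → T ≤ normalizer (W : Set G) →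
      ¬ T ≤ centralizer (W : Set G) → (∃ g ∈ normalizer (W : Set G), g * z ≠ z * g) → W = V) : Out V z Y := by
  have hYb : Y ≠ ⊥ := fun e => by rw [e, Subgroup.card_bot] at hc; omega
  have hzY := h.z_mem_Y hYb
  have hz1 : ∀ x : G, x ∉ zpowers z ↔ x ≠ 1 ∧ x ≠ z := fun x => by
    rw [mem_zpowers_iff_of_mul_self h.zz, not_or]
  -- a `T`-fixed coset
  obtain ⟨n, hn, hnz, hfix⟩ := Cfsg.Agent.GTwoFour.Tools.exists_fixed_mod (Y := T) (N := Y) (M := zpowers z) h.two
    h.Y_le_T (fun t ht y hy => (mem_normalizer_iff.mp (h.Y_nor (h.T_le ht)) y).mp hy)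
    (fun t ht m hm => by
      rcases (mem_zpowers_iff_of_mul_self h.zz).mp hm with e | e
      · rw [e]; simp
      · rw [e, h.z_comm (h.T_le ht), mul_inv_cancel_right]; exact mem_zpowers z)
    (by
      by_contra hcon
      push Not at hcon
      have h1 : Nat.card Y ≤ Nat.card (zpowers z) :=
        Nat.card_le_card_of_injective _ (Subgroup.inclusion_injective (show Y ≤ zpowers z from fun y hy => hcon y hy))
      rw [Nat.card_zpowers, orderOf_eq_prime (by rw [pow_two]; exact h.zz) h.z_ne, hc] at h1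
      omega)
  -- `T` moves `n` to `n z`
  obtain ⟨t, ht, htn⟩ : ∃ t ∈ T, t * n * t⁻¹ = n * z := by
    by_contra hcon
    push Not at hcon
    have h1 : ∀ s ∈ T, s * n = n * s := fun s hs => by
      rcases (mem_zpowers_iff_of_mul_self h.zz).mp (hfix s hs) with e | e
      · exact commutatorElement_eq_one_iff_mul_comm.mp e
      · exfalso
        refine hcon s hs ?_
        rw [commutatorElement_def] at e
        calc s * n * s⁻¹ = (s * n * s⁻¹ * n⁻¹) * n := by group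
          _ = n * z := by rw [e, h.z_comm (h.Y_cz hn)]
    rcases h.soc n (h.Y_le_T hn) (h.Ysq hn) h1 with e | e
    · exact ((hz1 n).mp hnz).1 e
    · exact ((hz1 n).mp hnz).2 e
  -- all of `Y ∖ ⟨z⟩` is one class
  have conjm : ∀ {a b c d : G}, c * a * c⁻¹ = b → (d * c) * a * (d * c)⁻¹ = d * b * d⁻¹ := by
    rintro a b c d rfl; group
  have trn : ∀ a ∈ Y, a ∉ zpowers z → ∃ c ∈ centralizer ({z} : Set G), c * n * c⁻¹ = a := by
    intro a ha haz
    obtain ⟨c, hc', e | e⟩ := tr0 n hn a ha hnz haz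
    · exact ⟨c, hc', e⟩
    · refine ⟨c * t, Subgroup.mul_mem _ hc' (h.T_le ht), ?_⟩
      rw [show c * t * n * (c * t)⁻¹ = c * (t * n * t⁻¹) * c⁻¹ by group, htn]
      have h1 := h.z_comm hc'
      calc c * (n * z) * c⁻¹ = (c * n * c⁻¹) * (c * z * c⁻¹) := by group
        _ = a * z * z := by rw [e, h1, mul_inv_cancel_right]
        _ = a := by rw [mul_assoc, h.zz, mul_one]
  have tr : ∀ a ∈ Y, ∀ b ∈ Y, a ∉ zpowers z → b ∉ zpowers z → ∃ c ∈ centralizer ({z} : Set G), c * a * c⁻¹ = b := by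
    intro a ha b hb haz hbz
    obtain ⟨c, hc', e⟩ := trn a ha haz
    obtain ⟨d, hd, e'⟩ := trn b hb hbz
    refine ⟨d * c⁻¹, Subgroup.mul_mem _ hd (Subgroup.inv_mem _ hc'), ?_⟩
    rw [← e, ← e']; group
  -- the pair
  obtain ⟨g, g1, g2, g3⟩ := h.exists_pair
  have hzq : z ∈ cj g Y := h.z_mem_cj hc g1 g2 g3
  have hqY : g * z * g⁻¹ ∈ Y := by
    have h1 : z ∈ cj g⁻¹ Y := by
      refine h.z_mem_cj hc ?_ ?_ ?_
      · rw [cj_le_iff, inv_inv]
        intro y hy
        rw [mem_cj, mem_centralizer_singleton_iff]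
        have := mem_centralizer_singleton_iff.mp (g2 hy)
        calc g⁻¹ * y * g * z = g⁻¹ * (y * (g * z * g⁻¹)) * g := by group
          _ = g⁻¹ * (g * z * g⁻¹ * y) * g := by rw [this]
          _ = _ := by group
      · intro y hy
        have := mem_centralizer_singleton_iff.mp (g1 (conj_mem_cj hy))
        rw [mem_centralizer_singleton_iff]
        calc y * (g⁻¹ * z * g⁻¹⁻¹) = g⁻¹ * ((g * y * g⁻¹) * z) * g := by group
          _ = g⁻¹ * (z * (g * y * g⁻¹)) * g := by rw [this]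
          _ = _ := by group
      · intro hle
        apply g3
        intro y hy
        refine mem_centralizer_iff.mpr ?_
        intro x hx
        rw [SetLike.mem_coe, mem_cj] at hx
        have h4 := (mem_centralizer_iff.mp (hle hx)) (g⁻¹ * y * g) (by
          rw [SetLike.mem_coe, mem_cj]
          rwa [show g⁻¹⁻¹ * (g⁻¹ * y * g) * g⁻¹ = y by group])
        calc x * y = g * ((g⁻¹ * x * g) * (g⁻¹ * y * g)) * g⁻¹ := by group
          _ = g * ((g⁻¹ * y * g) * (g⁻¹ * x * g)) * g⁻¹ := by rw [h4]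
          _ = y * x := by group
    rw [mem_cj, inv_inv] at h1
    exact h1
  set q := g * z * g⁻¹ with hq
  have hq1 : q ≠ 1 := conj_ne_one h.z_ne
  have hqq : q * q = 1 := h.Ysq hqY
  have hqz : q ≠ z := by
    intro e
    have hgC : g ∈ centralizer ({z} : Set G) := by
      rw [mem_centralizer_singleton_iff]
      calc g * z = (g * z * g⁻¹) * g := by group
        _ = z * g := by rw [← hq, e]
    apply g3
    rw [cj_eq_of_mem_normalizer (h.Y_nor hgC)]
    intro a ha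
    exact mem_centralizer_iff.mpr fun b hb => h.Ycomm hb ha
  have hqn : q ∉ zpowers z := (hz1 q).mpr ⟨hq1, hqz⟩
  have hzqc : z * q = q * z := h.Ycomm hzY hqY
  -- `c ∈ C(q)` with `c z c⁻¹ = z q`
  obtain ⟨c, hcq, hcz⟩ : ∃ c : G, c * q = q * c ∧ c * z * c⁻¹ = z * q := by
    have h1 : g⁻¹ * z * g ∈ Y := by rwa [mem_cj] at hzq
    have h2 : g⁻¹ * z * g ∉ zpowers z := by
      rw [hz1]
      refine ⟨fun e => h.z_ne ?_, fun e => hqz ?_⟩
      · calc z = g * (g⁻¹ * z * g) * g⁻¹ := by group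
          _ = 1 := by rw [e]; group
      · calc q = g * z * g⁻¹ := hq
          _ = g * (g⁻¹ * z * g) * g⁻¹ := by rw [e]
          _ = z := by group
    have h3 : g⁻¹ * z * g * z ∈ Y := Y.mul_mem h1 hzY
    have h4 : g⁻¹ * z * g * z ∉ zpowers z := by
      intro h5
      apply h2
      have := (zpowers z).mul_mem h5 (mem_zpowers z)
      rwa [mul_assoc, h.zz, mul_one] at this
    obtain ⟨d, hd, e⟩ := tr _ h1 _ h3 h2 h4
    refine ⟨g * d * g⁻¹, ?_, ?_⟩
    · rw [hq]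
      have := h.z_comm hd
      calc g * d * g⁻¹ * (g * z * g⁻¹) = g * (d * z) * g⁻¹ := by group
        _ = g * (z * d) * g⁻¹ := by rw [this]
        _ = _ := by group
    · calc g * d * g⁻¹ * z * (g * d * g⁻¹)⁻¹ = g * (d * (g⁻¹ * z * g) * d⁻¹) * g⁻¹ := by group
        _ = g * (g⁻¹ * z * g * z) * g⁻¹ := by rw [e]
        _ = z * (g * z * g⁻¹) := by group
        _ = z * q := by rw [hq]
  -- the four-group `⟨z, n⟩`
  obtain ⟨d, hd, hdq⟩ := trn q hqY hqn
  -- `d⁻¹` maps `q` to `n`; `W = {1, z, n, n z}`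
  have hnn : n * n = 1 := h.Ysq hn
  have hnz' : n * z = z * n := h.Ycomm hn hzY
  let W : Subgroup G :=
    { carrier := {1, z, n, n * z}
      mul_mem' := by
        rintro a b ha hb
        simp only [Set.mem_insert_iff, Set.mem_singleton_iff] at ha hb ⊢
        have e1 : z * (n * z) = n := by rw [← mul_assoc, ← hnz', mul_assoc, h.zz, mul_one]
        have e2 : n * (n * z) = z := by rw [← mul_assoc, hnn, one_mul]
        have e3 : n * z * z = n := by rw [mul_assoc, h.zz, mul_one]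
        have e4 : n * z * n = z := by rw [hnz', mul_assoc, hnn, mul_one]
        have e5 : n * z * (n * z) = 1 := by rw [← mul_assoc, e4, h.zz]
        rcases ha with rfl | rfl | rfl | rfl <;> rcases hb with rfl | rfl | rfl | rfl <;>
          simp [h.zz, hnn, e1, e2, e3, e4, e5, ← hnz']
      one_mem' := by simp
      inv_mem' := by
        rintro a ha
        simp only [Set.mem_insert_iff, Set.mem_singleton_iff] at ha ⊢
        have e5 : (n * z)⁻¹ = n * z := by rw [mul_inv_rev, inv_eq_self h.zz, inv_eq_self hnn, hnz']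
        rcases ha with rfl | rfl | rfl | rfl
        · simp
        · rw [inv_eq_self h.zz]; simp
        · rw [inv_eq_self hnn]; simp
        · rw [e5]; simp }
  have hW : ∀ x : G, x ∈ W ↔ x = 1 ∨ x = z ∨ x = n ∨ x = n * z := fun x => Iff.rfl
  have hWY : W ≤ Y := by
    intro x hx
    rcases (hW x).mp hx with rfl | rfl | rfl | rfl
    · exact one_mem _
    · exact hzY
    · exact hn
    · exact Y.mul_mem hn hzY
  have hn1 := ((hz1 n).mp hnz).1
  have hn2 := ((hz1 n).mp hnz).2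
  have hW4 : Nat.card W = 4 := by
    have h1 : ((W : Subgroup G) : Set G) = {1, z, n, n * z} := rfl
    have h2 : Nat.card W = ({1, z, n, n * z} : Set G).ncard := by rw [← h1]; rfl
    rw [h2, Set.ncard_insert_of_notMem, Set.ncard_insert_of_notMem, Set.ncard_pair]
    · intro e
      exact h.z_ne (by
        calc z = n⁻¹ * (n * z) := by group
          _ = 1 := by rw [← e]; group)
    · simp only [Set.mem_insert_iff, Set.mem_singleton_iff, not_or]
      exact ⟨fun e => hn2 e.symm, fun e => hn1 (by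
        calc n = (n * z) * z⁻¹ := by group
          _ = 1 := by rw [← e]; group)⟩
    · simp only [Set.mem_insert_iff, Set.mem_singleton_iff, not_or]
      exact ⟨fun e => h.z_ne e.symm, fun e => hn1 e.symm, fun e => hn2 (by
        have h3 : n = z⁻¹ := eq_inv_of_mul_eq_one_left e.symm
        rw [h3, inv_eq_self h.zz])⟩
  have hWn : ∀ x : G, (x * z * x⁻¹ ∈ W) → (x * n * x⁻¹ ∈ W) → x ∈ normalizer (W : Set G) := by
    intro x h1 h2
    have h3 : cj x W ≤ W := by
      rintro _ ⟨w, hw, rfl⟩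
      change x * w * x⁻¹ ∈ W
      rcases (hW w).mp hw with rfl | rfl | rfl | rfl
      · rw [mul_one, mul_inv_cancel]; exact one_mem _
      · exact h1
      · exact h2
      · rw [show x * (n * z) * x⁻¹ = (x * n * x⁻¹) * (x * z * x⁻¹) by group]
        exact W.mul_mem h2 h1
    rw [mem_normalizer_iff_cj]
    exact Subgroup.eq_of_le_of_card_ge h3 (by rw [card_cj])
  have hzW : z ∈ W := (hW z).mpr (Or.inr (Or.inl rfl))
  have hnW : n ∈ W := (hW n).mpr (Or.inr (Or.inr (Or.inl rfl)))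
  have hWV : W = V := by
    refine four W hW4 (fun w hw => h.Ysq (hWY hw)) (fun s hs => hWn s ?_ ?_) (fun hle => ?_) ?_
    · rw [h.z_comm (h.T_le hs), mul_inv_cancel_right]; exact hzW
    · have h1 := hfix s hs
      rw [commutatorElement_def] at h1
      have h2 : s * n * s⁻¹ * n⁻¹ ∈ W := (zpowers_le.mpr hzW) h1
      have := W.mul_mem h2 hnW
      rwa [inv_mul_cancel_right] at this
    · have h1 := (mem_centralizer_iff.mp (hle ht)) n hnW
      apply h.z_ne
      have h2 : t * n * t⁻¹ = n := by rw [← h1, mul_inv_cancel_right]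
      rw [h2] at htn
      calc z = n⁻¹ * (n * z) := by group
        _ = 1 := by rw [← htn]; group
    · -- `d⁻¹ c d`
      have hdz := h.z_comm hd
      have hdz' : d⁻¹ * z = z * d⁻¹ := by
        calc d⁻¹ * z = d⁻¹ * (z * d) * d⁻¹ := by group
          _ = d⁻¹ * (d * z) * d⁻¹ := by rw [hdz]
          _ = z * d⁻¹ := by group
      have e1 : (d⁻¹ * c * d) * z * (d⁻¹ * c * d)⁻¹ = n * z := by
        calc (d⁻¹ * c * d) * z * (d⁻¹ * c * d)⁻¹ = d⁻¹ * (c * ((d * z) * d⁻¹) * c⁻¹) * d := by group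
          _ = d⁻¹ * (c * z * c⁻¹) * d := by rw [hdz, mul_inv_cancel_right]
          _ = d⁻¹ * (z * q) * d := by rw [hcz]
          _ = (d⁻¹ * z) * (d * n * d⁻¹) * d := by rw [← hdq]; group
          _ = z * n := by rw [hdz']; group
          _ = n * z := hnz'.symm
      have e2 : (d⁻¹ * c * d) * n * (d⁻¹ * c * d)⁻¹ = n := by
        calc (d⁻¹ * c * d) * n * (d⁻¹ * c * d)⁻¹ = d⁻¹ * (c * (d * n * d⁻¹) * c⁻¹) * d := by group
          _ = d⁻¹ * (c * q * c⁻¹) * d := by rw [hdq]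
          _ = d⁻¹ * (d * n * d⁻¹) * d := by rw [hcq, mul_inv_cancel_right, hdq]
          _ = n := by group
      refine ⟨d⁻¹ * c * d, hWn _ ?_ ?_, fun e => ?_⟩
      · rw [e1]; exact W.mul_mem hnW hzW
      · rw [e2]; exact hnW
      · apply hn1
        have h3 : (d⁻¹ * c * d) * z * (d⁻¹ * c * d)⁻¹ = z := by rw [e, mul_inv_cancel_right]
        rw [e1] at h3
        calc n = (n * z) * z⁻¹ := by group
          _ = 1 := by rw [h3]; group
  have hVY : V ≤ Y := hWV ▸ hWY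
  have hws : ws V z = Y := by
    refine le_antisymm (ws_le fun M hM => ?_) h.Y_le
    obtain ⟨c, hc', rfl⟩ := h.exists_of_mem_lines hM
    rw [← cj_eq_of_mem_normalizer (h.Y_nor hc')]
    exact cj_mono hVY
  refine ⟨hVY, hws, tr, ?_⟩
  refine ⟨n, hWV ▸ hnW, hn1, hn2, ?_⟩
  obtain ⟨y, hy, hyn⟩ := Set.not_subset.mp g3
  rw [SetLike.mem_coe, mem_centralizer_iff] at hyn
  push Not at hyn
  obtain ⟨x, hx, hxy⟩ := hyn
  have hdi : d⁻¹ ∈ centralizer ({z} : Set G) := Subgroup.inv_mem _ hd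
  refine ⟨d⁻¹ * y * d, ?_, d⁻¹ * x * d, ?_, fun e => hxy ?_⟩
  · rw [hws]
    have := (mem_normalizer_iff.mp (h.Y_nor hdi) y).mp hy
    rwa [inv_inv] at this
  · have h1 : cj g Y = ws V q := by rw [← hws, cj_ws, hq]
    have h2 : d⁻¹ * x * d⁻¹⁻¹ ∈ cj d⁻¹ (cj g Y) := conj_mem_cj hx
    rw [h1, cj_ws, inv_inv] at h2
    rwa [show d⁻¹ * q * d = n by rw [← hdq]; group] at h2
  · calc x * y = d * ((d⁻¹ * x * d) * (d⁻¹ * y * d)) * d⁻¹ := by group
      _ = d * ((d⁻¹ * y * d) * (d⁻¹ * x * d)) * d⁻¹ := by rw [e]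
      _ = y * x := by group

end Cfsg.Agent.OddCyclic.EmpLine.BcCrit.In
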